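/-
Counting inside the centraliser of an element generating a Sylow subgroup of prime order.

Main results (namespace `Cfsg.Agent.Order244823040`): `commCount`, `card_cent_eq`, `orderOf_cases`,
`commCount_modEq`, `dvd_card_numOrder`.
-/
import Cfsg.Agent.EqLemmas
import Cfsg.Agent.Lib.Order10200960.Tools
import Cfsg.Agent.Lib.SameOrder.Basic

set_option autoImplicit false

open Subgroup Cfsg.Agent.SameOrder Cfsg.Agent.Order10200960

namespace Cfsg.Agent.Order244823040

variable {G : Type*} [Group G]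

/-- The number of elements of order `q` commuting with `a`. -/
noncomputable abbrev commCount (a : G) (q : ℕ) : ℕ := Nat.card {b : G // orderOf b = q ∧ a * b = b * a}

theorem mem_cnt1 {a b : G} : b ∈ cnt1 a ↔ a * b = b * a := by
  rw [mem_centralizer_singleton_iff]
  exact eq_comm

theorem commCount_eq_numOrder (a : G) (q : ℕ) : numOrder ↥(cnt1 a) q = commCount a q :=
  Nat.card_congr
    { toFun := fun b => ⟨b.1.1, (orderOf_coe b.1).trans b.2, mem_cnt1.mp b.1.2⟩
      invFun := fun b => ⟨⟨b.1, mem_cnt1.mpr b.2.2⟩, (orderOf_mk b.1 _).trans b.2.1⟩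
      left_inv := fun _ => rfl
      right_inv := fun _ => rfl }

/-- The numbers of elements of different orders add up to at most the order. -/
theorem sum_numOrder_le (G : Type*) [Group G] [Finite G] (K : Finset ℕ) :
    ∑ k ∈ K, numOrder G k ≤ Nat.card G := by
  classical
  have := Fintype.ofFinite G
  simp only [numOrder, Nat.card_eq_fintype_card, Fintype.card_subtype]
  refine le_trans (le_of_eq (Finset.card_biUnion ?_).symm) (Finset.card_le_univ _)
  exact fun x _ y _ hxy => Finset.disjoint_filter.mpr fun g _ h1 h2 => hxy (h1.symm.trans h2)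

variable [Finite G]

theorem commCount_ne_zero {a : G} {q : ℕ} (hq : q.Prime) (h : q ∣ Nat.card (cnt1 a)) : commCount a q ≠ 0 := by
  rw [← commCount_eq_numOrder]
  exact numOrder_prime_ne_zero hq h

theorem commCount_eq_zero {a : G} {q : ℕ} (h : ¬ q ∣ Nat.card (cnt1 a)) : commCount a q = 0 := by
  rw [← commCount_eq_numOrder]
  by_contra hne
  obtain ⟨b, hb⟩ := numOrder_ne_zero_iff.mp hne
  exact h (hb ▸ orderOf_dvd_natCard b)

/-- The elements of order `q` commuting with `a` agree modulo `p` with all elements of order `q`. -/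
theorem commCount_modEq {p : ℕ} [Fact p.Prime] {a : G} (ha : orderOf a = p) (q : ℕ) :
    numOrder G q ≡ commCount a q [MOD p] := by
  have hmod := Order95040.card_modEq_commute (p := p) ha {g : G | orderOf g = q} fun g hg => by
    show orderOf (a * g * a⁻¹) = q
    exact (orderOf_injective (MulAut.conj a).toMonoidHom (MulEquiv.injective _) g).trans hg
  exact hmod

variable {p : ℕ} [Fact p.Prime]

/-- An element of `p`-power order one commuting with `a` is a power of `a`. -/
theorem mem_zpowers_of_pow_eq_one (hG : ¬ p ^ 2 ∣ Nat.card G) {a x : G} (ha : orderOf a = p) (hx : x ^ p = 1)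
    (hax : a * x = x * a) : x ∈ zpowers a := by
  by_contra hne
  have hx1 : x ≠ 1 := fun e => hne (e ▸ one_mem _)
  have hox : orderOf x = p := orderOf_eq_prime hx hx1
  have hdisj : Disjoint (zpowers a) (zpowers x) := by
    rw [disjoint_iff]
    have hdvd : Nat.card ↥(zpowers a ⊓ zpowers x) ∣ p := by
      rw [← hox, ← Nat.card_zpowers]
      exact card_dvd_of_le inf_le_right
    rcases (Nat.dvd_prime Fact.out).mp hdvd with h | h
    · exact card_eq_one.mp h
    · exfalso
      have e := eq_of_le_of_card_ge (inf_le_right (a := zpowers a) (b := zpowers x))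
        (by rw [h, Nat.card_zpowers, hox])
      exact hne ((inf_eq_right.mp e) (mem_zpowers x))
  let f : ↥(zpowers a) × ↥(zpowers x) →* G :=
    MonoidHom.noncommCoprod (zpowers a).subtype (zpowers x).subtype fun u v => by
      obtain ⟨i, hi⟩ := mem_zpowers_iff.mp u.2
      obtain ⟨j, hj⟩ := mem_zpowers_iff.mp v.2
      show Commute (u : G) (v : G)
      rw [← hi, ← hj]
      exact (show Commute a x from hax).zpow_zpow i j
  have hf : Function.Injective f := by
    rw [← MonoidHom.ker_eq_bot_iff, eq_bot_iff]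
    rintro ⟨u, v⟩ h
    have h' : (u : G) * v = 1 := h
    have hu : (u : G) ∈ zpowers x := by
      rw [eq_inv_of_mul_eq_one_left h']
      exact inv_mem v.2
    have hu1 : (u : G) = 1 := disjoint_def.mp hdisj u.2 hu
    rw [hu1, one_mul] at h'
    exact mem_bot.mpr (Prod.ext (Subtype.ext hu1) (Subtype.ext h'))
  have := card_dvd_of_injective f hf
  rw [Nat.card_prod, Nat.card_zpowers, Nat.card_zpowers, ha, hox, ← pow_two] at this
  exact hG this

variable (hG : ¬ p ^ 2 ∣ Nat.card G) {a : G} (ha : orderOf a = p) {c : ℕ} (hc : Nat.card (cnt1 a) = p * c)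
include hG ha hc

omit [Finite G] [Fact p.Prime] hG ha hc in
theorem not_dvd_cofactor' (h1 : ¬ p ^ 2 ∣ Nat.card G) (h2 : Nat.card (cnt1 a) = p * c) : ¬ p ∣ c := fun h =>
  h1 ((by rw [h2, pow_two]; exact Nat.mul_dvd_mul_left p h : p ^ 2 ∣ Nat.card (cnt1 a)).trans
    (card_subgroup_dvd_card _))

/-- Every element of `C(a)` is a power of `a` times an element of order dividing the cofactor. -/
theorem exists_decomp {g : G} (hg : a * g = g * a) :
    ∃ x y : G, x ∈ zpowers a ∧ y ^ c = 1 ∧ a * y = y * a ∧ x * y = g ∧ orderOf g = orderOf x * orderOf y := by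
  have hco : p.Coprime c := (Fact.out : p.Prime).coprime_iff_not_dvd.mpr (not_dvd_cofactor' hG hc)
  obtain ⟨e, f, hef⟩ := PowEqOne.exists_split (G := G) hco
  have hgp : g ^ (p * c) = 1 := by
    have := congrArg Subtype.val (pow_card_eq_one' (x := (⟨g, mem_cnt1.mpr hg⟩ : cnt1 a)))
    rwa [SubgroupClass.coe_pow, hc] at this
  obtain ⟨h1, h2, h3, -⟩ := hef g hgp
  refine ⟨g ^ e, g ^ f, mem_zpowers_of_pow_eq_one hG ha h1 (Commute.pow_right hg e), h2,
    Commute.pow_right hg f, h3, ?_⟩
  conv_lhs => rw [← h3]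
  exact Commute.orderOf_mul_eq_mul_orderOf_of_coprime ((Commute.refl g).pow_pow e f)
    (Nat.Coprime.coprime_dvd_left (orderOf_dvd_of_pow_eq_one h1)
      (Nat.Coprime.coprime_dvd_right (orderOf_dvd_of_pow_eq_one h2) hco))

/-- The elements of order dividing the cofactor number exactly the cofactor. -/
theorem card_cent_eq : Nat.card {y : G // y ^ c = 1 ∧ a * y = y * a} = c := by
  have hco : p.Coprime c := (Fact.out : p.Prime).coprime_iff_not_dvd.mpr (not_dvd_cofactor' hG hc)
  obtain ⟨e, f, hef⟩ := PowEqOne.exists_split (G := G) hco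
  let F : ↥(zpowers a) × {y : G // y ^ c = 1 ∧ a * y = y * a} → ↥(cnt1 a) := fun s =>
    ⟨s.1.1 * s.2.1, mul_mem (zpowers_le.mpr (mem_cnt1.mpr rfl) s.1.2) (mem_cnt1.mpr s.2.2.2)⟩
  have hpow : ∀ u : ↥(zpowers a), (u : G) ^ p = 1 := fun u => by
    obtain ⟨i, hi⟩ := mem_zpowers_iff.mp u.2
    rw [← hi, ← zpow_natCast, ← zpow_mul, mul_comm, zpow_mul, zpow_natCast, ← ha, pow_orderOf_eq_one, one_zpow]
  have hcomm : ∀ (u : ↥(zpowers a)) (y : {y : G // y ^ c = 1 ∧ a * y = y * a}), Commute (u : G) y.1 :=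
    fun u y => by
      obtain ⟨i, hi⟩ := mem_zpowers_iff.mp u.2
      rw [← hi]
      exact (show Commute a y.1 from y.2.2).zpow_left i
  have hF : Function.Bijective F := by
    constructor
    · rintro ⟨u, y⟩ ⟨u', y'⟩ h
      have h' : (u : G) * y.1 = u' * y'.1 := congrArg Subtype.val h
      have hgp : ((u : G) * y.1) ^ (p * c) = 1 := by
        rw [(hcomm u y).mul_pow, pow_mul, hpow u, one_pow, one_mul, mul_comm, pow_mul, y.2.1, one_pow]
      obtain ⟨-, -, -, h4⟩ := hef _ hgp
      obtain ⟨e1, e2⟩ := h4 u y.1 (hcomm u y) (hpow u) y.2.1 rfl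
      obtain ⟨e3, e4⟩ := h4 u' y'.1 (hcomm u' y') (hpow u') y'.2.1 h'.symm
      exact Prod.ext (Subtype.ext (e1.symm.trans e3)) (Subtype.ext (e2.symm.trans e4))
    · rintro ⟨g, hg⟩
      obtain ⟨x, y, hx, hy, hay, hxy, -⟩ := exists_decomp hG ha hc (mem_cnt1.mp hg)
      exact ⟨(⟨x, hx⟩, ⟨y, hy, hay⟩), Subtype.ext hxy⟩
  have h := Nat.card_congr (Equiv.ofBijective F hF)
  rw [Nat.card_prod, Nat.card_zpowers, ha, hc] at h
  exact Nat.eq_of_mul_eq_mul_left (Fact.out : p.Prime).pos h

/-- When the elements of order 2 and 3 fill the cofactor, these are the only orders. -/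
theorem orderOf_cases (hk : 1 + commCount a 2 + commCount a 3 = c) (hdvd : 6 ∣ c)
    {g : G} (hg : a * g = g * a) : orderOf g ∈ [1, 2, 3, p, p * 2, p * 3] := by
  classical
  have := Fintype.ofFinite G
  let S : Finset G := Finset.univ.filter fun y => y ^ c = 1 ∧ a * y = y * a
  have hS : S.card = c := by
    have := card_cent_eq hG ha hc
    rwa [Nat.card_eq_fintype_card, Fintype.card_subtype] at this
  let T : ℕ → Finset G := fun q => Finset.univ.filter fun y => orderOf y = q ∧ a * y = y * a
  have hT : ∀ q, (T q).card = commCount a q := fun q => by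
    rw [commCount, Nat.card_eq_fintype_card, Fintype.card_subtype]
  have hsub : insert (1 : G) (T 2 ∪ T 3) ⊆ S := fun y hy => by
    simp only [Finset.mem_insert, Finset.mem_union, T, Finset.mem_filter, Finset.mem_univ, true_and, S] at hy ⊢
    rcases hy with rfl | ⟨h, h'⟩ | ⟨h, h'⟩
    · simp
    · exact ⟨orderOf_dvd_iff_pow_eq_one.mp (h ▸ (dvd_mul_right 2 3).trans hdvd), h'⟩
    · exact ⟨orderOf_dvd_iff_pow_eq_one.mp (h ▸ (dvd_mul_left 3 2).trans hdvd), h'⟩
  have hcard : (insert (1 : G) (T 2 ∪ T 3)).card = c := by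
    rw [Finset.card_insert_of_notMem, Finset.card_union_of_disjoint, hT, hT]
    · omega
    · exact Finset.disjoint_filter.mpr fun y _ h1 h2 => by omega
    · simp [T]
  have heq := Finset.eq_of_subset_of_card_le hsub (by omega)
  obtain ⟨x, y, hx, hy, hay, hxy, ho⟩ := exists_decomp hG ha hc hg
  have hyS : y ∈ insert (1 : G) (T 2 ∪ T 3) := heq ▸ by simp [S, hy, hay]
  have hox : orderOf x = 1 ∨ orderOf x = p := by
    refine (Nat.dvd_prime Fact.out).mp ?_
    have h := orderOf_dvd_natCard (⟨x, hx⟩ : zpowers a)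
    rwa [orderOf_mk, Nat.card_zpowers, ha] at h
  have hoy : orderOf y = 1 ∨ orderOf y = 2 ∨ orderOf y = 3 := by
    simp only [Finset.mem_insert, Finset.mem_union, T, Finset.mem_filter, Finset.mem_univ, true_and] at hyS
    rcases hyS with rfl | ⟨h, -⟩ | ⟨h, -⟩
    · exact Or.inl orderOf_one
    · exact Or.inr (Or.inl h)
    · exact Or.inr (Or.inr h)
  rcases hox with hox | hox <;> rcases hoy with hoy | hoy | hoy <;> simp [ho, hox, hoy]

end Cfsg.Agent.Order244823040
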