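/-
No simple group of order 48384 with self-centralising Sylow 7-subgroups has an involution commuting with a
Sylow 3-subgroup.

Main results (namespace `Cfsg.Agent.Order244823040`): `false_of_48384`.
-/
import Cfsg.Agent.EqLemmas
import Cfsg.Agent.Lib.SmallOrders.BlockDegrees.Criterion
import Cfsg.Agent.Lib.SmallOrders.BlockDegrees.ValueCheck
import Cfsg.Agent.Lib.SmallOrders.BlockDegrees.ValueFormula
import Cfsg.Agent.Lib.ClassCount.CharSum
import Cfsg.Agent.Lib.Char.Integral

set_option autoImplicit false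
set_option maxRecDepth 4000

namespace Cfsg.Agent.Order244823040

open Cfsg Subgroup
open Cfsg.Agent.SmallOrders Cfsg.Agent.SmallOrders.BlockDegrees
open Cfsg.Agent.CyclicDefect (K)

/-- The conditions on two signed degrees. -/
def degOK (a b : ℤ) : Bool :=
  decide ((1 + a + b).natAbs ∣ 48384) && decide (2 ≤ (1 + a + b).natAbs) && decide ((1 + a + b) % 7 = 3) &&
  decide (1 + (a.natAbs ^ 2 + b.natAbs ^ 2) + 2 * (1 + a + b).natAbs ^ 2 ≤ 48384)

/-- The conditions on the signed values. -/
def valOK (a u b v : ℤ) : Bool :=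
  decide ((1 + (u + v)).natAbs < (1 + a + b).natAbs) && decide ((1 + a + b - (1 + (u + v))) % 4 = 0) &&
  decide ((48384 : ℤ) + (u ^ 2 * (48384 / a) + v ^ 2 * (48384 / b)) -
    (1 + (u + v)) ^ 2 * (48384 / (1 + a + b)) = 0)

theorem block_check : (degCand 48384 7 2 220).all (fun a => (degCand 48384 7 2 220).all fun b =>
    !degOK a b || (vCand a).all fun u => (vCand b).all fun v => !valOK a u b v ||
      ((a == -6 && u.natAbs == 2) || (b == -6 && v.natAbs == 2))) = true := by decide +kernel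

theorem mem_degCand_48384 {a : ℤ} (h1 : a.natAbs ∣ 48384) (h2 : 2 ≤ a.natAbs) (h3 : a % 7 = 1)
    (h4 : a.natAbs < 220) : a ∈ degCand 48384 7 2 220 := by
  refine List.mem_flatMap.mpr ⟨a.natAbs, List.mem_range.mpr h4, ?_⟩
  rw [if_pos ⟨h1, h2⟩, List.mem_append]
  rcases Int.natAbs_eq a with e | e
  · left
    rw [← e, if_pos (by exact_mod_cast h3)]
    exact List.mem_singleton.mpr rfl
  · right
    rw [show -((a.natAbs : ℕ) : ℤ) = a from e.symm, if_pos (by exact_mod_cast h3)]
    exact List.mem_singleton.mpr rfl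

theorem mem_vCand' {a u : ℤ} (h1 : u.natAbs < a.natAbs) (h2 : (a - u) % 4 = 0) : u ∈ vCand a := by
  refine List.mem_filter.mpr ⟨List.mem_map.mpr ⟨(u + (a.natAbs : ℤ)).toNat, List.mem_range.mpr ?_, ?_⟩, ?_⟩
  · omega
  · omega
  · simp only [Bool.and_eq_true, decide_eq_true_eq]; exact ⟨h1, h2⟩

variable {G : Type*} [Group G] [Finite G] [IsSimpleGroup G]

theorem false_of_48384 (hna : ¬ IsMulCommutative G) (h : Nat.card G = 48384) {x t : G} (hx : orderOf x = 7)
    (hC : Nat.card (centralizer ({x} : Set G)) = 7)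
    (hN : Nat.card (normalizer (zpowers x : Set G)) = 21) (ht : orderOf t = 2)
    (h27 : 27 ∣ Nat.card (centralizer ({t} : Set G))) : False := by
  classical
  have : Fact (Nat.Prime 7) := ⟨by norm_num⟩
  obtain ⟨L, A, E, σ, ε, χe, u, hS, hcK, hD, hχe, hu, hEd, hval, hzero⟩ :=
    exists_valData hna (p := 7) (c := 1) (e := 3) (lo := 2) (by norm_num) hx
      (by rw [h]; norm_num) (by rw [hC]) (by rw [hN]) (Or.inl le_rfl) ht
  have hno : ¬ ∃ a, IsConj t a ∧ a * x * a⁻¹ = x⁻¹ := by
    rintro ⟨a, ha, hax⟩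
    have ha2 : orderOf a = 2 := by
      obtain ⟨c, rfl⟩ := isConj_iff.mp ha
      rw [← ht]
      exact orderOf_injective (MulAut.conj c).toMonoidHom (MulAut.conj c).injective t
    have hmem : a ∈ normalizer (zpowers x : Set G) := by
      refine mem_normalizer_fintype fun g hg => ?_
      obtain ⟨k, rfl⟩ := mem_zpowers_iff.mp hg
      rw [← conj_zpow, hax]
      exact zpow_mem (inv_mem (mem_zpowers x)) k
    have h2 := Subgroup.orderOf_dvd_natCard _ hmem
    rw [ha2, hN] at h2
    norm_num at h2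
  have hform := hzero hno
  obtain ⟨⟨hcard, hX, hy1, hy2, hy3, hsum, hsq⟩, hP, hw1, hw2, -, -⟩ := hval
  obtain ⟨α, β, hαβ, rfl⟩ := Finset.card_eq_two.mp (by
    have := hD.cardA; omega : A.card = 2)
  have hAval : ({α, β} : Finset (IrrCharacter G)).val = α ::ₘ β ::ₘ 0 := by
    rw [Finset.insert_val, Finset.singleton_val, Multiset.ndinsert_of_notMem (by simpa using hαβ)]
    rfl
  rw [hAval] at hX hsum hsq hP hw1 hw2 hform
  simp only [Multiset.map_cons, Multiset.map_zero, Multiset.sum_cons, Multiset.sum_zero, add_zero,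
    Nat.cast_one, one_mul, h] at hX hsum hsq hP hw1 hw2 hform
  set a : ℤ := σ α * (charDegree (α : G → ℂ) : ℤ) with ha
  set b : ℤ := σ β * (charDegree (β : G → ℂ) : ℤ) with hb
  set y : ℤ := ε * (charDegree (χe : G → ℂ) : ℤ) with hy
  obtain ⟨ha1, ha2, ha3⟩ := hX a (Multiset.mem_cons_self _ _)
  obtain ⟨hb1, hb2, hb3⟩ := hX b (Multiset.mem_cons_of_mem (Multiset.mem_cons_self _ _))
  obtain ⟨hu1, hu2⟩ := hP (a, σ α * u α) (Multiset.mem_cons_self _ _)
  obtain ⟨hv1, hv2⟩ := hP (b, σ β * u β) (Multiset.mem_cons_of_mem (Multiset.mem_cons_self _ _))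
  have hlt : a.natAbs < 220 ∧ b.natAbs < 220 :=
    ⟨Nat.mul_self_lt_mul_self_iff.mp (by rw [← pow_two]; omega),
      Nat.mul_self_lt_mul_self_iff.mp (by rw [← pow_two]; omega)⟩
  rw [← add_assoc] at hsum
  have h0 := List.all_eq_true.mp (List.all_eq_true.mp block_check a
    (mem_degCand_48384 ha1 ha2 (by exact_mod_cast ha3) hlt.1)) b
    (mem_degCand_48384 hb1 hb2 (by exact_mod_cast hb3) hlt.2)
  have hdeg : degOK a b = true := by
    simp only [degOK, Bool.and_eq_true, decide_eq_true_eq, hsum]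
    rw [h] at hy1
    exact ⟨⟨⟨hy1, hy2⟩, by exact_mod_cast hy3⟩, by omega⟩
  rw [hdeg, Bool.not_true, Bool.false_or] at h0
  have h1 := List.all_eq_true.mp (List.all_eq_true.mp h0 _ (mem_vCand' hu1 hu2)) _ (mem_vCand' hv1 hv2)
  have hv : valOK a (σ α * u α) b (σ β * u β) = true := by
    simp only [valOK, Bool.and_eq_true, decide_eq_true_eq, hsum]
    exact ⟨⟨hw1, hw2⟩, by push_cast at hform ⊢; exact hform⟩
  rw [hv, Bool.not_true, Bool.false_or] at h1
  simp only [Bool.or_eq_true, Bool.and_eq_true, beq_iff_eq] at h1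
  -- the central character
  have key : ∀ χ ∈ ({α, β} : Finset (IrrCharacter G)), σ χ * (charDegree (χ : G → ℂ) : ℤ) = -6 →
      (σ χ * u χ).natAbs = 2 → False := by
    intro χ hχ hd hval
    have hd6 : charDegree (χ : G → ℂ) = 6 ∧ (u χ = 2 ∨ u χ = -2) := by
      rcases hD.sign χ hχ with e | e <;> rw [e] at hd hval <;> omega
    have hint := ClassCount.isIntegral_omega χ.2 t
    have hdvd : (6 : ℕ) ∣ Nat.card {g : G // IsConj t g} * 2 := by
      refine Char.nat_dvd_of_isIntegral_div (by norm_num) ?_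
      have h6 : (χ : G → ℂ) 1 = 6 := by
        rw [← Blocks.charDegree_cast χ, hd6.1]; norm_num
      rcases hd6.2 with e | e
      · rw [ClassCount.omega, hu χ, e, h6] at hint
        push_cast at hint ⊢
        exact hint
      · rw [ClassCount.omega, hu χ, e, h6] at hint
        have := hint.neg
        push_cast at this ⊢
        convert this using 1
        ring
    have h3 : 3 ∣ Nat.card {g : G // IsConj t g} := by omega
    have hmul := card_isConj_class t
    rw [h] at hmul
    obtain ⟨i, hi⟩ := h3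
    obtain ⟨j, hj⟩ := h27
    rw [hi, hj, show 3 * i * (27 * j) = 81 * (i * j) by ring] at hmul
    omega
  rcases h1 with h1 | h1
  · exact key α (by simp) h1.1 h1.2
  · exact key β (by simp) h1.1 h1.2

end Cfsg.Agent.Order244823040
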