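/-
The element orders and their numbers in a group of order 244823040 with the set of values of `M24`.

Main results (namespace `Cfsg.Agent.Order244823040`): `valueList`, `NseHyp`, `OrderData`,
`orderData_of_nse`.
-/
import Cfsg.Agent.Lib.Order244823040.Basic
import Mathlib.GroupTheory.SpecificGroups.Cyclic

set_option autoImplicit false

open Subgroup Cfsg.Agent.SameOrder Cfsg.Agent.SmallOrders Cfsg.Agent.Order10200960

namespace Cfsg.Agent.Order244823040

/-- The values taken in `M24` by the numbers of elements of each order. -/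
def valueList : List ℕ :=
  [1, 43263, 712448, 4080384, 5100480, 11658240, 12241152, 15301440, 20401920, 21288960, 22256640, 23316480,
    32643072, 34974720, 40803840]

/-- The hypothesis on the values, in terms of the list. -/
def NseHyp (G : Type*) [Group G] : Prop :=
  (∀ m, numOrder G m = 0 ∨ numOrder G m ∈ valueList) ∧ ∀ v ∈ valueList, ∃ m, numOrder G m = v

/-- The value at a prime is forced. -/
def forced : List (ℕ × ℕ) :=
  [(2, 43263), (3, 712448), (5, 4080384), (7, 11658240), (11, 22256640), (23, 21288960)]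

theorem forced_check : forced.all (fun e => valueList.all fun v =>
    v == e.2 || v % (e.1 - 1) != 0 || (v + 1) % e.1 != 0 || v == 1) = true := by decide +kernel

/-- The facts on orders of elements. -/
structure OrderData (G : Type*) [Group G] : Prop where
  card : Nat.card G = 244823040
  num_two : numOrder G 2 = 43263
  num_three : numOrder G 3 = 712448
  num_six : numOrder G 6 = 20401920
  num_eleven : numOrder G 11 = 22256640
  cent_twentythree : ∀ g : G, orderOf g = 23 → Nat.card (cnt1 g) = 23
  cent_eleven : ∀ g : G, orderOf g = 11 → Nat.card (cnt1 g) = 11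
  norm_eleven : ∀ g : G, orderOf g = 11 → Nat.card (nrm g) = 110
  cent_seven : ∀ g : G, orderOf g = 7 →
    Nat.card (cnt1 g) = 7 * 6 ∧ commCount g 2 = 3 ∧ commCount g 3 = 2
  norm_seven : ∀ g : G, orderOf g = 7 → Nat.card (nrm g) = 126
  cent_five : ∀ g : G, orderOf g = 5 →
    Nat.card (cnt1 g) = 5 * 12 ∧ commCount g 2 = 3 ∧ commCount g 3 = 8
  norm_five : ∀ g : G, orderOf g = 5 → Nat.card (nrm g) = 240

variable {G : Type*} [Group G] [Finite G] (hn : Nat.card G = 244823040) (H : NseHyp G)
include hn H

omit [Finite G] hn in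
theorem value_le (m : ℕ) : numOrder G m ≤ 40803840 := by
  rcases H.1 m with h | h
  · omega
  · exact (by decide +kernel : ∀ x ∈ valueList, x ≤ 40803840) _ h

theorem numOrder_two : numOrder G 2 = 43263 := by
  have hp : Nat.Prime 2 := Nat.prime_two
  have hd : 2 ∣ Nat.card G := by rw [hn]; norm_num
  have hmem := (H.1 2).resolve_left (numOrder_prime_ne_zero hp hd)
  have h2 := dvd_prime hp hd
  by_contra hne
  have h1 : numOrder G 2 = 1 := by
    simp only [valueList, List.mem_cons, List.not_mem_nil, or_false] at hmem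
    omega
  obtain ⟨m, hm⟩ := H.2 43263 (by decide)
  rcases Nat.lt_or_ge m 3 with h | h
  · interval_cases m
    · obtain ⟨g, hg⟩ := numOrder_ne_zero_iff.mp (show numOrder G 0 ≠ 0 by omega)
      exact (orderOf_pos g).ne' hg
    · rw [numOrder_one] at hm; omega
    · omega
  · have := ((even_iff_two_dvd.mp (Nat.totient_even h)).trans (totient_dvd (G := G) m))
    rw [hm] at this
    omega

theorem numOrder_forced {p v : ℕ} (hp : p.Prime) (he : (p, v) ∈ forced) : numOrder G p = v := by
  have hd : p ∣ Nat.card G := by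
    rw [hn]
    simp only [forced, List.mem_cons, Prod.mk.injEq, List.not_mem_nil, or_false] at he
    rcases he with h | h | h | h | h | h <;> rw [h.1] <;> norm_num
  rcases eq_or_ne p 2 with rfl | hp2
  · simp only [forced, List.mem_cons, Prod.mk.injEq, List.not_mem_nil, or_false] at he
    rw [numOrder_two hn H]
    omega
  have hmem := (H.1 p).resolve_left (numOrder_prime_ne_zero hp hd)
  have h1 := totient_dvd (G := G) p
  rw [Nat.totient_prime hp] at h1
  have h2 := dvd_prime hp hd
  have h := List.all_eq_true.mp (List.all_eq_true.mp forced_check _ he) _ hmem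
  simp only [Bool.or_eq_true, beq_iff_eq, bne_iff_ne] at h
  rcases h with ((h | h) | h) | h
  · exact h
  · exact absurd (Nat.mod_eq_zero_of_dvd h1) h
  · rw [add_comm] at h2
    exact absurd (Nat.mod_eq_zero_of_dvd h2) h
  · exfalso
    rw [h] at h1
    have := Nat.dvd_one.mp h1
    have := hp.two_le
    omega

theorem norm_prime {p v k : ℕ} [Fact p.Prime] (he : (p, v) ∈ forced) (hv : 0 < v) {m : ℕ}
    (hpm : 244823040 = p ^ 1 * m) (hm : ¬ p ∣ m) (hk : k * v = 244823040 * (p - 1)) {a : G}
    (ha : orderOf a = p) : Nat.card (nrm a) = k := by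
  obtain ⟨h, -, -⟩ := prime_data (hn.trans hpm) hm ha
  rw [numOrder_forced hn H Fact.out he, hn, ← hk] at h
  exact Nat.eq_of_mul_eq_mul_right hv h

/-- The number of elements of order `p * q` is a fixed multiple of that of order `p`. -/
theorem pair_count {p v q m : ℕ} [Fact p.Prime] (he : (p, v) ∈ forced) (hpm : 244823040 = p ^ 1 * m)
    (hm : ¬ p ∣ m) (hpq : Nat.Coprime p q) (hq : q ≠ 0) {a : G} (ha : orderOf a = p) :
    numOrder G (p * q) = v * commCount a q := by
  rw [numOrder_mul hpq (Fact.out : p.Prime).ne_zero hq fun b hb =>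
    commuting_const (fun Q => by rw [card_sylow_subgroup (hn.trans hpm) hm Q, pow_one]) hb ha,
    numOrder_forced hn H Fact.out he]

theorem cent_twentythree {a : G} (ha : orderOf a = 23) : Nat.card (cnt1 a) = 23 := by
  have : Fact (Nat.Prime 23) := ⟨by norm_num⟩
  have he : (23, 21288960) ∈ forced := by decide
  have hN := norm_prime hn H he (by norm_num) (m := 10644480) (by norm_num) (by norm_num) (k := 253) (by norm_num) ha
  obtain ⟨-, ⟨c, hc⟩, hdvd⟩ := prime_data (m := 10644480) (hn.trans (by norm_num)) (by norm_num) ha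
  rw [hN, hc] at hdvd
  rw [hc]
  rcases (Nat.dvd_prime (show Nat.Prime 11 by norm_num)).mp
    (Nat.dvd_of_mul_dvd_mul_left (by norm_num) (hdvd : 23 * c ∣ 23 * 11)) with rfl | rfl
  · rfl
  · exfalso
    have hk := commCount_ne_zero (a := a) (show Nat.Prime 11 by norm_num) (hc ▸ dvd_mul_left 11 23)
    have ht := totient_dvd (G := ↥(cnt1 a)) 11
    rw [commCount_eq_numOrder, Nat.totient_prime (by norm_num)] at ht
    have h1 := pair_count hn H he (q := 11) (m := 10644480) (by norm_num) (by norm_num) (by norm_num) (by norm_num) ha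
    have h2 := value_le H (23 * 11)
    obtain ⟨i, hi⟩ := ht
    omega

theorem norm_eleven {a : G} (ha : orderOf a = 11) : Nat.card (nrm a) = 110 :=
  have : Fact (Nat.Prime 11) := ⟨by norm_num⟩
  norm_prime hn H (p := 11) (v := 22256640) (by decide) (by norm_num) (m := 22256640) (by norm_num) (by norm_num)
    (by norm_num) ha

theorem cent_eleven {a : G} (ha : orderOf a = 11) : Nat.card (cnt1 a) = 11 := by
  have : Fact (Nat.Prime 11) := ⟨by norm_num⟩
  have he : (11, 22256640) ∈ forced := by decide
  obtain ⟨-, ⟨c, hc⟩, hdvd⟩ := prime_data (m := 22256640) (hn.trans (by norm_num)) (by norm_num) ha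
  rw [norm_eleven hn H ha, hc] at hdvd
  have hc10 : c ∣ 10 := Nat.dvd_of_mul_dvd_mul_left (by norm_num) (hdvd : 11 * c ∣ 11 * 10)
  have h5 : ¬ 5 ∣ c := fun h5 => by
    have hk := commCount_ne_zero (a := a) (show Nat.Prime 5 by norm_num) (hc ▸ h5.mul_left 11)
    have ht := totient_dvd (G := ↥(cnt1 a)) 5
    rw [commCount_eq_numOrder, Nat.totient_prime (by norm_num)] at ht
    have h1 := pair_count hn H he (q := 5) (m := 22256640) (by norm_num) (by norm_num) (by norm_num) (by norm_num) ha
    have h2 := value_le H (11 * 5)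
    obtain ⟨i, hi⟩ := ht
    omega
  have h2 : ¬ 2 ∣ c := fun h2 => by
    have hk := commCount_ne_zero (a := a) Nat.prime_two (hc ▸ h2.mul_left 11)
    have hmod := commCount_modEq ha 2
    rw [numOrder_two hn H] at hmod
    have h1 := pair_count hn H he (q := 2) (m := 22256640) (by norm_num) (by norm_num) (by norm_num) (by norm_num) ha
    have h2' := value_le H (11 * 2)
    unfold Nat.ModEq at hmod
    omega
  rw [hc]
  have := Nat.le_of_dvd (by norm_num) hc10
  interval_cases c <;> omega

theorem norm_seven {a : G} (ha : orderOf a = 7) : Nat.card (nrm a) = 126 :=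
  have : Fact (Nat.Prime 7) := ⟨by norm_num⟩
  norm_prime hn H (p := 7) (v := 11658240) (by decide) (by norm_num) (m := 34974720) (by norm_num) (by norm_num)
    (by norm_num) ha

theorem cent_seven {a : G} (ha : orderOf a = 7) :
    Nat.card (cnt1 a) = 7 * 6 ∧ commCount a 2 = 3 ∧ commCount a 3 = 2 := by
  have : Fact (Nat.Prime 7) := ⟨by norm_num⟩
  have he : (7, 11658240) ∈ forced := by decide
  obtain ⟨-, ⟨c, hc⟩, hdvd⟩ := prime_data (m := 34974720) (hn.trans (by norm_num)) (by norm_num) ha
  rw [norm_seven hn H ha, hc] at hdvd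
  have hc18 : c ∣ 18 := Nat.dvd_of_mul_dvd_mul_left (by norm_num) (hdvd : 7 * c ∣ 7 * 18)
  have hk2 : commCount a 2 = 3 := by
    have hmod := commCount_modEq ha 2
    rw [numOrder_two hn H] at hmod
    have h1 := pair_count hn H he (q := 2) (m := 34974720) (by norm_num) (by norm_num) (by norm_num) (by norm_num) ha
    have h2 := value_le H (7 * 2)
    unfold Nat.ModEq at hmod
    omega
  have hk3 : commCount a 3 = 2 := by
    have hmod := commCount_modEq ha 3
    rw [numOrder_forced hn H (p := 3) (v := 712448) (by norm_num) (by decide)] at hmod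
    have h1 := pair_count hn H he (q := 3) (m := 34974720) (by norm_num) (by norm_num) (by norm_num) (by norm_num) ha
    have h2 := value_le H (7 * 3)
    unfold Nat.ModEq at hmod
    omega
  refine ⟨?_, hk2, hk3⟩
  have d2 : 2 ∣ c := by
    by_contra h
    have := commCount_eq_zero (a := a) (q := 2) fun hd => h (by rw [hc] at hd; omega)
    omega
  have d3 : 3 ∣ c := by
    by_contra h
    have := commCount_eq_zero (a := a) (q := 3) fun hd => h (by rw [hc] at hd; omega)
    omega
  have d9 : ¬ 9 ∣ c := fun h9 => by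
    have hC : 3 ^ 2 ∣ Nat.card (cnt1 a) := hc ▸ h9.mul_left 7
    have hf := dvd_prime_sq (G := ↥(cnt1 a)) Nat.prime_three hC
    rw [commCount_eq_numOrder, commCount_eq_numOrder, hk3] at hf
    have h1 := pair_count hn H he (q := 3 ^ 2) (m := 34974720) (by norm_num) (by norm_num) (by norm_num) (by norm_num) ha
    have h2 := value_le H (7 * 3 ^ 2)
    omega
  rw [hc]
  have := Nat.le_of_dvd (by norm_num) hc18
  interval_cases c <;> omega

theorem norm_five {a : G} (ha : orderOf a = 5) : Nat.card (nrm a) = 240 :=
  have : Fact (Nat.Prime 5) := ⟨by norm_num⟩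
  norm_prime hn H (p := 5) (v := 4080384) (by decide) (by norm_num) (m := 48964608) (by norm_num) (by norm_num)
    (by norm_num) ha

theorem counts_five {a : G} (ha : orderOf a = 5) :
    commCount a 2 = 3 ∧ commCount a 3 = 8 ∧
      ∃ c, Nat.card (cnt1 a) = 5 * c ∧ c ∣ 48 ∧ 12 ∣ c := by
  classical
  have : Fact (Nat.Prime 5) := ⟨by norm_num⟩
  have he : (5, 4080384) ∈ forced := by decide
  have hN := norm_five hn H ha
  obtain ⟨-, ⟨c, hc⟩, hdvd⟩ := prime_data (m := 48964608) (hn.trans (by norm_num)) (by norm_num) ha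
  rw [hN, hc] at hdvd
  have hc48 : c ∣ 48 := Nat.dvd_of_mul_dvd_mul_left (by norm_num) (hdvd : 5 * c ∣ 5 * 48)
  have h4 : 12 ∣ c := by
    let θ := (zpowers a).normalizerMonoidHom
    have hk : θ.ker = (cnt1 a).subgroupOf (nrm a) := by
      rw [cnt1, ← SmallOrders.centralizer_zpowers]; exact (zpowers a).normalizerMonoidHom_ker
    have hr : Nat.card θ.range ∣ 4 := (card_subgroup_dvd_card _).trans (dvd_of_eq (by
      rw [IsCyclic.card_mulAut, Nat.card_zpowers, ha]; decide))
    have hmul := θ.ker.card_mul_index
    rw [Subgroup.index_ker, hk, Nat.card_congr (subgroupOfEquivOfLe (cnt1_le_nrm a)).toEquiv, hc, hN] at hmul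
    have hle := Nat.le_of_dvd (by norm_num) hr
    have hcle := Nat.le_of_dvd (by norm_num) hc48
    obtain ⟨r, hr'⟩ := hr
    generalize Nat.card θ.range = R at hmul hle hr'
    interval_cases R <;> omega
  have hk2 : commCount a 2 = 3 := by
    have hmod := commCount_modEq ha 2
    rw [numOrder_two hn H] at hmod
    have hev := dvd_prime (G := ↥(cnt1 a)) Nat.prime_two (by rw [hc]; omega)
    rw [commCount_eq_numOrder] at hev
    have h1 := pair_count hn H he (q := 2) (m := 48964608) (by norm_num) (by norm_num) (by norm_num) (by norm_num) ha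
    have h2 := value_le H (5 * 2)
    unfold Nat.ModEq at hmod
    omega
  have hk3 : commCount a 3 = 8 := by
    have hmod := commCount_modEq ha 3
    rw [numOrder_forced hn H (p := 3) (v := 712448) (by norm_num) (by decide)] at hmod
    have ht := totient_dvd (G := ↥(cnt1 a)) 3
    rw [commCount_eq_numOrder, Nat.totient_prime (by norm_num)] at ht
    have h1 := pair_count hn H he (q := 3) (m := 48964608) (by norm_num) (by norm_num) (by norm_num) (by norm_num) ha
    have h2 := value_le H (5 * 3)
    unfold Nat.ModEq at hmod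
    omega
  exact ⟨hk2, hk3, c, hc, hc48, h4⟩

end Cfsg.Agent.Order244823040
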