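/-
The classes of involutions, given the orders of elements.

Main results (namespace `Cfsg.Agent.Order244823040`): `IsZ`, `IsU`, `class_in_subgroup`, `isConj_z`,
`isConj_u`, `card_cent_u`, `card_uset`, `z_dichotomy`.
-/
import Cfsg.Agent.Lib.Order244823040.Orders
import Cfsg.Agent.Lib.SmallOrders.BlockDegrees.ValueFormula

set_option autoImplicit false

open Subgroup Cfsg.Agent.SameOrder Cfsg.Agent.SmallOrders Cfsg.Agent.Order10200960

namespace Cfsg.Agent.Order244823040

variable {G : Type*} [Group G]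

/-- An involution commuting with an element of order seven. -/
def IsZ (t : G) : Prop := orderOf t = 2 ∧ ∃ a : G, orderOf a = 7 ∧ a * t = t * a

/-- An involution commuting with an element of order five. -/
def IsU (t : G) : Prop := orderOf t = 2 ∧ ∃ a : G, orderOf a = 5 ∧ a * t = t * a

theorem orderOf_conj (u x : G) : orderOf (u * x * u⁻¹) = orderOf x :=
  orderOf_injective (MulAut.conj u).toMonoidHom (MulEquiv.injective _) x

theorem conj_comm {u a b : G} (h : a * b = b * a) :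
    u * a * u⁻¹ * (u * b * u⁻¹) = u * b * u⁻¹ * (u * a * u⁻¹) :=
  (show Commute a b from h).map (MulAut.conj u).toMonoidHom

theorem mul_self_of_two {t : G} (ht : orderOf t = 2) : t * t = 1 := by
  rw [← pow_two, ← ht, pow_orderOf_eq_one]

theorem inv_of_two {t : G} (ht : orderOf t = 2) : t⁻¹ = t :=
  inv_eq_of_mul_eq_one_right (mul_self_of_two ht)

theorem ne_one_of_two {t : G} (ht : orderOf t = 2) : t ≠ 1 := fun e => by
  rw [e, orderOf_one] at ht
  norm_num at ht

theorem IsZ.conj {t : G} (h : IsZ t) (u : G) : IsZ (u * t * u⁻¹) :=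
  ⟨(orderOf_conj u t).trans h.1, by
    obtain ⟨a, ha, hat⟩ := h.2
    exact ⟨u * a * u⁻¹, (orderOf_conj u a).trans ha, conj_comm hat⟩⟩

theorem IsU.conj {t : G} (h : IsU t) (u : G) : IsU (u * t * u⁻¹) :=
  ⟨(orderOf_conj u t).trans h.1, by
    obtain ⟨a, ha, hat⟩ := h.2
    exact ⟨u * a * u⁻¹, (orderOf_conj u a).trans ha, conj_comm hat⟩⟩

variable [Finite G]

/-- The conjugates of an element of a subgroup under that subgroup. -/
theorem class_in_subgroup (N : Subgroup G) {t : G} (ht : t ∈ N) :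
    Nat.card {g : G // ∃ n ∈ N, n * t * n⁻¹ = g} * Nat.card ↥(N ⊓ cnt1 t) = Nat.card N := by
  have h := card_isConj_class (⟨t, ht⟩ : N)
  have e1 : Nat.card {g : G // ∃ n ∈ N, n * t * n⁻¹ = g} = Nat.card {g : N // IsConj ⟨t, ht⟩ g} :=
    Nat.card_congr
      { toFun := fun g => ⟨⟨g.1, by
          obtain ⟨n, hn, e⟩ := g.2
          rw [← e]
          exact mul_mem (mul_mem hn ht) (inv_mem hn)⟩, by
          obtain ⟨n, hn, e⟩ := g.2
          exact isConj_iff.mpr ⟨⟨n, hn⟩, Subtype.ext e⟩⟩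
        invFun := fun g => ⟨g.1.1, by
          obtain ⟨n, e⟩ := isConj_iff.mp g.2
          exact ⟨n, n.2, congrArg Subtype.val e⟩⟩
        left_inv := fun _ => rfl
        right_inv := fun _ => rfl }
  have e2 : Nat.card ↥(N ⊓ cnt1 t) = Nat.card ↥(centralizer ({(⟨t, ht⟩ : N)} : Set N)) :=
    Nat.card_congr
      { toFun := fun g => ⟨⟨g.1, g.2.1⟩, mem_centralizer_singleton_iff.mpr
          (Subtype.ext (mem_centralizer_singleton_iff.mp g.2.2))⟩
        invFun := fun g => ⟨g.1.1, g.1.2,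
          mem_centralizer_singleton_iff.mpr (congrArg Subtype.val (mem_centralizer_singleton_iff.mp g.2))⟩
        left_inv := fun _ => rfl
        right_inv := fun _ => rfl }
  rw [e1, e2, h]

omit [Finite G] in
theorem not_dvd_cent_of_odd {t : G} (ht : orderOf t = 2) {q : ℕ} (hq : q.Prime) [Finite G]
    (hodd : ∀ b : G, orderOf b = q → Nat.card (cnt1 b) % 2 = 1) : ¬ q ∣ Nat.card (cnt1 t) := fun hd => by
  have := Fact.mk hq
  obtain ⟨b, hb⟩ := exists_prime_orderOf_dvd_card' (G := ↥(cnt1 t)) q hd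
  have h := orderOf_dvd_natCard (⟨t, mem_cnt1.mpr (mem_cnt1.mp b.2).symm⟩ : cnt1 (b : G))
  rw [orderOf_mk, ht] at h
  have := hodd b ((orderOf_coe b).trans hb)
  omega

variable (D : OrderData G)
include D

theorem coprime_cent {t : G} (ht : orderOf t = 2) : (Nat.card (cnt1 t)).Coprime 253 := by
  have h11 := not_dvd_cent_of_odd ht (q := 11) (by norm_num) fun b hb => by rw [D.cent_eleven b hb]
  have h23 := not_dvd_cent_of_odd ht (q := 23) (by norm_num) fun b hb => by rw [D.cent_twentythree b hb]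
  exact Nat.Coprime.mul_right (n := 23) (m := 11)
    ((Nat.Prime.coprime_iff_not_dvd (by norm_num)).mpr h11).symm
    ((Nat.Prime.coprime_iff_not_dvd (by norm_num)).mpr h23).symm

theorem cent_dvd {t : G} (ht : orderOf t = 2) : Nat.card (cnt1 t) ∣ 967680 := by
  refine (coprime_cent D ht).dvd_of_dvd_mul_left (m := 253) ?_
  rw [show 253 * 967680 = Nat.card G by rw [D.card]]
  exact card_subgroup_dvd_card _

theorem conj_in_cent_seven {a s t : G} (ha : orderOf a = 7) (hs : orderOf s = 2) (ht : orderOf t = 2)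
    (has : a * s = s * a) (hat : a * t = t * a) : ∃ u : G, a * u = u * a ∧ u * s * u⁻¹ = t := by
  have : Fact (Nat.Prime 2) := ⟨Nat.prime_two⟩
  obtain ⟨u, hu, hz⟩ := exists_conj_in (M := cnt1 a) (by rw [(D.cent_seven a ha).1]; norm_num) hs ht
    (mem_cnt1.mpr has) (mem_cnt1.mpr hat)
  refine ⟨u, mem_cnt1.mp hu, ?_⟩
  have hmem : u * s * u⁻¹ ∈ zpowers t := hz ▸ mem_zpowers _
  obtain ⟨k, hk⟩ := mem_zpowers_iff.mp hmem
  have e2 : ((2 : ℕ) : ℤ) = 2 := rfl
  rw [← hk, ← zpow_mod_orderOf, ht, e2]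
  rcases Int.emod_two_eq_zero_or_one k with h | h
  · exfalso
    refine ne_one_of_two ((orderOf_conj u s).trans hs) ?_
    rw [← hk, ← zpow_mod_orderOf, ht, e2, h, zpow_zero]
  · rw [h, zpow_one]

theorem conj_in_cent_five {a s t : G} (ha : orderOf a = 5) (hs : orderOf s = 2) (ht : orderOf t = 2)
    (has : a * s = s * a) (hat : a * t = t * a) : ∃ u : G, a * u = u * a ∧ u * s * u⁻¹ = t := by
  classical
  have : Fact (Nat.Prime 3) := ⟨by norm_num⟩
  have : Fact (Nat.Prime 5) := ⟨by norm_num⟩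
  obtain ⟨hC, k2, k3⟩ := D.cent_five a ha
  obtain ⟨⟨w, hw, haw⟩⟩ := (Nat.card_ne_zero.mp (by rw [k3]; norm_num : commCount a 3 ≠ 0)).1
  have hfree : ∀ r : G, orderOf r = 2 → a * r = r * a → w * r * w⁻¹ ≠ r := fun r hr har e => by
    have hc : Commute w r := mul_inv_eq_iff_eq_mul.mp e
    have h6 : orderOf (w * r) = 6 := by
      rw [hc.orderOf_mul_eq_mul_orderOf_of_coprime (by rw [hw, hr]; norm_num), hw, hr]
    have := orderOf_cases (by rw [D.card]; norm_num) ha hC (by omega) (by norm_num)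
      (g := w * r) ((show Commute a w from haw).mul_right har)
    rw [h6] at this
    simp at this
  have := Fintype.ofFinite G
  set T : Finset G := Finset.univ.filter fun y => orderOf y = 2 ∧ a * y = y * a with hT
  have hTc : T.card = 3 := by
    rw [← k2, commCount, Nat.card_eq_fintype_card, Fintype.card_subtype]
  have hstep : ∀ r ∈ T, w * r * w⁻¹ ∈ T := fun r hr => by
    simp only [hT, Finset.mem_filter, Finset.mem_univ, true_and] at hr ⊢
    exact ⟨(orderOf_conj w r).trans hr.1,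
      ((show Commute a w from haw).mul_right hr.2).mul_right (show Commute a w from haw).inv_right⟩
  have hsT : s ∈ T := by simp [hT, hs, has]
  set s1 := w * s * w⁻¹ with hs1
  set s2 := w * s1 * w⁻¹ with hs2
  have h1 : s1 ∈ T := hstep s hsT
  have h2 : s2 ∈ T := hstep s1 h1
  have hmem : ∀ r ∈ T, orderOf r = 2 ∧ a * r = r * a := fun r hr => by simpa [hT] using hr
  have n01 : s1 ≠ s := hfree s hs has
  have n12 : s2 ≠ s1 := hfree s1 (hmem _ h1).1 (hmem _ h1).2
  have w3 : w * w * w = 1 := by rw [← pow_three', ← hw, pow_orderOf_eq_one]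
  have h30 : w * s2 * w⁻¹ = s := by
    calc w * (w * (w * s * w⁻¹) * w⁻¹) * w⁻¹ = (w * w * w) * s * (w * w * w)⁻¹ := by group
      _ = s := by rw [w3]; group
  have n02 : s2 ≠ s := fun e => by
    apply n01
    rw [hs1]
    nth_rw 2 [← h30]
    rw [e]
  have heq : ({s, s1, s2} : Finset G) = T := by
    refine Finset.eq_of_subset_of_card_le (fun r hr => ?_) ?_
    · simp only [Finset.mem_insert, Finset.mem_singleton] at hr
      rcases hr with rfl | rfl | rfl <;> assumption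
    · rw [hTc, Finset.card_insert_of_notMem (by simp [n01.symm, n02.symm]), Finset.card_pair n12.symm]
  have htT : t ∈ ({s, s1, s2} : Finset G) := heq ▸ (by simp [hT, ht, hat])
  simp only [Finset.mem_insert, Finset.mem_singleton] at htT
  rcases htT with rfl | rfl | rfl
  · exact ⟨1, by simp, by simp⟩
  · exact ⟨w, haw, rfl⟩
  · exact ⟨w * w, (show Commute a w from haw).mul_right haw, by rw [hs2, hs1]; group⟩

theorem isConj_z {s t : G} (hs : IsZ s) (ht : IsZ t) : IsConj s t := by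
  have : Fact (Nat.Prime 7) := ⟨by norm_num⟩
  obtain ⟨a, ha, has⟩ := hs.2
  obtain ⟨b, hb, hbt⟩ := ht.2
  obtain ⟨w, hw⟩ := card_centralizer_const (fun Q => by
    rw [card_sylow_subgroup (p := 7) (e := 1) (m := 34974720) (D.card.trans (by norm_num)) (by norm_num) Q,
      pow_one]) ha hb
  have hws : b * (w * s * w⁻¹) = w * s * w⁻¹ * b :=
    mem_cnt1.mp (hw ▸ mem_cnt1.mpr (conj_comm has))
  obtain ⟨u, -, hu⟩ := conj_in_cent_seven D hb ((orderOf_conj w s).trans hs.1) ht.1 hws hbt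
  exact isConj_iff.mpr ⟨u * w, by rw [← hu]; group⟩

theorem isConj_u {s t : G} (hs : IsU s) (ht : IsU t) : IsConj s t := by
  have : Fact (Nat.Prime 5) := ⟨by norm_num⟩
  obtain ⟨a, ha, has⟩ := hs.2
  obtain ⟨b, hb, hbt⟩ := ht.2
  obtain ⟨w, hw⟩ := card_centralizer_const (fun Q => by
    rw [card_sylow_subgroup (p := 5) (e := 1) (m := 48964608) (D.card.trans (by norm_num)) (by norm_num) Q,
      pow_one]) ha hb
  have hws : b * (w * s * w⁻¹) = w * s * w⁻¹ * b :=
    mem_cnt1.mp (hw ▸ mem_cnt1.mpr (conj_comm has))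
  obtain ⟨u, -, hu⟩ := conj_in_cent_five D hb ((orderOf_conj w s).trans hs.1) ht.1 hws hbt
  exact isConj_iff.mpr ⟨u * w, by rw [← hu]; group⟩

omit D in
/-- The part of `C(t)` normalising `⟨a⟩`. -/
theorem card_norm_inter {p : ℕ} {a t : G} (hat : a * t = t * a) (ht : orderOf t = 2)
    (h3 : commCount a 2 = 3)
    (htrans : ∀ r : G, orderOf r = 2 → a * r = r * a → ∃ u : G, a * u = u * a ∧ u * t * u⁻¹ = r)
    (hp : Nat.card (nrm a) = 3 * p) : Nat.card ↥(cnt1 t ⊓ nrm a) = p := by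
  have h := class_in_subgroup (nrm a) (cnt1_le_nrm a (mem_cnt1.mpr hat))
  have e : Nat.card {g : G // ∃ n ∈ nrm a, n * t * n⁻¹ = g} = 3 := by
    rw [← h3]
    refine Nat.card_congr (Equiv.subtypeEquivRight fun g => ⟨?_, ?_⟩)
    · rintro ⟨n, hn, rfl⟩
      refine ⟨(orderOf_conj n t).trans ht, mem_cnt1.mp ?_⟩
      rw [cnt1, ← centralizer_zpowers, mem_centralizer_iff]
      intro z hz
      have hz' : n⁻¹ * z * n ∈ zpowers a := by
        have := (mem_normalizer_iff.mp (inv_mem hn) z).mp hz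
        rwa [inv_inv] at this
      obtain ⟨k, hk⟩ := mem_zpowers_iff.mp hz'
      have hc : Commute (n⁻¹ * z * n) t := hk ▸ (show Commute a t from hat).zpow_left k
      have := conj_comm (u := n) hc.eq
      simpa [mul_assoc] using this
    · rintro ⟨hg, hag⟩
      obtain ⟨u, hu, e⟩ := htrans g hg hag
      exact ⟨u, cnt1_le_nrm a (mem_cnt1.mpr hu), e⟩
  rw [e, hp] at h
  rw [inf_comm]
  exact Nat.eq_of_mul_eq_mul_left (by norm_num) h

theorem z_shape {t : G} (h : IsZ t) :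
    ∃ m, Nat.card (cnt1 t) = 42 * m ∧ m % 7 = 1 ∧ m ∣ 23040 := by
  have : Fact (Nat.Prime 7) := ⟨by norm_num⟩
  obtain ⟨a, ha, hat⟩ := h.2
  have hN := card_norm_inter (p := 42) hat h.1 (D.cent_seven a ha).2.1
    (fun r hr har => conj_in_cent_seven D ha h.1 hr hat har) (D.norm_seven a ha)
  obtain ⟨m, hm, hmod, -⟩ := sub_inf_normalizer_mul ha (cnt1 t)
    (fun hd => absurd (hd.trans (cent_dvd D h.1)) (by norm_num)) (mem_cnt1.mpr hat.symm)
  rw [hN] at hm
  exact ⟨m, hm.symm, hmod, Nat.dvd_of_mul_dvd_mul_left (by norm_num)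
    (hm ▸ cent_dvd D h.1 : 42 * m ∣ 42 * 23040)⟩

theorem u_shape {t : G} (h : IsU t) :
    ∃ m, Nat.card (cnt1 t) = 80 * m ∧ m % 5 = 1 ∧ m ∣ 12096 := by
  have : Fact (Nat.Prime 5) := ⟨by norm_num⟩
  obtain ⟨a, ha, hat⟩ := h.2
  have hN := card_norm_inter (p := 80) hat h.1 (D.cent_five a ha).2.1
    (fun r hr har => conj_in_cent_five D ha h.1 hr hat har) (D.norm_five a ha)
  obtain ⟨m, hm, hmod, -⟩ := sub_inf_normalizer_mul ha (cnt1 t)
    (fun hd => absurd (hd.trans (cent_dvd D h.1)) (by norm_num)) (mem_cnt1.mpr hat.symm)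
  rw [hN] at hm
  exact ⟨m, hm.symm, hmod, Nat.dvd_of_mul_dvd_mul_left (by norm_num)
    (hm ▸ cent_dvd D h.1 : 80 * m ∣ 80 * 12096)⟩

omit [Finite G] D in
theorem shape_check : ∀ i ∈ List.range 10, ∀ j ∈ List.range 3, ∀ k ∈ List.range 2, ∀ i' ∈ List.range 7,
    ∀ j' ∈ List.range 4, ∀ k' ∈ List.range 2, 2 ^ i * 3 ^ j * 5 ^ k % 7 = 1 → 2 ^ i' * 3 ^ j' * 7 ^ k' % 5 = 1 →
      42 * (2 ^ i * 3 ^ j * 5 ^ k) ≠ 80 * (2 ^ i' * 3 ^ j' * 7 ^ k') := by
  decide +kernel

omit [Finite G] D in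
theorem exists_exponents {n p q r a b c : ℕ} (hp : p.Prime) (hq : q.Prime) (hr : r.Prime)
    (h : n ∣ p ^ a * q ^ b * r ^ c) : ∃ i ≤ a, ∃ j ≤ b, ∃ k ≤ c, n = p ^ i * q ^ j * r ^ k := by
  obtain ⟨u, w, hu, hw, rfl⟩ := Nat.dvd_mul.mp h
  obtain ⟨u', v, hu', hv, rfl⟩ := Nat.dvd_mul.mp hu
  obtain ⟨i, hi, rfl⟩ := (Nat.dvd_prime_pow hp).mp hu'
  obtain ⟨j, hj, rfl⟩ := (Nat.dvd_prime_pow hq).mp hv
  obtain ⟨k, hk, rfl⟩ := (Nat.dvd_prime_pow hr).mp hw
  exact ⟨i, hi, j, hj, k, hk, rfl⟩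

theorem not_z_of_u {t : G} (hu : IsU t) : ¬ IsZ t := fun hz => by
  obtain ⟨m, hm, hm7, hmd⟩ := z_shape D hz
  obtain ⟨m', hm', hm5, hmd'⟩ := u_shape D hu
  obtain ⟨i, hi, j, hj, k, hk, rfl⟩ := exists_exponents (n := m) (p := 2) (q := 3) (r := 5) (a := 9) (b := 2) (c := 1)
    Nat.prime_two Nat.prime_three (by norm_num) (hmd.trans (by norm_num))
  obtain ⟨i', hi', j', hj', k', hk', rfl⟩ := exists_exponents (n := m') (p := 2) (q := 3) (r := 7) (a := 6) (b := 3)
    (c := 1) Nat.prime_two Nat.prime_three (by norm_num) (hmd'.trans (by norm_num))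
  exact shape_check i (List.mem_range.mpr (by omega)) j (List.mem_range.mpr (by omega)) k
    (List.mem_range.mpr (by omega)) i' (List.mem_range.mpr (by omega)) j' (List.mem_range.mpr (by omega))
    k' (List.mem_range.mpr (by omega)) hm7 hm5 (hm.symm.trans hm')

theorem not_seven_dvd_u {t : G} (hu : IsU t) : ¬ 7 ∣ Nat.card (cnt1 t) := fun h => by
  have : Fact (Nat.Prime 7) := ⟨by norm_num⟩
  obtain ⟨b, hb⟩ := exists_prime_orderOf_dvd_card' (G := ↥(cnt1 t)) 7 h
  exact not_z_of_u D hu ⟨hu.1, b, (orderOf_coe b).trans hb, (mem_cnt1.mp b.2).symm⟩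

theorem not_five_dvd_z {t : G} (hz : IsZ t) : ¬ 5 ∣ Nat.card (cnt1 t) := fun h => by
  have : Fact (Nat.Prime 5) := ⟨by norm_num⟩
  obtain ⟨b, hb⟩ := exists_prime_orderOf_dvd_card' (G := ↥(cnt1 t)) 5 h
  exact not_z_of_u D ⟨hz.1, b, (orderOf_coe b).trans hb, (mem_cnt1.mp b.2).symm⟩ hz

/-- An involution inverting an element of order eleven is a `U`-involution. -/
theorem isU_of_inverts {g t : G} (hg : orderOf g = 11) (ht : orderOf t = 2) (hi : t * g * t⁻¹ = g⁻¹) :
    IsU t := by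
  have : Fact (Nat.Prime 5) := ⟨by norm_num⟩
  have : Fact (Nat.Prime 11) := ⟨by norm_num⟩
  have htN : t ∈ nrm g := by
    refine mem_normalizer_fintype fun u hu => ?_
    obtain ⟨k, rfl⟩ := mem_zpowers_iff.mp hu
    rw [← conj_zpow, hi]
    exact zpow_mem (inv_mem (mem_zpowers g)) k
  have hCz : cnt1 g = zpowers g :=
    (eq_of_le_of_card_ge (zpowers_le_centralizer g) (by rw [Nat.card_zpowers, hg, D.cent_eleven g hg])).symm
  have hsub : ∀ n ∈ nrm g, n * t * n⁻¹ * t⁻¹ ∈ zpowers g := fun n hn => by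
    rw [← hCz]
    refine mem_cnt1.mpr ?_
    obtain ⟨k, hk⟩ := mem_zpowers_iff.mp ((mem_normalizer_iff.mp (inv_mem hn) g).mp (mem_zpowers g))
    rw [inv_inv] at hk
    have hinv : ∀ z : ℤ, t * g ^ z * t⁻¹ = g ^ (-z) := fun z => by rw [← conj_zpow, hi, inv_zpow, zpow_neg]
    have hti : t⁻¹ * g * t = g⁻¹ := by
      have := congrArg (fun y => t⁻¹ * y⁻¹ * t) hi
      simpa [mul_assoc] using this.symm
    have key : n * t * n⁻¹ * t⁻¹ * g * (n * t * n⁻¹ * t⁻¹)⁻¹ = g := by
      calc n * t * n⁻¹ * t⁻¹ * g * (n * t * n⁻¹ * t⁻¹)⁻¹ = n * t * n⁻¹ * (t⁻¹ * g * t) * n * t⁻¹ * n⁻¹ := by group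
        _ = n * t * (n⁻¹ * g * n)⁻¹ * t⁻¹ * n⁻¹ := by rw [hti]; group
        _ = n * (t * g ^ (-k) * t⁻¹) * n⁻¹ := by rw [← hk, ← zpow_neg]; group
        _ = n * (n⁻¹ * g * n) * n⁻¹ := by rw [hinv, neg_neg, hk]
        _ = g := by group
    exact (mul_inv_eq_iff_eq_mul.mp key).symm
  have hcls := class_in_subgroup (nrm g) htN
  rw [D.norm_eleven g hg] at hcls
  have hle : Nat.card {x : G // ∃ n ∈ nrm g, n * t * n⁻¹ = x} ≤ 11 := by
    refine (Nat.card_le_card_of_injective (β := ↥(zpowers g)) (fun x => ⟨x.1 * t⁻¹, ?_⟩)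
      fun x y e => Subtype.ext (mul_right_cancel (congrArg Subtype.val e))).trans
      (le_of_eq (by rw [Nat.card_zpowers, hg]))
    obtain ⟨n, hn, e⟩ := x.2
    rw [← e]
    exact hsub n hn
  have hd : Nat.card ↥(nrm g ⊓ cnt1 t) ∣ 110 := ⟨_, hcls.symm.trans (mul_comm _ _)⟩
  have h11 : ¬ 11 ∣ Nat.card (cnt1 t) :=
    not_dvd_cent_of_odd ht (by norm_num) fun b hb => by rw [D.cent_eleven b hb]
  have h5 : 5 ∣ Nat.card ↥(nrm g ⊓ cnt1 t) := by
    by_contra h5
    have h11' : ¬ 11 ∣ Nat.card ↥(nrm g ⊓ cnt1 t) := fun h => h11 (h.trans (card_dvd_of_le inf_le_right))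
    have h22 : Nat.card ↥(nrm g ⊓ cnt1 t) ∣ 2 := by
      refine Nat.Coprime.dvd_of_dvd_mul_right (n := 5 * 11) ?_ (hd.trans (by norm_num))
      exact ((Nat.Prime.coprime_iff_not_dvd (by norm_num)).mpr h5).symm.mul_right
        ((Nat.Prime.coprime_iff_not_dvd (by norm_num)).mpr h11').symm
    have := Nat.le_of_dvd (by norm_num) h22
    generalize Nat.card ↥(nrm g ⊓ cnt1 t) = x at *
    generalize Nat.card {x : G // ∃ n ∈ nrm g, n * t * n⁻¹ = x} = y at *
    interval_cases x <;> omega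
  obtain ⟨b, hb⟩ := exists_prime_orderOf_dvd_card' (G := ↥(nrm g ⊓ cnt1 t)) 5 h5
  exact ⟨ht, b, (orderOf_coe b).trans hb, (mem_cnt1.mp b.2.2).symm⟩

/-- The `U`-involutions are many, as they invert the elements of order eleven. -/
theorem card_le_sq_uset : Nat.card G ≤ Nat.card {t : G // IsU t} ^ 2 := by
  classical
  have : Fact (Nat.Prime 11) := ⟨by norm_num⟩
  have hex : ∀ g : G, orderOf g = 11 → ∃ t : G, orderOf t = 2 ∧ t * g * t⁻¹ = g⁻¹ := fun g hg => by
    have : Fact (Nat.Prime 2) := ⟨Nat.prime_two⟩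
    obtain ⟨t, ht⟩ := exists_prime_orderOf_dvd_card' (G := ↥(nrm g)) 2 (by rw [D.norm_eleven g hg]; norm_num)
    have hto : orderOf (t : G) = 2 := (orderOf_coe t).trans ht
    refine ⟨t, hto, ?_⟩
    obtain ⟨i, hi⟩ := mem_zpowers_iff.mp ((mem_normalizer_iff.mp t.2 g).mp (mem_zpowers g))
    have htt := mul_self_of_two hto
    have hii : g ^ (i * i - 1) = 1 := by
      rw [zpow_sub_one, zpow_mul, hi, conj_zpow, hi,
        show (t : G) * ((t : G) * g * (t : G)⁻¹) * (t : G)⁻¹ = ((t : G) * t) * g * ((t : G) * t)⁻¹ by group, htt]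
      group
    have hd : ((11 : ℕ) : ℤ) ∣ (i - 1) * (i + 1) := by
      rw [← hg, show (i - 1) * (i + 1) = i * i - 1 by ring]
      exact orderOf_dvd_iff_zpow_eq_one.mpr hii
    rcases (Nat.prime_iff_prime_int.mp (by norm_num : Nat.Prime 11)).dvd_or_dvd hd with h | h
    · exfalso
      rw [← hg, orderOf_dvd_iff_zpow_eq_one, zpow_sub_one, mul_inv_eq_one, hi] at h
      have hd2 := orderOf_dvd_natCard (⟨t, mem_cnt1.mpr (mul_inv_eq_iff_eq_mul.mp h).symm⟩ : cnt1 g)
      rw [orderOf_mk, hto, D.cent_eleven g hg] at hd2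
      norm_num at hd2
    · rw [← hg, orderOf_dvd_iff_zpow_eq_one, zpow_add_one, hi, mul_eq_one_iff_eq_inv] at h
      exact h
  choose t ht hti using hex
  have hinv : ∀ (g : G) (hg : orderOf g = 11) (i : ℕ),
      orderOf (g ^ i * t g hg) = 2 ∧ g ^ i * t g hg * g * (g ^ i * t g hg)⁻¹ = g⁻¹ := by
    intro g hg i
    constructor
    · refine orderOf_eq_prime ?_ fun e => ?_
      · rw [pow_two]
        calc g ^ i * t g hg * (g ^ i * t g hg)
            = g ^ i * (t g hg * g ^ i * (t g hg)⁻¹) * (t g hg * t g hg) := by group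
          _ = 1 := by
            rw [← conj_pow, hti g hg, mul_self_of_two (ht g hg), inv_pow, mul_inv_cancel, mul_one]
      · have e' : t g hg = (g ^ i)⁻¹ := eq_inv_of_mul_eq_one_right e
        have hfix : t g hg * g * (t g hg)⁻¹ = g := by rw [e']; group
        rw [hti g hg] at hfix
        have h2 : g ^ 2 = 1 := by
          rw [pow_two]
          nth_rw 2 [← hfix]
          exact mul_inv_cancel g
        have := orderOf_dvd_of_pow_eq_one h2
        rw [hg] at this
        norm_num at this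
    · calc g ^ i * t g hg * g * (g ^ i * t g hg)⁻¹ = g ^ i * (t g hg * g * (t g hg)⁻¹) * (g ^ i)⁻¹ := by group
        _ = g⁻¹ := by rw [hti g hg]; group
  let f : {g : G // orderOf g = 11} × Fin 11 → {t : G // IsU t} × {t : G // IsU t} := fun s =>
    (⟨s.1.1 ^ s.2.1 * t s.1.1 s.1.2, isU_of_inverts D s.1.2 (hinv _ _ _).1 (hinv _ _ _).2⟩,
      ⟨s.1.1 ^ (s.2.1 + 1) * t s.1.1 s.1.2, isU_of_inverts D s.1.2 (hinv _ _ _).1 (hinv _ _ _).2⟩)
  have hf : Function.Injective f := by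
    rintro ⟨⟨g, hg⟩, i⟩ ⟨⟨g', hg'⟩, i'⟩ e
    have e1 : g ^ i.1 * t g hg = g' ^ i'.1 * t g' hg' := congrArg (fun x => (x.1 : G)) e
    have e2 : g ^ (i.1 + 1) * t g hg = g' ^ (i'.1 + 1) * t g' hg' := congrArg (fun x => (x.2 : G)) e
    rw [pow_succ' g, pow_succ' g', mul_assoc, mul_assoc, e1] at e2
    obtain rfl : g = g' := mul_right_cancel e2
    have e3 : g ^ i.1 = g ^ i'.1 := mul_right_cancel e1
    have := pow_eq_pow_iff_modEq.mp e3
    rw [hg] at this
    refine Prod.ext rfl (Fin.ext ?_)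
    show i.1 = i'.1
    unfold Nat.ModEq at this
    omega
  have h := Nat.card_le_card_of_injective f hf
  rw [Nat.card_prod, Nat.card_prod, Nat.card_fin, ← pow_two] at h
  have h11 := D.num_eleven
  rw [numOrder] at h11
  rw [h11] at h
  rw [D.card]
  omega

theorem exists_z : ∃ z : G, IsZ z := by
  have : Fact (Nat.Prime 7) := ⟨by norm_num⟩
  obtain ⟨a, ha⟩ := exists_prime_orderOf_dvd_card' (G := G) 7 (by rw [D.card]; norm_num)
  obtain ⟨⟨z, hz, haz⟩⟩ := (Nat.card_ne_zero.mp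
    (by rw [(D.cent_seven a ha).2.1]; norm_num : commCount a 2 ≠ 0)).1
  exact ⟨z, hz, a, ha, haz⟩

theorem exists_u : ∃ u : G, IsU u := by
  have : Fact (Nat.Prime 5) := ⟨by norm_num⟩
  obtain ⟨a, ha⟩ := exists_prime_orderOf_dvd_card' (G := G) 5 (by rw [D.card]; norm_num)
  obtain ⟨⟨z, hz, haz⟩⟩ := (Nat.card_ne_zero.mp
    (by rw [(D.cent_five a ha).2.1]; norm_num : commCount a 2 ≠ 0)).1
  exact ⟨z, hz, a, ha, haz⟩

theorem card_zset_mul {z : G} (h : IsZ z) :
    Nat.card {t : G // IsZ t} * Nat.card (cnt1 z) = 244823040 := by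
  rw [← D.card, ← card_isConj_class z]
  congr 1
  exact Nat.card_congr (Equiv.subtypeEquivRight fun t => ⟨fun ht => isConj_z D h ht, fun hc => by
    obtain ⟨w, rfl⟩ := isConj_iff.mp hc
    exact h.conj w⟩)

theorem card_uset_mul {u : G} (h : IsU u) :
    Nat.card {t : G // IsU t} * Nat.card (cnt1 u) = 244823040 := by
  rw [← D.card, ← card_isConj_class u]
  congr 1
  exact Nat.card_congr (Equiv.subtypeEquivRight fun t => ⟨fun ht => isConj_u D h ht, fun hc => by
    obtain ⟨w, rfl⟩ := isConj_iff.mp hc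
    exact h.conj w⟩)

omit D in
theorem card_zu_le : Nat.card {t : G // orderOf t = 2 ∧ ¬ IsU t} + Nat.card {t : G // IsU t} ≤
    Nat.card {t : G // orderOf t = 2} := by
  rw [← Nat.card_sum]
  refine Nat.card_le_card_of_injective (Sum.elim (fun t => ⟨t.1, t.2.1⟩) fun t => ⟨t.1, t.2.1⟩)
    (Function.Injective.sumElim ?_ ?_ fun a b e => a.2.2 ?_)
  · exact fun a b e => Subtype.ext (congrArg Subtype.val e :)
  · exact fun a b e => Subtype.ext (congrArg Subtype.val e :)
  · rw [(congrArg Subtype.val e : a.1 = b.1)]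
    exact b.2

omit [Finite G] D in
theorem u_check : ∀ i ∈ List.range 7, ∀ j ∈ List.range 4, ∀ k ∈ List.range 2,
    2 ^ i * 3 ^ j * 7 ^ k % 5 = 1 → 2 ^ i * 3 ^ j * 7 ^ k % 7 ≠ 0 →
      71 ≤ 2 ^ i * 3 ^ j * 7 ^ k → 2 ^ i * 3 ^ j * 7 ^ k ≤ 195 → 2 ^ i * 3 ^ j * 7 ^ k = 96 := by
  decide +kernel

omit [Finite G] D in
theorem z_check : ∀ i ∈ List.range 10, ∀ j ∈ List.range 3, ∀ k ∈ List.range 2,
    2 ^ i * 3 ^ j * 5 ^ k % 7 = 1 → 2 ^ i * 3 ^ j * 5 ^ k % 5 ≠ 0 →
      512 ≤ 2 ^ i * 3 ^ j * 5 ^ k → 2 ^ i * 3 ^ j * 5 ^ k = 512 ∨ 2 ^ i * 3 ^ j * 5 ^ k = 2304 := by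
  decide +kernel

theorem card_cent_u {u : G} (hu : IsU u) : Nat.card (cnt1 u) = 7680 := by
  obtain ⟨m, hm, hm5, hmd⟩ := u_shape D hu
  have h7 := not_seven_dvd_u D hu
  have hS := card_uset_mul D hu
  have hsq := card_le_sq_uset D
  have hle : Nat.card {t : G // IsU t} ≤ 43263 := by
    rw [← D.num_two]
    exact Nat.card_le_card_of_injective (fun t => ⟨t.1, t.2.1⟩)
      fun a b e => Subtype.ext (congrArg Subtype.val e :)
  rw [hm] at hS h7 ⊢
  rw [D.card] at hsq
  have hlow : 71 ≤ m := by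
    by_contra hlt
    have := Nat.mul_le_mul hle (show 80 * m ≤ 80 * 70 by omega)
    omega
  have hhigh : m ≤ 195 := by
    by_contra hlt
    set U := Nat.card {t : G // IsU t}
    have h1 : U * (80 * 196) ≤ 244823040 := hS ▸ Nat.mul_le_mul_left U (by omega)
    have h2 : U ≤ 15613 := by omega
    have := Nat.pow_le_pow_left h2 2
    omega
  obtain ⟨i, hi, j, hj, k, hk, rfl⟩ := exists_exponents (n := m) (p := 2) (q := 3) (r := 7) (a := 6) (b := 3) (c := 1)
    Nat.prime_two Nat.prime_three (by norm_num) (hmd.trans (by norm_num))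
  rw [u_check i (List.mem_range.mpr (by omega)) j (List.mem_range.mpr (by omega)) k
    (List.mem_range.mpr (by omega)) hm5
    (fun h => h7 ((Nat.dvd_of_mod_eq_zero h).mul_left 80)) hlow hhigh]

theorem card_uset : Nat.card {t : G // IsU t} = 31878 := by
  obtain ⟨u, hu⟩ := exists_u D
  have := card_uset_mul D hu
  rw [card_cent_u D hu] at this
  omega

/-- Either the centraliser of `z` has the expected order, or the order 96768. -/
theorem z_dichotomy {z : G} (hz : IsZ z) :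
    Nat.card (cnt1 z) = 21504 ∨ Nat.card (cnt1 z) = 96768 := by
  obtain ⟨m, hm, hm7, hmd⟩ := z_shape D hz
  have hS := card_zset_mul D hz
  have h5 := not_five_dvd_z D hz
  have hle : Nat.card {t : G // IsZ t} ≤ 11385 := by
    have h1 := card_zu_le (G := G)
    rw [card_uset D, show Nat.card {t : G // orderOf t = 2} = 43263 from D.num_two] at h1
    have : Nat.card {t : G // IsZ t} ≤ Nat.card {t : G // orderOf t = 2 ∧ ¬ IsU t} :=
      Nat.card_le_card_of_injective (fun t => ⟨t.1, t.2.1, fun hu => not_z_of_u D hu t.2⟩)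
        fun a b e => Subtype.ext (congrArg Subtype.val e :)
    omega
  rw [hm] at hS h5 ⊢
  have hlow : 512 ≤ m := by
    by_contra hlt
    have := Nat.mul_le_mul hle (show 42 * m ≤ 42 * 511 by omega)
    omega
  obtain ⟨i, hi, j, hj, k, hk, rfl⟩ := exists_exponents (n := m) (p := 2) (q := 3) (r := 5) (a := 9) (b := 2) (c := 1)
    Nat.prime_two Nat.prime_three (by norm_num) (hmd.trans (by norm_num))
  rcases z_check i (List.mem_range.mpr (by omega)) j (List.mem_range.mpr (by omega)) k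
    (List.mem_range.mpr (by omega)) hm7 (fun h => h5 ((Nat.dvd_of_mod_eq_zero h).mul_left 42)) hlow
    with h | h <;> rw [h] <;> norm_num

/-- When the centraliser has the expected order there are two classes of involutions. -/
theorem isZ_or_isU {z : G} (hz : IsZ z) (hC : Nat.card (cnt1 z) = 21504) {t : G} (ht : orderOf t = 2) :
    IsZ t ∨ IsU t := by
  classical
  have := Fintype.ofFinite G
  have hS := card_zset_mul D hz
  rw [hC] at hS
  have hU := card_uset D
  have h2 : Nat.card {t : G // orderOf t = 2} = 43263 := D.num_two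
  rw [Nat.card_eq_fintype_card, Fintype.card_subtype] at hS hU h2
  have hsub : (Finset.univ.filter fun x : G => IsZ x) ∪ (Finset.univ.filter fun x : G => IsU x) ⊆
      Finset.univ.filter fun x : G => orderOf x = 2 := fun x hx => by
    simp only [Finset.mem_union, Finset.mem_filter, Finset.mem_univ, true_and] at hx ⊢
    exact hx.elim (fun h => h.1) fun h => h.1
  have hd : ((Finset.univ.filter fun x : G => IsZ x) ∪ Finset.univ.filter fun x : G => IsU x).card =
      (Finset.univ.filter fun x : G => IsZ x).card + (Finset.univ.filter fun x : G => IsU x).card :=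
    Finset.card_union_of_disjoint
    (Finset.disjoint_filter.mpr fun (x : G) (_ : x ∈ Finset.univ) (h : IsZ x) h' => not_z_of_u D h' h)
  have heq := Finset.eq_of_subset_of_card_le hsub (by omega)
  have hmem : t ∈ Finset.univ.filter fun x : G => orderOf x = 2 := by simp [ht]
  rw [← heq] at hmem
  simpa using hmem

end Cfsg.Agent.Order244823040
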