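/-
Finite groups with a self-centralising subgroup of prime order.

Main results (namespace `Cfsg.Agent.Order244823040`): `SelfCent`, `SelfCent.sylow_part_modEq`,
`SelfCent.quotient`, `SelfCent.isSimple`, `exists_max_normal`.
-/
import Cfsg.Agent.EqLemmas
import Cfsg.Agent.Lib.Order10200960.Tools
import Mathlib.GroupTheory.Transfer

set_option autoImplicit false

open Subgroup Cfsg.Agent.SmallOrders Cfsg.Agent.Order10200960

namespace Cfsg.Agent.Order244823040

/-- `a` has order `p`, generates a Sylow subgroup and is only centralised by its powers. -/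
structure SelfCent {X : Type*} [Group X] (p : ℕ) (a : X) : Prop where
  prime : p.Prime
  sq : ¬ p ^ 2 ∣ Nat.card X
  ord : orderOf a = p
  cent : Nat.card (cnt1 a) = p

variable {X : Type*} [Group X] [Finite X] {p : ℕ} {a : X}

namespace SelfCent

variable (h : SelfCent p a)
include h

theorem cent_eq : cnt1 a = zpowers a :=
  (eq_of_le_of_card_ge (zpowers_le_centralizer a) (by rw [Nat.card_zpowers, h.ord, h.cent])).symm

theorem card_sylow (Q : Sylow p X) : Nat.card (Q : Subgroup X) = p := by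
  have := Fact.mk h.prime
  obtain ⟨k, hk⟩ := Q.isPGroup'.exists_card_eq
  have h2 : p ∣ Nat.card (Q : Subgroup X) := Q.dvd_card_of_dvd_card (h.ord ▸ orderOf_dvd_natCard a)
  have h1 := card_subgroup_dvd_card (Q : Subgroup X)
  rw [hk] at h1 h2 ⊢
  have hk0 : k ≠ 0 := fun h0 => h.prime.ne_one (by simpa [h0] using h2)
  have : k < 2 := by
    by_contra hk2
    exact h.sq ((pow_dvd_pow p (by omega)).trans h1)
  rw [show k = 1 by omega, pow_one]

theorem of_orderOf {b : X} (hb : orderOf b = p) : SelfCent p b := by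
  have := Fact.mk h.prime
  obtain ⟨u, hu⟩ := card_centralizer_const h.card_sylow h.ord hb
  exact ⟨h.prime, h.sq, hb, by rw [← hu, card_centralizer_conj, h.cent]⟩

theorem modEq_one (S : Subgroup X) (hp : ¬ p ∣ Nat.card S) (hS : ∀ s ∈ S, a * s * a⁻¹ ∈ S) :
    Nat.card S % p = 1 := by
  have := Fact.mk h.prime
  have hmod := Order95040.card_modEq_commute h.ord (S : Set X) hS
  have hone : Nat.card {g : X // g ∈ (S : Set X) ∧ a * g = g * a} = 1 := by
    refine Nat.card_eq_one_iff_unique.mpr ⟨⟨fun x y => Subtype.ext ?_⟩, ⟨⟨1, one_mem S, by simp⟩⟩⟩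
    have key : ∀ z : X, z ∈ S → a * z = z * a → z = 1 := fun z hzS hz => by
      by_contra hne
      have hmem : z ∈ zpowers a := h.cent_eq ▸ mem_centralizer_singleton_iff.mpr hz.symm
      have ho : orderOf z = p := by
        refine ((Nat.dvd_prime h.prime).mp ?_).resolve_left fun e => hne (orderOf_eq_one_iff.mp e)
        have := orderOf_dvd_natCard (⟨z, hmem⟩ : zpowers a)
        rwa [orderOf_mk, Nat.card_zpowers, h.ord] at this
      exact hp (ho ▸ (by simpa using orderOf_dvd_natCard (⟨z, hzS⟩ : S)))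
    rw [key _ x.2.1 x.2.2, key _ y.2.1 y.2.2]
  rw [hone] at hmod
  have h1 : Nat.card ↥S % p = 1 % p := hmod
  rwa [Nat.mod_eq_of_lt h.prime.one_lt] at h1

/-- A normal subgroup prime to `p` has every Sylow part congruent to one. -/
theorem sylow_part_modEq (K : Subgroup X) [K.Normal] (hp : ¬ p ∣ Nat.card K) (q : ℕ) [Fact q.Prime]
    (Q : Sylow q K) : Nat.card (Q : Subgroup K) % p = 1 := by
  have := Fact.mk h.prime
  set Qm : Subgroup X := (Q : Subgroup K).map K.subtype with hQm
  set N : Subgroup X := normalizer (Qm : Set X) with hN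
  have hsup : N ⊔ K = ⊤ := Sylow.normalizer_sup_eq_top Q
  have hdvd : p ∣ Nat.card N := by
    obtain ⟨n, hn, k, hk, hnk⟩ := mem_sup_of_normal_right.mp (hsup ▸ mem_top a : a ∈ N ⊔ K)
    have e : QuotientGroup.mk' K n = QuotientGroup.mk' K a := by
      rw [← hnk, _root_.map_mul, show QuotientGroup.mk' K k = 1 from (QuotientGroup.eq_one_iff k).mpr hk, mul_one]
    have ho : orderOf (QuotientGroup.mk' K a) = p := by
      refine ((Nat.dvd_prime h.prime).mp (h.ord ▸ orderOf_map_dvd _ a)).resolve_left fun e1 => hp ?_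
      have hmem : a ∈ K := (QuotientGroup.eq_one_iff a).mp (orderOf_eq_one_iff.mp e1)
      have := orderOf_dvd_natCard (⟨a, hmem⟩ : K)
      rwa [orderOf_mk, h.ord] at this
    have h1 : orderOf (QuotientGroup.mk' K a) ∣ orderOf (⟨n, hn⟩ : N) := by
      rw [← e, orderOf_mk]; exact orderOf_map_dvd _ n
    exact (ho ▸ h1).trans (orderOf_dvd_natCard _)
  obtain ⟨b, hb⟩ := exists_prime_orderOf_dvd_card' (G := N) p hdvd
  have hb' := h.of_orderOf ((orderOf_coe b).trans hb)
  have hcard : Nat.card Qm = Nat.card (Q : Subgroup K) :=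
    (Nat.card_congr ((Q : Subgroup K).equivMapOfInjective _ K.subtype_injective).toEquiv).symm
  rw [← hcard]
  exact hb'.modEq_one Qm (fun hd => hp ((hcard ▸ hd).trans (card_subgroup_dvd_card _)))
    fun s hs => (mem_normalizer_iff.mp b.2 s).mp hs

theorem exists_mul_mem_norm (K : Subgroup X) [K.Normal] {g : X}
    (hg : g * a * g⁻¹ ∈ K ⊔ zpowers a) : ∃ k ∈ K, k * g ∈ nrm a := by
  have := Fact.mk h.prime
  set M := K ⊔ zpowers a with hM
  have hp2 : ¬ p ^ 2 ∣ Nat.card M := fun hd => h.sq (hd.trans (card_subgroup_dvd_card _))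
  have haM : a ∈ M := le_sup_right (α := Subgroup X) (mem_zpowers a)
  obtain ⟨u, hu, hz⟩ := exists_conj_in hp2 ((orderOf_injective (MulAut.conj g).toMonoidHom
    (MulEquiv.injective _) a).trans h.ord) h.ord hg haM
  have hu' : u ∈ (zpowers a : Subgroup X) ⊔ K := by rwa [sup_comm]
  obtain ⟨w, hw, k, hk, rfl⟩ := mem_sup_of_normal_right.mp hu'
  refine ⟨k, hk, ?_⟩
  have hwN : w ∈ nrm a := cnt1_le_nrm a (zpowers_le_centralizer a hw)
  have hwk : w * k * g ∈ nrm a := by
    refine mem_normalizer_fintype fun z hz' => ?_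
    obtain ⟨i, rfl⟩ := mem_zpowers_iff.mp hz'
    rw [← conj_zpow]
    refine zpow_mem ?_ i
    rw [← hz, show w * k * g * a * (w * k * g)⁻¹ = w * k * (g * a * g⁻¹) * (w * k)⁻¹ by group]
    exact mem_zpowers _
  have := mul_mem (inv_mem hwN) hwk
  simpa [mul_assoc] using this

theorem norm_inf_eq_bot (K : Subgroup X) [K.Normal] (hp : ¬ p ∣ Nat.card K) : nrm a ⊓ K = ⊥ := by
  have := Fact.mk h.prime
  rw [eq_bot_iff]
  rintro k ⟨hkN, hkK⟩
  have h1 : k * a * k⁻¹ * a⁻¹ ∈ zpowers a :=
    mul_mem ((mem_normalizer_iff.mp hkN a).mp (mem_zpowers a)) (inv_mem (mem_zpowers a))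
  have h2 : k * a * k⁻¹ * a⁻¹ ∈ K := by
    rw [show k * a * k⁻¹ * a⁻¹ = k * (a * k⁻¹ * a⁻¹) by group]
    exact mul_mem hkK (‹K.Normal›.conj_mem _ (inv_mem hkK) a)
  have hone : ∀ z, z ∈ zpowers a → z ∈ K → z = 1 := fun z hz hzK => by
    by_contra hne
    refine hp ?_
    have h3 := orderOf_dvd_natCard (⟨z, hz⟩ : zpowers a)
    rw [orderOf_mk, Nat.card_zpowers, h.ord] at h3
    rw [← ((Nat.dvd_prime h.prime).mp h3).resolve_left fun e => hne (orderOf_eq_one_iff.mp e)]
    exact (orderOf_mk z hzK).symm ▸ orderOf_dvd_natCard (⟨z, hzK⟩ : K)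
  have hc : k * a * k⁻¹ = a := mul_inv_eq_one.mp (hone _ h1 h2)
  have hmem : k ∈ zpowers a :=
    h.cent_eq ▸ mem_centralizer_singleton_iff.mpr (mul_inv_eq_iff_eq_mul.mp hc)
  exact mem_bot.mpr (hone k hmem hkK)

omit [Finite X] h in
theorem mk_eq_iff (K : Subgroup X) [K.Normal] {g g' : X} :
    QuotientGroup.mk' K g = QuotientGroup.mk' K g' ↔ g * g'⁻¹ ∈ K := by
  rw [← mul_inv_eq_one, ← map_inv, ← _root_.map_mul, QuotientGroup.mk'_apply, QuotientGroup.eq_one_iff]

/-- The normaliser of `⟨a⟩` maps bijectively onto that of its image. -/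
theorem card_nrm_quotient (K : Subgroup X) [K.Normal] (hp : ¬ p ∣ Nat.card K) :
    Nat.card (nrm (QuotientGroup.mk' K a)) = Nat.card (nrm a) := by
  set π := QuotientGroup.mk' K with hπ
  have hle : ∀ g : X, g ∈ nrm a → π g ∈ nrm (π a) := fun g hg => by
    refine mem_normalizer_fintype fun z hz => ?_
    obtain ⟨i, rfl⟩ := mem_zpowers_iff.mp hz
    obtain ⟨j, hj⟩ := mem_zpowers_iff.mp ((mem_normalizer_iff.mp hg a).mp (mem_zpowers a))
    rw [← conj_zpow, ← map_inv π, ← _root_.map_mul π, ← _root_.map_mul π, ← hj, map_zpow]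
    exact zpow_mem (zpow_mem (mem_zpowers _) j) i
  refine (Nat.card_congr (Equiv.ofBijective (fun g : nrm a => (⟨π g, hle g g.2⟩ : nrm (π a))) ⟨?_, ?_⟩)).symm
  · intro x y e
    have e' : π (x : X) = π y := congrArg Subtype.val e
    have hmem : (x : X) * (y : X)⁻¹ ∈ nrm a ⊓ K :=
      mem_inf.mpr ⟨mul_mem x.2 (inv_mem y.2), (mk_eq_iff K).mp e'⟩
    rw [h.norm_inf_eq_bot K hp, mem_bot, mul_inv_eq_one] at hmem
    exact Subtype.ext hmem
  · rintro ⟨y, hy⟩
    obtain ⟨g, rfl⟩ := QuotientGroup.mk'_surjective K y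
    obtain ⟨j, hj⟩ := mem_zpowers_iff.mp ((mem_normalizer_iff.mp hy (π a)).mp (mem_zpowers _))
    have hgK : g * a * g⁻¹ ∈ K ⊔ zpowers a := by
      rw [← map_zpow, ← map_inv, ← _root_.map_mul, ← _root_.map_mul, eq_comm] at hj
      have := mul_mem ((le_sup_left : K ≤ K ⊔ zpowers a) ((mk_eq_iff K).mp hj))
        ((le_sup_right : zpowers a ≤ K ⊔ zpowers a) (zpow_mem (mem_zpowers a) j))
      simpa [mul_assoc] using this
    obtain ⟨k, hk, hkg⟩ := h.exists_mul_mem_norm K hgK
    refine ⟨⟨k * g, hkg⟩, Subtype.ext ?_⟩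
    show π (k * g) = π g
    rw [_root_.map_mul, show π k = 1 from (QuotientGroup.eq_one_iff k).mpr hk, one_mul]

/-- The hypothesis passes to the quotient by a normal subgroup prime to `p`. -/
theorem quotient (K : Subgroup X) [K.Normal] (hp : ¬ p ∣ Nat.card K) :
    SelfCent p (QuotientGroup.mk' K a) := by
  have := Fact.mk h.prime
  set π := QuotientGroup.mk' K with hπ
  have hdvd : Nat.card (X ⧸ K) ∣ Nat.card X := ⟨_, K.card_eq_card_quotient_mul_card_subgroup⟩
  have hord : orderOf (π a) = p := orderOf_eq_prime (by rw [← map_pow, ← h.ord, pow_orderOf_eq_one, map_one])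
    fun e => hp (h.ord ▸ (orderOf_mk a ((QuotientGroup.eq_one_iff a).mp e)).symm ▸
      orderOf_dvd_natCard (⟨a, (QuotientGroup.eq_one_iff a).mp e⟩ : K))
  refine ⟨h.prime, fun hd => h.sq (hd.trans hdvd), hord, ?_⟩
  refine le_antisymm ?_ (Nat.le_of_dvd Nat.card_pos (by
    have := card_dvd_of_le (zpowers_le_centralizer (π a))
    rwa [Nat.card_zpowers, hord] at this))
  have key : ∀ y : cnt1 (π a), ∃ w : zpowers a, π (w : X) = y := by
    rintro ⟨y, hy⟩
    obtain ⟨g, rfl⟩ := QuotientGroup.mk'_surjective K y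
    have hcomm : π (g * a * g⁻¹) = π a := by
      have hy' : π g * π a = π a * π g := mem_centralizer_singleton_iff.mp hy
      rw [_root_.map_mul, _root_.map_mul, hy', map_inv, mul_inv_cancel_right]
    have hgK : g * a * g⁻¹ ∈ K ⊔ zpowers a := by
      have := mul_mem ((le_sup_left : K ≤ K ⊔ zpowers a) ((mk_eq_iff K).mp hcomm))
        ((le_sup_right : zpowers a ≤ K ⊔ zpowers a) (mem_zpowers a))
      simpa [mul_assoc] using this
    obtain ⟨k, hk, hkg⟩ := h.exists_mul_mem_norm K hgK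
    have hπk : π (k * g) = π g := by
      rw [_root_.map_mul, show π k = 1 from (QuotientGroup.eq_one_iff k).mpr hk, one_mul]
    have h1 : k * g * a * (k * g)⁻¹ * a⁻¹ ∈ nrm a ⊓ K := by
      refine mem_inf.mpr ⟨mul_mem (mul_mem (mul_mem hkg (cnt1_le_nrm a (mem_centralizer_singleton_iff.mpr rfl))) (inv_mem hkg))
        (inv_mem (cnt1_le_nrm a (mem_centralizer_singleton_iff.mpr rfl))), (mk_eq_iff K).mp ?_⟩
      rw [_root_.map_mul, _root_.map_mul, map_inv, hπk, ← map_inv, ← _root_.map_mul, ← _root_.map_mul, hcomm]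
    rw [h.norm_inf_eq_bot K hp, mem_bot, mul_inv_eq_one] at h1
    exact ⟨⟨k * g, h.cent_eq ▸ mem_centralizer_singleton_iff.mpr (mul_inv_eq_iff_eq_mul.mp h1)⟩, hπk⟩
  choose w hw using key
  exact (Nat.card_le_card_of_injective w fun x y e =>
    Subtype.ext (by rw [← hw x, ← hw y, e])).trans (le_of_eq (by rw [Nat.card_zpowers, h.ord]))

/-- Without normal subgroups prime to `p`, and with a normaliser of prime index over `⟨a⟩`, the group is
simple. -/
theorem isSimple {e : ℕ} (he : e.Prime) (hN : Nat.card (nrm a) = p * e) (hlt : p * e < Nat.card X)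
    (hcore : ∀ K : Subgroup X, K.Normal → ¬ p ∣ Nat.card K → K = ⊥) :
    IsSimpleGroup X ∧ ¬ IsMulCommutative X := by
  have := Fact.mk h.prime
  have hNtop : nrm a ≠ ⊤ := fun e' => by
    rw [e', card_top] at hN
    omega
  have hnc : ¬ IsMulCommutative X := fun hc => hNtop (by
    have : (zpowers a).Normal := ⟨fun n hn g => by
      rw [mul_comm' g n, mul_inv_cancel_right]; exact hn⟩
    exact normalizer_eq_top (zpowers a))
  have : Nontrivial X := Finite.one_lt_card_iff_nontrivial.mp (by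
    have := h.prime.two_le
    have := he.two_le
    have := Nat.mul_le_mul h.prime.two_le he.two_le
    omega)
  refine ⟨⟨fun N hN' => ?_⟩, hnc⟩
  by_cases hpN : p ∣ Nat.card N
  swap
  · exact Or.inl (hcore N hN' hpN)
  have hall : ∀ b : X, orderOf b = p → b ∈ N := by
    intro b hb
    obtain ⟨c, hc⟩ := exists_prime_orderOf_dvd_card' (G := N) p hpN
    obtain ⟨u, hu⟩ := exists_conj_zpowers h.card_sylow ((orderOf_coe c).trans hc) hb
    exact zpowers_le.mpr (hN'.conj_mem _ c.2 u) (hu ▸ mem_zpowers b)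
  have haN := hall a h.ord
  -- Frattini
  have hfr : nrm a ⊔ N = ⊤ := by
    have hsy : ∀ Q : Sylow p N, Nat.card (Q : Subgroup N) = p := fun Q => by
      obtain ⟨R, hR⟩ := Q.exists_comap_subtype_eq
      obtain ⟨k, hk⟩ := Q.isPGroup'.exists_card_eq
      have h2 : p ∣ Nat.card (Q : Subgroup N) := Q.dvd_card_of_dvd_card hpN
      have h1 := (card_subgroup_dvd_card (Q : Subgroup N)).trans (card_subgroup_dvd_card N)
      rw [hk] at h1 h2 ⊢
      have hk0 : k ≠ 0 := fun h0 => h.prime.ne_one (by simpa [h0] using h2)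
      have : k < 2 := by
        by_contra hk2
        exact h.sq ((pow_dvd_pow p (by omega)).trans h1)
      rw [show k = 1 by omega, pow_one]
    obtain ⟨P, hP⟩ := exists_sylow_eq_zpowers hsy (g := (⟨a, haN⟩ : N)) (by rw [orderOf_mk, h.ord])
    have := Sylow.normalizer_sup_eq_top P
    rwa [hP, MonoidHom.map_zpowers] at this
  by_cases hle : nrm a ≤ N
  · exact Or.inr (by rwa [sup_eq_right.mpr hle] at hfr)
  exfalso
  have hinf : Nat.card ↥(nrm a ⊓ N) = p := by
    have h1 : p ∣ Nat.card ↥(nrm a ⊓ N) :=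
      h.ord ▸ (orderOf_mk a (show a ∈ nrm a ⊓ N from ⟨cnt1_le_nrm a (mem_centralizer_singleton_iff.mpr rfl), haN⟩)).symm ▸
        orderOf_dvd_natCard _
    obtain ⟨d, hd⟩ := h1
    have h2 : p * d ∣ p * e := hd ▸ hN ▸ card_dvd_of_le inf_le_left
    rcases (Nat.dvd_prime he).mp (Nat.dvd_of_mul_dvd_mul_left h.prime.pos h2) with rfl | rfl
    · rw [hd, mul_one]
    · exact absurd ((inf_eq_left.mp (eq_of_le_of_card_ge inf_le_left (by rw [hN, hd]))) ) hle
  have hsy : ∀ Q : Sylow p N, Nat.card (Q : Subgroup N) = p := fun Q => by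
    obtain ⟨k, hk⟩ := Q.isPGroup'.exists_card_eq
    have h2 : p ∣ Nat.card (Q : Subgroup N) := Q.dvd_card_of_dvd_card hpN
    have h1 := (card_subgroup_dvd_card (Q : Subgroup N)).trans (card_subgroup_dvd_card N)
    rw [hk] at h1 h2 ⊢
    have hk0 : k ≠ 0 := fun h0 => h.prime.ne_one (by simpa [h0] using h2)
    have : k < 2 := by
      by_contra hk2
      exact h.sq ((pow_dvd_pow p (by omega)).trans h1)
    rw [show k = 1 by omega, pow_one]
  obtain ⟨P, hP⟩ := exists_sylow_eq_zpowers hsy (g := (⟨a, haN⟩ : N)) (by rw [orderOf_mk, h.ord])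
  have heqz : nrm a ⊓ N = zpowers a :=
    (eq_of_le_of_card_ge (le_inf ((zpowers_le_centralizer a).trans (cnt1_le_nrm a)) (zpowers_le.mpr haN))
      (by rw [hinf, Nat.card_zpowers, h.ord])).symm
  have hNC : normalizer ((P : Subgroup N) : Set N) ≤ centralizer ((P : Subgroup N) : Set N) := by
    intro n hn
    have hnN : (n : X) ∈ nrm a ⊓ N := by
      refine ⟨mem_normalizer_fintype fun z hz => ?_, n.2⟩
      obtain ⟨i, rfl⟩ := mem_zpowers_iff.mp hz
      have := (mem_normalizer_iff.mp hn (⟨a, haN⟩ ^ i : N)).mp (by rw [hP]; exact zpow_mem (mem_zpowers _) i)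
      rw [hP] at this
      obtain ⟨j, hj⟩ := mem_zpowers_iff.mp this
      exact mem_zpowers_iff.mpr ⟨j, by simpa using congrArg Subtype.val hj⟩
    rw [heqz] at hnN
    obtain ⟨i, hi⟩ := mem_zpowers_iff.mp hnN
    rw [mem_centralizer_iff]
    intro z hz
    rw [hP] at hz
    obtain ⟨j, rfl⟩ := mem_zpowers_iff.mp hz
    refine Subtype.ext ?_
    push_cast
    rw [← hi]
    exact ((Commute.refl a).zpow_zpow j i).eq
  let M : Subgroup N := (MonoidHom.transferSylow P hNC).ker
  have hM : M.IsComplement' (P : Subgroup N) := MonoidHom.ker_transferSylow_isComplement' P hNC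
  have hMp : ¬ p ∣ Nat.card M := MonoidHom.not_dvd_card_ker_transferSylow P hNC
  -- the complement is characteristic: it consists of the elements of order prime to `p`
  have hMchar : ∀ m : N, m ∈ M ↔ ¬ p ∣ orderOf m := by
    intro m
    constructor
    · intro hm hd
      exact hMp (hd.trans ((orderOf_mk m hm).symm ▸ orderOf_dvd_natCard (⟨m, hm⟩ : M)))
    · intro hm
      rw [← QuotientGroup.eq_one_iff]
      have hidx : Nat.card (N ⧸ M) = p := by
        have h1 := M.card_eq_card_quotient_mul_card_subgroup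
        rw [← hM.card_mul, hsy P, mul_comm (Nat.card (N ⧸ M))] at h1
        exact (Nat.eq_of_mul_eq_mul_left Nat.card_pos h1).symm
      by_contra hne
      refine hm (Dvd.dvd.trans ?_ (orderOf_map_dvd (QuotientGroup.mk' M) m))
      rcases (Nat.dvd_prime h.prime).mp (hidx ▸ orderOf_dvd_natCard (m : N ⧸ M)) with h1 | h1
      · exact absurd (orderOf_eq_one_iff.mp h1) hne
      · exact dvd_of_eq h1.symm
  have hMn : (M.map N.subtype).Normal := ⟨fun x hx g => by
    obtain ⟨m, hm, rfl⟩ := hx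
    refine ⟨⟨g * m * g⁻¹, hN'.conj_mem _ m.2 g⟩, ?_, rfl⟩
    show (⟨g * m * g⁻¹, hN'.conj_mem _ m.2 g⟩ : N) ∈ M
    rw [hMchar, ← orderOf_coe]
    show ¬ p ∣ orderOf (g * (m : X) * g⁻¹)
    rw [show orderOf (g * (m : X) * g⁻¹) = orderOf (m : X) from
      orderOf_injective (MulAut.conj g).toMonoidHom (MulEquiv.injective _) m, orderOf_coe]
    exact (hMchar m).mp hm⟩
  have hM1 : M.map N.subtype = ⊥ := hcore _ hMn (by
    rwa [← Nat.card_congr (M.equivMapOfInjective _ N.subtype_injective).toEquiv])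
  have hcardN : Nat.card N = p := by
    rw [← hM.card_mul, ← Nat.card_congr (M.equivMapOfInjective _ N.subtype_injective).toEquiv.symm, hM1,
      card_bot, one_mul, hsy P]
  have hNz : N = zpowers a :=
    (eq_of_le_of_card_ge (zpowers_le.mpr haN) (by rw [hcardN, Nat.card_zpowers, h.ord])).symm
  exact hNtop (by
    have : (zpowers a).Normal := hNz ▸ hN'
    exact normalizer_eq_top (zpowers a))

end SelfCent

/-- A normal subgroup of order prime to `p`, maximal among these. -/
theorem exists_max_normal (X : Type*) [Group X] [Finite X] (p : ℕ) [Fact p.Prime] :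
    ∃ K : Subgroup X, K.Normal ∧ ¬ p ∣ Nat.card K ∧
      ∀ L : Subgroup X, L.Normal → K ≤ L → ¬ p ∣ Nat.card L → L = K := by
  classical
  have : Fintype (Subgroup X) := Fintype.ofFinite _
  obtain ⟨K, hK, hmax⟩ := Finset.exists_max_image
    (Finset.univ.filter fun K : Subgroup X => K.Normal ∧ ¬ p ∣ Nat.card K) (fun K => Nat.card K)
    ⟨⊥, by simp [(Fact.out : p.Prime).ne_one, Subgroup.normal_bot]⟩
  simp only [Finset.mem_filter, Finset.mem_univ, true_and] at hK hmax
  exact ⟨K, hK.1, hK.2, fun L hL hle hp => (eq_of_le_of_card_ge hle (hmax L ⟨hL, hp⟩)).symm⟩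

/-- Modulo the maximal normal subgroup prime to `p` none is left. -/
theorem quotient_core {X : Type*} [Group X] [Finite X] {p : ℕ} [Fact p.Prime] {K : Subgroup X} [K.Normal]
    (hK : ¬ p ∣ Nat.card K) (hmax : ∀ L : Subgroup X, L.Normal → K ≤ L → ¬ p ∣ Nat.card L → L = K)
    (L : Subgroup (X ⧸ K)) (hL : L.Normal) (hp : ¬ p ∣ Nat.card L) : L = ⊥ := by
  have h1 : Nat.card (L.comap (QuotientGroup.mk' K)) = Nat.card L * Nat.card K := by
    have h2 := (L.comap (QuotientGroup.mk' K)).card_mul_index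
    rw [index_comap_of_surjective _ (QuotientGroup.mk'_surjective K)] at h2
    refine Nat.eq_of_mul_eq_mul_right (Nat.pos_of_ne_zero L.index_ne_zero_of_finite) ?_
    rw [h2, K.card_eq_card_quotient_mul_card_subgroup, ← L.card_mul_index]
    ring
  have h3 := hmax (L.comap (QuotientGroup.mk' K)) (hL.comap _) (fun k hk => by
    simp [show QuotientGroup.mk' K k = 1 from (QuotientGroup.eq_one_iff k).mpr hk, one_mem]) (by
      rw [h1, (Fact.out : p.Prime).dvd_mul]
      exact not_or.mpr ⟨hp, hK⟩)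
  rw [← map_comap_eq_self_of_surjective (QuotientGroup.mk'_surjective K) L, h3,
    QuotientGroup.map_mk'_self]

end Cfsg.Agent.Order244823040
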