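/-
The centraliser of a `Z`-involution has order 21504.

Main results (namespace `Cfsg.Agent.Order244823040`): `card_comap_mk`, `central_quotient`, `core_part`,
`card_cent_z`.
-/
import Cfsg.Agent.Lib.Order244823040.Invol
import Cfsg.Agent.Lib.Order244823040.Sections
import Cfsg.Agent.Lib.Order244823040.Block
import Cfsg.Agent.Lib.SmallOrders.Orders.O756

set_option autoImplicit false

open Subgroup Cfsg.Agent.SameOrder Cfsg.Agent.SmallOrders Cfsg.Agent.Order10200960

namespace Cfsg.Agent.Order244823040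

theorem card_comap_mk {X : Type*} [Group X] [Finite X] (K : Subgroup X) [K.Normal] (L : Subgroup (X ⧸ K)) :
    Nat.card (L.comap (QuotientGroup.mk' K)) = Nat.card L * Nat.card K := by
  have h2 := (L.comap (QuotientGroup.mk' K)).card_mul_index
  rw [index_comap_of_surjective _ (QuotientGroup.mk'_surjective K)] at h2
  refine Nat.eq_of_mul_eq_mul_right (Nat.pos_of_ne_zero L.index_ne_zero_of_finite) ?_
  rw [h2, K.card_eq_card_quotient_mul_card_subgroup, ← L.card_mul_index]
  ring

/-- Dividing by a central element of order prime to `p`. -/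
theorem central_quotient {X : Type*} [Group X] [Finite X] {p q e : ℕ} (hp : p.Prime) (hsq : ¬ p ^ 2 ∣ Nat.card X)
    {a c : X} (ha : orderOf a = p) (hc : orderOf c = q) (hpq : p.Coprime q) [(zpowers c).Normal]
    (hcent : ∀ x : X, Commute c x) (hC : Nat.card (cnt1 a) = p * q) (hN : Nat.card (nrm a) = p * q * e) :
    SelfCent p (QuotientGroup.mk' (zpowers c) a) ∧
      Nat.card (nrm (QuotientGroup.mk' (zpowers c) a)) = p * e := by
  have := Fact.mk hp
  set π := QuotientGroup.mk' (zpowers c) with hπ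
  have hq : 0 < q := hc ▸ orderOf_pos c
  have hkey : ∀ (g : X) (i : ℤ), π (g * a * g⁻¹) = π (a ^ i) → g * a * g⁻¹ = a ^ i := by
    intro g i h
    rw [← mul_inv_eq_one, ← map_inv, ← _root_.map_mul, QuotientGroup.mk'_apply, QuotientGroup.eq_one_iff] at h
    rw [← mul_inv_eq_one]
    have hco : Commute (g * a * g⁻¹) (a ^ i)⁻¹ := by
      obtain ⟨j, hj⟩ := mem_zpowers_iff.mp h
      have : g * a * g⁻¹ = c ^ j * a ^ i := by rw [hj]; group
      rw [this]
      exact ((hcent (a ^ i)).zpow_left j |>.mul_left (Commute.refl _)).inv_right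
    have h1 : (g * a * g⁻¹ * (a ^ i)⁻¹) ^ p = 1 := by
      rw [hco.mul_pow, conj_pow, inv_pow, ← zpow_natCast (a ^ i), ← zpow_mul, mul_comm i, zpow_mul,
        zpow_natCast, ← ha, pow_orderOf_eq_one]
      simp
    have h2 : orderOf (g * a * g⁻¹ * (a ^ i)⁻¹) ∣ q := by
      have := orderOf_dvd_natCard (⟨_, h⟩ : zpowers c)
      rwa [orderOf_mk, Nat.card_zpowers, hc] at this
    exact orderOf_eq_one_iff.mp (Nat.eq_one_of_dvd_coprimes hpq (orderOf_dvd_of_pow_eq_one h1) h2)
  have hord : orderOf (π a) = p := by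
    refine ((Nat.dvd_prime hp).mp (ha ▸ orderOf_map_dvd π a)).resolve_left fun e1 => ?_
    have h := (QuotientGroup.eq_one_iff a).mp (orderOf_eq_one_iff.mp e1)
    have h' := orderOf_dvd_natCard (⟨a, h⟩ : zpowers c)
    rw [orderOf_mk, ha, Nat.card_zpowers, hc] at h'
    exact hp.ne_one (Nat.eq_one_of_dvd_coprimes hpq dvd_rfl h')
  have hK : Nat.card (zpowers c) = q := by rw [Nat.card_zpowers, hc]
  have hcz : (cnt1 (π a)).comap π = cnt1 a := by
    ext g
    rw [mem_comap, mem_centralizer_singleton_iff, mem_centralizer_singleton_iff]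
    constructor
    · intro h
      have := hkey g 1 (by rw [zpow_one, _root_.map_mul, _root_.map_mul, h, map_inv, mul_inv_cancel_right])
      rw [zpow_one] at this
      exact mul_inv_eq_iff_eq_mul.mp this
    · intro h
      rw [← _root_.map_mul, h, _root_.map_mul]
  have hnz : (nrm (π a)).comap π = nrm a := by
    ext g
    rw [mem_comap]
    constructor
    · intro h
      obtain ⟨i, hi⟩ := mem_zpowers_iff.mp ((mem_normalizer_iff.mp h (π a)).mp (mem_zpowers _))
      rw [← map_zpow, ← map_inv, ← _root_.map_mul, ← _root_.map_mul] at hi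
      have := hkey g i hi.symm
      refine mem_normalizer_fintype fun z hz => ?_
      obtain ⟨j, rfl⟩ := mem_zpowers_iff.mp hz
      rw [← conj_zpow, this]
      exact zpow_mem (zpow_mem (mem_zpowers a) i) j
    · intro h
      refine mem_normalizer_fintype fun z hz => ?_
      obtain ⟨j, rfl⟩ := mem_zpowers_iff.mp hz
      obtain ⟨i, hi⟩ := mem_zpowers_iff.mp ((mem_normalizer_iff.mp h a).mp (mem_zpowers a))
      rw [← conj_zpow, ← map_inv, ← _root_.map_mul, ← _root_.map_mul, ← hi, map_zpow]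
      exact zpow_mem (zpow_mem (mem_zpowers _) i) j
  have h1 := card_comap_mk (zpowers c) (cnt1 (π a))
  have h2 := card_comap_mk (zpowers c) (nrm (π a))
  rw [hcz, hC, hK] at h1
  rw [hnz, hN, hK, mul_right_comm] at h2
  refine ⟨⟨hp, fun hd => hsq (hd.trans ⟨_, (zpowers c).card_eq_card_quotient_mul_card_subgroup⟩), hord,
    (Nat.eq_of_mul_eq_mul_right hq h1).symm⟩, (Nat.eq_of_mul_eq_mul_right hq h2).symm⟩

/-- A Sylow part of a normal subgroup prime to `p`. -/
theorem core_part {X : Type*} [Group X] [Finite X] {p q : ℕ} {a : X} (h : SelfCent p a) (K : Subgroup X)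
    [K.Normal] (hp : ¬ p ∣ Nat.card K) (hq : q.Prime) :
    q ^ (Nat.card K).factorization q % p = 1 := by
  have := Fact.mk hq
  obtain ⟨Q⟩ := (inferInstance : Nonempty (Sylow q K))
  rw [← Q.card_eq_multiplicity]
  exact h.sylow_part_modEq K hp q Q

theorem core_card_check : ∀ i ∈ List.range 9, ∀ j ∈ List.range 4, 2 ^ i % 7 = 1 → 3 ^ j % 7 = 1 →
    2 ^ i * 3 ^ j = 1 ∨ 2 ^ i * 3 ^ j = 8 ∨ 2 ^ i * 3 ^ j = 64 := by decide +kernel

/-- A group with a self-centralising Sylow 7-subgroup has no simple quotient of order 6048 by eight elements. -/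
theorem no_action {X : Type*} [Group X] [Finite X] {a : X} (hX : SelfCent 7 a) {K : Subgroup X} [K.Normal]
    (h8 : Nat.card K = 8) (hQ : Nat.card (X ⧸ K) = 6048)
    (hsimp : IsSimpleGroup (X ⧸ K)) : False := by
  classical
  let φ : X →* Equiv.Perm K := (MulAction.toPermHom (MulAut K) K).comp MulAut.conjNormal
  have hker : ∀ r : X, r ∈ φ.ker → ∀ k : K, r * k * r⁻¹ = k := fun r hr k =>
    congrArg Subtype.val (Equiv.Perm.ext_iff.mp (MonoidHom.mem_ker.mp hr) k)
  have hn : (φ.ker.map (QuotientGroup.mk' K)).Normal :=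
    φ.normal_ker.map _ (QuotientGroup.mk'_surjective K)
  rcases hsimp.eq_bot_or_eq_top_of_normal _ hn with h | h
  · have hle : φ.ker ≤ K := by rw [Subgroup.map_eq_bot_iff, QuotientGroup.ker_mk'] at h; exact h
    have hrange : Nat.card φ.range ∣ 40320 := by
      refine (card_subgroup_dvd_card _).trans (dvd_of_eq ?_)
      rw [Nat.card_perm, h8]
      rfl
    rw [← index_ker] at hrange
    have h1 := (index_dvd_of_le hle).trans hrange
    rw [index_eq_card, hQ] at h1
    norm_num at h1
  · obtain ⟨r, hr, hra⟩ := mem_map.mp (h ▸ mem_top (QuotientGroup.mk' K a) :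
      QuotientGroup.mk' K a ∈ φ.ker.map (QuotientGroup.mk' K))
    have haK : a ∈ φ.ker := by
      have hk : r⁻¹ * a ∈ K := QuotientGroup.eq.mp hra
      have h7 : orderOf (φ a) ∣ 7 := hX.ord ▸ orderOf_map_dvd φ a
      have e : φ a = φ (r⁻¹ * a) := by
        rw [_root_.map_mul, map_inv, MonoidHom.mem_ker.mp hr, inv_one, one_mul]
      have h8' : orderOf (φ a) ∣ 8 := by
        rw [e]
        refine (orderOf_map_dvd φ _).trans ?_
        have := orderOf_dvd_natCard (⟨_, hk⟩ : K)
        rwa [orderOf_mk, h8] at this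
      exact MonoidHom.mem_ker.mpr (orderOf_eq_one_iff.mp (Nat.eq_one_of_dvd_coprimes (by norm_num) h7 h8'))
    have hle : K ≤ cnt1 a := fun k hk => mem_cnt1.mpr (mul_inv_eq_iff_eq_mul.mp (hker a haK ⟨k, hk⟩))
    have := card_dvd_of_le hle
    rw [h8, hX.cent] at this
    norm_num at this

variable {G : Type*} [Group G] [Finite G]

/-- Some further involution of `C(z)` commutes with a given Sylow 3-subgroup of `C(z)`. -/
theorem exists_invol_cent (D : OrderData G) {z : G} (hz : orderOf z = 2) {P : Subgroup G}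
    (hP : Nat.card P = 27) (hPz : ∀ u ∈ P, Commute u z) :
    ∃ s : G, orderOf s = 2 ∧ s ≠ z ∧ Commute s z ∧ ∀ u ∈ P, Commute u s := by
  classical
  have : Fact (Nat.Prime 3) := ⟨Nat.prime_three⟩
  let inst : MulAction P {g : G // orderOf g = 2} :=
    { smul := fun u g => ⟨(u : G) * g.1 * (u : G)⁻¹, (orderOf_conj _ _).trans g.2⟩
      one_smul := fun g => Subtype.ext (show ((1 : P) : G) * g.1 * ((1 : P) : G)⁻¹ = g.1 by simp)
      mul_smul := fun u v g => Subtype.ext (show ((u * v : P) : G) * g.1 * ((u * v : P) : G)⁻¹ =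
        (u : G) * ((v : G) * g.1 * (v : G)⁻¹) * (u : G)⁻¹ by push_cast; group) }
  have hmod := (IsPGroup.of_card (n := 3) hP : IsPGroup 3 P).card_modEq_card_fixedPoints {g : G // orderOf g = 2}
  rw [show Nat.card {g : G // orderOf g = 2} = 43263 from D.num_two] at hmod
  set F := MulAction.fixedPoints P {g : G // orderOf g = 2} with hF
  have hfix : ∀ g : {g : G // orderOf g = 2}, g ∈ F ↔ ∀ u ∈ P, Commute u g.1 := fun g =>
    ⟨fun hg u hu => mul_inv_eq_iff_eq_mul.mp (congrArg Subtype.val (hg ⟨u, hu⟩)),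
      fun hg u => Subtype.ext (mul_inv_eq_iff_eq_mul.mpr (hg u u.2))⟩
  have hzF : (⟨z, hz⟩ : {g : G // orderOf g = 2}) ∈ F := (hfix _).mpr hPz
  have hnt : Nontrivial F := by
    refine Finite.one_lt_card_iff_nontrivial.mp ?_
    have h0 : Nat.card F ≠ 0 := Nat.card_ne_zero.mpr ⟨⟨⟨_, hzF⟩⟩, inferInstance⟩
    unfold Nat.ModEq at hmod
    omega
  obtain ⟨⟨⟨s, hs⟩, hsF⟩, hne⟩ := exists_ne (⟨⟨z, hz⟩, hzF⟩ : F)
  have hsz : s ≠ z := fun e => hne (Subtype.ext (Subtype.ext e))
  have hsP := (hfix _).mp hsF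
  by_cases hc : Commute s z
  · exact ⟨s, hs, hsz, hc, hsP⟩
  set r := z * s with hr
  have hrP : ∀ u ∈ P, Commute u r := fun u hu => (hPz u hu).mul_right (hsP u hu)
  rcases Nat.even_or_odd (orderOf r) with ⟨k, hk⟩ | hodd
  · have hk0 : 0 < k := by have := orderOf_pos r; omega
    have hdiv : orderOf (r ^ k) = 2 := by
      rw [orderOf_pow' r hk0.ne', hk, Nat.gcd_eq_right ⟨2, by ring⟩, ← two_mul, Nat.mul_div_cancel _ hk0]
    refine ⟨r ^ k, hdiv, fun e => hc ?_, ?_, fun u hu => (hrP u hu).pow_right k⟩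
    · have h1 : Commute z r := e ▸ Commute.pow_self r k
      have h2 : z * (z * s) = z * s * z := h1.eq
      rw [mul_assoc z s z] at h2
      exact (mul_left_cancel h2).symm
    · have hzr : z * r * z⁻¹ = r⁻¹ := by
        rw [hr, mul_inv_rev, inv_of_two hz, inv_of_two hs, ← mul_assoc, mul_self_of_two hz, one_mul]
      have h2 : z * r ^ k * z⁻¹ = r ^ k := by
        rw [← conj_pow, hzr, inv_pow, inv_of_two hdiv]
      exact (mul_inv_eq_iff_eq_mul.mp h2).symm
  · -- the odd case: `r` lies in `P`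
    exfalso
    have hq : ∀ q : ℕ, q.Prime → q ∣ orderOf r → q = 3 := by
      intro q hq hqd
      have hx := orderOf_pow_orderOf_div (orderOf_pos r).ne' hqd
      set x := r ^ (orderOf r / q)
      have hPx : P ≤ cnt1 x := fun u hu => mem_cnt1.mpr ((hrP u hu).pow_right _).symm
      have h27 := card_dvd_of_le hPx
      rw [hP] at h27
      have hqG : q ∣ Nat.card G := hx ▸ orderOf_dvd_natCard x
      rw [D.card, show (244823040 : ℕ) = 2 ^ 10 * 3 ^ 3 * 5 * 7 * 11 * 23 by norm_num] at hqG
      simp only [hq.dvd_mul] at hqG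
      rcases hqG with ((((h | h) | h) | h) | h) | h
      · have h' := (Nat.prime_dvd_prime_iff_eq hq Nat.prime_two).mp (hq.dvd_of_dvd_pow h)
        rw [h'] at hqd
        exact absurd (even_iff_two_dvd.mpr hqd) (Nat.not_even_iff_odd.mpr hodd)
      · exact (Nat.prime_dvd_prime_iff_eq hq Nat.prime_three).mp (hq.dvd_of_dvd_pow h)
      · rw [(Nat.prime_dvd_prime_iff_eq hq (by norm_num)).mp h] at hx
        rw [(D.cent_five x hx).1] at h27; norm_num at h27
      · rw [(Nat.prime_dvd_prime_iff_eq hq (by norm_num)).mp h] at hx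
        rw [(D.cent_seven x hx).1] at h27; norm_num at h27
      · rw [(Nat.prime_dvd_prime_iff_eq hq (by norm_num)).mp h] at hx
        rw [D.cent_eleven x hx] at h27; norm_num at h27
      · rw [(Nat.prime_dvd_prime_iff_eq hq (by norm_num)).mp h] at hx
        rw [D.cent_twentythree x hx] at h27; norm_num at h27
    obtain ⟨k, hk⟩ : ∃ k, orderOf r = 3 ^ k :=
      ⟨_, Nat.eq_prime_pow_of_unique_prime_dvd (orderOf_pos r).ne' fun {q} h1 h2 => hq q h1 h2⟩
    have hsy : ∀ R : Subgroup G, IsPGroup 3 R → Nat.card R ≤ 27 := by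
      intro R hR
      obtain ⟨m, hm⟩ := hR.exists_card_eq
      have hd := card_subgroup_dvd_card R
      rw [hm, D.card] at hd
      rw [hm]
      by_contra hlt
      have : 4 ≤ m := by
        by_contra h4
        have := Nat.pow_le_pow_right (show 0 < 3 by norm_num) (show m ≤ 3 by omega)
        omega
      exact absurd ((pow_dvd_pow 3 this).trans hd) (by norm_num)
    have hnorm : zpowers r ≤ normalizer (P : Set G) := zpowers_le.mpr
      (centralizer_le_normalizer _ (mem_centralizer_iff.mpr fun u hu => (hrP u hu).eq))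
    have hsup : IsPGroup 3 (zpowers r ⊔ P : Subgroup G) :=
      (IsPGroup.of_card (n := k) (by rw [Nat.card_zpowers, hk])).to_sup_of_normal_right'
        (IsPGroup.of_card (n := 3) hP) hnorm
    have heq := eq_of_le_of_card_ge (le_sup_right : P ≤ zpowers r ⊔ P) (by rw [hP]; exact hsy _ hsup)
    have hrmem : r ∈ P := heq ▸ mem_sup_left (mem_zpowers r)
    have h1 : Commute z r := (hPz r hrmem).symm
    refine hc ?_
    have h2 : z * (z * s) = z * s * z := h1.eq
    rw [mul_assoc z s z] at h2
    exact (mul_left_cancel h2).symm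

theorem card_cent_z (D : OrderData G) {z : G} (hz : IsZ z) : Nat.card (cnt1 z) = 21504 := by
  classical
  refine (z_dichotomy D hz).resolve_right fun hC => ?_
  have : Fact (Nat.Prime 7) := ⟨by norm_num⟩
  have : Fact (Nat.Prime 3) := ⟨Nat.prime_three⟩
  obtain ⟨a, ha, haz⟩ := hz.2
  set H := cnt1 z with hH
  set zH : H := ⟨z, mem_centralizer_singleton_iff.mpr rfl⟩
  set aH : H := ⟨a, mem_centralizer_singleton_iff.mpr haz⟩
  have hcent : ∀ x : H, Commute zH x := fun x => Subtype.ext (mem_centralizer_singleton_iff.mp x.2).symm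
  have : (zpowers zH).Normal := ⟨fun n hn g => by
    obtain ⟨i, rfl⟩ := mem_zpowers_iff.mp hn
    rw [← ((hcent g).zpow_left i).eq, mul_inv_cancel_right]
    exact zpow_mem (mem_zpowers _) i⟩
  have haC : Nat.card (cnt1 aH) = 7 * 2 := by
    have h := card_norm_inter (p := 42) haz hz.1 (D.cent_seven a ha).2.1
      (fun r hr har => conj_in_cent_seven D ha hz.1 hr haz har) (D.norm_seven a ha)
    have hcls := class_in_subgroup (cnt1 a) (mem_cnt1.mpr haz)
    rw [(D.cent_seven a ha).1] at hcls
    have e : Nat.card {g : G // ∃ n ∈ cnt1 a, n * z * n⁻¹ = g} = 3 := by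
      rw [← (D.cent_seven a ha).2.1]
      refine Nat.card_congr (Equiv.subtypeEquivRight fun g => ⟨?_, ?_⟩)
      · rintro ⟨n, hn, rfl⟩
        exact ⟨(orderOf_conj n z).trans hz.1,
          ((show Commute a n from mem_cnt1.mp hn).mul_right haz).mul_right
            (show Commute a n from mem_cnt1.mp hn).inv_right⟩
      · rintro ⟨hg, hag⟩
        obtain ⟨u, hu, eu⟩ := conj_in_cent_seven D ha hz.1 hg haz hag
        exact ⟨u, mem_cnt1.mpr hu, eu⟩
    rw [e] at hcls
    have e2 : Nat.card (cnt1 aH) = Nat.card ↥(cnt1 a ⊓ cnt1 z) := Nat.card_congr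
      { toFun := fun g => ⟨g.1.1, mem_centralizer_singleton_iff.mpr
          (congrArg Subtype.val (mem_centralizer_singleton_iff.mp g.2)), g.1.2⟩
        invFun := fun g => ⟨⟨g.1, g.2.2⟩, mem_centralizer_singleton_iff.mpr
          (Subtype.ext (mem_centralizer_singleton_iff.mp g.2.1))⟩
        left_inv := fun _ => rfl
        right_inv := fun _ => rfl }
    rw [e2]
    omega
  have haN : Nat.card (nrm aH) = 7 * 2 * 3 := by
    refine Eq.trans ?_ (card_norm_inter (p := 42) haz hz.1 (D.cent_seven a ha).2.1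
      (fun r hr har => conj_in_cent_seven D ha hz.1 hr haz har) (D.norm_seven a ha))
    refine Nat.card_congr
      { toFun := fun g => ⟨g.1.1, g.1.2, ?_⟩
        invFun := fun g => ⟨⟨g.1, g.2.1⟩, ?_⟩
        left_inv := fun _ => rfl
        right_inv := fun _ => rfl }
    · refine mem_normalizer_fintype fun x hx => ?_
      obtain ⟨i, rfl⟩ := mem_zpowers_iff.mp hx
      obtain ⟨j, hj⟩ := mem_zpowers_iff.mp
        ((mem_normalizer_iff.mp g.2 (aH ^ i)).mp (zpow_mem (mem_zpowers aH) i))
      exact mem_zpowers_iff.mpr ⟨j, by simpa [aH] using congrArg Subtype.val hj⟩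
    · refine mem_normalizer_fintype fun x hx => ?_
      obtain ⟨i, rfl⟩ := mem_zpowers_iff.mp hx
      obtain ⟨j, hj⟩ := mem_zpowers_iff.mp
        ((mem_normalizer_iff.mp g.2.2 (a ^ i)).mp (zpow_mem (mem_zpowers a) i))
      exact mem_zpowers_iff.mpr ⟨j, Subtype.ext (by simpa [aH] using hj)⟩
  obtain ⟨hX, hXN⟩ := central_quotient (X := H) (p := 7) (q := 2) (e := 3) (by norm_num) (by rw [hC]; norm_num)
    (by rw [orderOf_mk, ha]) (c := zH) (by rw [orderOf_mk, hz.1]) (by norm_num) hcent haC haN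
  set π := QuotientGroup.mk' (zpowers zH) with hπ
  have hXcard : Nat.card (H ⧸ zpowers zH) = 48384 := by
    have := (zpowers zH).card_eq_card_quotient_mul_card_subgroup
    rw [hC, Nat.card_zpowers, orderOf_mk, hz.1] at this
    omega
  obtain ⟨K, hKn, hKp, hmax⟩ := exists_max_normal (H ⧸ zpowers zH) 7
  have hKdvd : Nat.card K ∣ 2 ^ 8 * 3 ^ 3 := by
    have hd := card_subgroup_dvd_card K
    rw [hXcard, show (48384 : ℕ) = 2 ^ 8 * 3 ^ 3 * 7 by norm_num] at hd
    exact ((Nat.Prime.coprime_iff_not_dvd (by norm_num)).mpr hKp).symm.dvd_of_dvd_mul_right hd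
  obtain ⟨u, v, hu, hv, huv⟩ := Nat.dvd_mul.mp hKdvd
  obtain ⟨i, hi, rfl⟩ := (Nat.dvd_prime_pow Nat.prime_two).mp hu
  obtain ⟨j, hj, rfl⟩ := (Nat.dvd_prime_pow Nat.prime_three).mp hv
  have hK8 : Nat.card K = 1 ∨ Nat.card K = 8 ∨ Nat.card K = 64 := by
    have h2 := core_part hX K hKp Nat.prime_two
    have h3 := core_part hX K hKp Nat.prime_three
    rw [← huv, Nat.factorization_mul (by simp) (by simp), Finsupp.add_apply,
      Nat.Prime.factorization_pow Nat.prime_two, Nat.Prime.factorization_pow Nat.prime_three] at h2 h3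
    simp only [Finsupp.single_eq_same, Finsupp.single_apply] at h2 h3
    rw [← huv]
    exact core_card_check i (List.mem_range.mpr (by omega)) j (List.mem_range.mpr (by omega))
      (by simpa using h2) (by simpa using h3)
  have hQcard := K.card_eq_card_quotient_mul_card_subgroup
  rw [hXcard] at hQcard
  obtain ⟨hsimp, hna⟩ := (hX.quotient K hKp).isSimple (e := 3) (by norm_num)
    (by rw [hX.card_nrm_quotient K hKp, hXN])
    (by rcases hK8 with h | h | h <;> rw [h] at hQcard <;> omega) (quotient_core hKp hmax)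
  rcases hK8 with h | h | h
  · -- the simple case
    have hKbot : K = ⊥ := card_eq_one.mp h
    obtain ⟨hS, hnaX⟩ := hX.isSimple (e := 3) (by norm_num) hXN (by rw [hXcard]; norm_num)
      fun L hL hp => (hmax L hL (hKbot ▸ bot_le) hp).trans hKbot
    obtain ⟨P⟩ := (inferInstance : Nonempty (Sylow 3 H))
    have hPc := card_sylow_subgroup (p := 3) (e := 3) (m := 3584) (by rw [hC]; norm_num) (by norm_num) P
    obtain ⟨s, hs, hsz, hsc, hsP⟩ := exists_invol_cent D hz.1 (P := (P : Subgroup H).map H.subtype)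
      (by rw [← Nat.card_congr ((P : Subgroup H).equivMapOfInjective _ H.subtype_injective).toEquiv, hPc]; norm_num)
      (by rintro _ ⟨x, -, rfl⟩; exact mem_centralizer_singleton_iff.mp x.2)
    set sH : H := ⟨s, mem_centralizer_singleton_iff.mpr hsc.eq⟩
    have hker : ∀ x : H, π x = 1 → x = 1 ∨ x = zH := fun x hx => by
      obtain ⟨k, hk⟩ := mem_zpowers_iff.mp ((QuotientGroup.eq_one_iff x).mp hx)
      rw [← hk, ← zpow_mod_orderOf, orderOf_mk, hz.1]
      rcases Int.emod_two_eq_zero_or_one k with e | e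
      · left; simp [e]
      · right; simp [e]
    have hs2 : orderOf (π sH) = 2 := orderOf_eq_prime (by
      rw [← map_pow, show sH ^ 2 = 1 from Subtype.ext (by rw [SubgroupClass.coe_pow, pow_two]; exact mul_self_of_two hs),
        map_one]) fun e => by
        rcases hker sH e with e' | e'
        · exact ne_one_of_two hs (congrArg Subtype.val e')
        · exact hsz (congrArg Subtype.val e')
    refine false_of_48384 hnaX hXcard hX.ord hX.cent (hXN.trans (by norm_num)) hs2 ?_
    have hle : (P : Subgroup H).map π ≤ cnt1 (π sH) := by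
      rintro _ ⟨x, hx, rfl⟩
      refine mem_cnt1.mpr ?_
      rw [← _root_.map_mul, ← _root_.map_mul]
      congr 1
      exact Subtype.ext (hsP x ⟨x, hx, rfl⟩).symm
    refine (dvd_of_eq ?_).trans (card_dvd_of_le hle)
    rw [show (27 : ℕ) = Nat.card (P : Subgroup H) by rw [hPc]; norm_num]
    refine (Nat.card_congr (Equiv.ofBijective (fun x : (P : Subgroup H) =>
      (⟨π x, mem_map_of_mem π x.2⟩ : (P : Subgroup H).map π)) ⟨fun x y e => ?_, ?_⟩))
    · have e' : π (x : H) = π y := congrArg Subtype.val e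
      have h1 := (QuotientGroup.eq_one_iff _).mp (show π ((x : H) * (y : H)⁻¹) = 1 by
        rw [_root_.map_mul, e', map_inv, mul_inv_cancel])
      have h2 := orderOf_dvd_natCard (⟨_, h1⟩ : zpowers zH)
      have h3 := orderOf_dvd_natCard (⟨(x : H) * (y : H)⁻¹, mul_mem x.2 (inv_mem y.2)⟩ : (P : Subgroup H))
      rw [orderOf_mk, Nat.card_zpowers, show orderOf zH = 2 from (orderOf_mk _ _).trans hz.1] at h2
      rw [orderOf_mk, hPc] at h3
      exact Subtype.ext (mul_inv_eq_one.mp (orderOf_eq_one_iff.mp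
        (Nat.eq_one_of_dvd_coprimes (by norm_num) h2 h3)))
    · rintro ⟨_, x, hx, rfl⟩
      exact ⟨⟨x, hx⟩, rfl⟩
  · -- a quotient of order 6048 acting on eight elements
    rw [h] at hQcard
    exact no_action hX h (by omega) hsimp
  · -- a quotient of order 756
    rw [h] at hQcard
    exact O756.card_ne hna (by omega)

end Cfsg.Agent.Order244823040
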