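/-
Elements of order three and their commuting involutions.

Main results (namespace `Cfsg.Agent.Order244823040`): `card_norm_pair`, `card_pair_dvd`, `card_cent_y`,
`exists_complement`, `separated`.
-/
import Cfsg.Agent.Lib.Order244823040.Kill

set_option autoImplicit false

open Subgroup Cfsg.Agent.SameOrder Cfsg.Agent.SmallOrders Cfsg.Agent.Order10200960

namespace Cfsg.Agent.Order244823040

theorem count_check : ∀ i ∈ List.range 11, ∀ j ∈ List.range 2, ∀ k ∈ List.range 10, ∀ l ∈ List.range 2,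
    11385 * (2 * (2 ^ i * 7 ^ j)) + 31878 * (2 * (2 ^ k * 5 ^ l)) = 20401920 →
      2 ^ i * 7 ^ j = 448 ∧ 2 ^ k * 5 ^ l = 160 := by decide +kernel

theorem y_check : ∀ i ∈ List.range 5, ∀ j ∈ List.range 2, ∀ k ∈ List.range 2,
    2 ^ i * 3 ^ j * 5 ^ k % 7 = 1 → 6 ≤ 2 ^ i * 3 ^ j * 5 ^ k →
      2 ^ i * 3 ^ j * 5 ^ k = 8 ∨ 2 ^ i * 3 ^ j * 5 ^ k = 15 ∨ 2 ^ i * 3 ^ j * 5 ^ k = 120 := by decide +kernel

/-- An automorphism of order dividing two fixing an element of order seven of a simple group of order 168 is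
trivial. -/
theorem aut_trivial {S : Type*} [Group S] [Finite S] [IsSimpleGroup S] {a : S} (h : SelfCent 7 a)
    (hcard : Nat.card S = 168) (hN : Nat.card (nrm a) = 21) (θ : S →* S) (hinv : ∀ s, θ (θ s) = s)
    (ha : θ a = a) (s : S) : θ s = s := by
  classical
  have : Fact (Nat.Prime 7) := ⟨by norm_num⟩
  set N := nrm a with hN'
  have hθN : ∀ n ∈ N, θ n ∈ N := fun n hn => by
    refine mem_normalizer_fintype fun z hz => ?_
    obtain ⟨i, rfl⟩ := mem_zpowers_iff.mp hz
    obtain ⟨j, hj⟩ := mem_zpowers_iff.mp ((mem_normalizer_iff.mp hn a).mp (mem_zpowers a))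
    rw [← conj_zpow, ← ha, ← map_inv, ← _root_.map_mul, ← _root_.map_mul, ← hj, map_zpow, ha]
    exact zpow_mem (zpow_mem (mem_zpowers a) j) i
  have haN : a ∈ N := cnt1_le_nrm a (mem_centralizer_singleton_iff.mpr rfl)
  have hidx : N.index = 8 := by
    have := N.card_mul_index
    rw [hN, hcard] at this
    omega
  have hfix : ∀ x : S, ((a * x : S) : S ⧸ N) = (x : S ⧸ N) → x ∈ N := by
    intro x hx
    have hmem : x⁻¹ * a * x ∈ N := by
      have h1 := QuotientGroup.eq.mp hx.symm
      rwa [← mul_assoc] at h1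
    have hsyl : ∀ b : S, orderOf b = 7 → b ∈ N → b ∈ zpowers a := fun b hb hbN => by
      obtain ⟨m, hm, hmod, hsy⟩ := sub_inf_normalizer_mul h.ord N (fun hd => by
        rw [hN] at hd; norm_num at hd) haN
      rw [inf_idem, hN] at hm
      have hone : Nat.card (Sylow 7 N) = 1 := by rw [hsy]; omega
      have := Order95040.mem_zpowers_of_unique (G := N) (fun Q => by
        rw [card_sylow_subgroup (p := 7) (e := 1) (m := 3) (by rw [hN]; norm_num) (by norm_num) Q, pow_one])
        hone (x := ⟨a, haN⟩) (y := ⟨b, hbN⟩) (by rw [orderOf_mk, h.ord]) (by rw [orderOf_mk, hb])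
      obtain ⟨i, hi⟩ := mem_zpowers_iff.mp this
      exact mem_zpowers_iff.mpr ⟨i, congrArg Subtype.val hi⟩
    refine mem_normalizer_fintype fun z hz => ?_
    obtain ⟨i, rfl⟩ := mem_zpowers_iff.mp hz
    have ho : orderOf (x⁻¹ * a * x) = 7 := by
      have := orderOf_conj x⁻¹ a
      rwa [inv_inv, h.ord] at this
    obtain ⟨j, hj⟩ := mem_zpowers_iff.mp (hsyl _ ho hmem)
    have hz : zpowers (x⁻¹ * a * x) = zpowers a := eq_of_le_of_card_ge (zpowers_le.mpr (hsyl _ ho hmem))
      (by rw [Nat.card_zpowers, Nat.card_zpowers, ho, h.ord])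
    obtain ⟨k, hk⟩ := mem_zpowers_iff.mp (hz.symm ▸ mem_zpowers a : a ∈ zpowers (x⁻¹ * a * x))
    have hk' : x * a * x⁻¹ = a ^ k := by
      rw [show (x⁻¹ * a * x) = x⁻¹ * a * (x⁻¹)⁻¹ by rw [inv_inv], conj_zpow, inv_inv] at hk
      calc x * a * x⁻¹ = x * (x⁻¹ * a ^ k * x) * x⁻¹ := by rw [hk]
        _ = a ^ k := by group
    rw [← conj_zpow, hk']
    exact zpow_mem (zpow_mem (mem_zpowers a) k) i
  -- every coset is fixed
  have hcoset : ∀ x : S, x⁻¹ * θ x ∈ N := by
    intro x
    by_cases hx : x ∈ N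
    · exact mul_mem (inv_mem hx) (hθN x hx)
    let f : Fin 7 → S ⧸ N := fun i => ((a ^ (i : ℕ) * x : S) : S ⧸ N)
    have hinj : ∀ k : ℕ, ((a ^ k * x : S) : S ⧸ N) = (x : S ⧸ N) → 7 ∣ k := by
      intro k hk
      by_contra h7
      obtain ⟨m, hm⟩ := exists_pow_eq_self_of_coprime (n := k) (x := a)
        (by rw [h.ord]; exact ((Nat.Prime.coprime_iff_not_dvd (by norm_num)).mpr h7).symm)
      refine hx (hfix x ?_)
      have : ∀ i : ℕ, (((a ^ k) ^ i * x : S) : S ⧸ N) = (x : S ⧸ N) := by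
        intro i
        induction i with
        | zero => simp
        | succ i ih =>
          rw [pow_succ', mul_assoc]
          have e : ((a ^ k * ((a ^ k) ^ i * x) : S) : S ⧸ N) = ((a ^ k * x : S) : S ⧸ N) := by
            rw [QuotientGroup.eq] at ih ⊢
            rw [show (a ^ k * ((a ^ k) ^ i * x))⁻¹ * (a ^ k * x) = ((a ^ k) ^ i * x)⁻¹ * x by group]
            exact ih
          rw [e, hk]
      rw [← this m, hm]
    have hf : Function.Injective f := by
      intro i j e
      have key : ∀ i j : Fin 7, (i : ℕ) ≤ j → f i = f j → i = j := by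
        intro i j hle e
        have h1 : ((a ^ ((j : ℕ) - i) * x : S) : S ⧸ N) = (x : S ⧸ N) := by
          rw [QuotientGroup.eq] at e ⊢
          rw [show (a ^ ((j : ℕ) - i) * x)⁻¹ * x =
            ((a ^ (i : ℕ) * (a ^ ((j : ℕ) - i) * x))⁻¹ * (a ^ (i : ℕ) * x)) by group]
          rw [← mul_assoc (a ^ (i : ℕ)) (a ^ ((j : ℕ) - i)) x, ← pow_add, Nat.add_sub_cancel' hle]
          have := inv_mem e
          rwa [mul_inv_rev, inv_inv] at this
        have := hinj _ h1
        have := j.2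
        exact Fin.ext (by omega)
      rcases le_total (i : ℕ) j with hij | hij
      · exact key i j hij e
      · exact (key j i hij e.symm).symm
    by_cases hk : ∃ k : Fin 7, f k = (θ x : S ⧸ N)
    · obtain ⟨k, hk⟩ := hk
      have h1 : (a ^ (k : ℕ) * x)⁻¹ * θ x ∈ N := QuotientGroup.eq.mp hk
      have h2 := hθN _ h1
      rw [_root_.map_mul, map_inv, hinv, _root_.map_mul, map_pow, ha] at h2
      have h4 : x⁻¹ * (a ^ (k : ℕ) * θ x) ∈ N := by
        have := inv_mem h2
        simpa [mul_assoc] using this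
      have h5 := mul_mem h4 (inv_mem h1)
      have h6 : ((a ^ (2 * (k : ℕ)) * x : S) : S ⧸ N) = (x : S ⧸ N) := by
        rw [eq_comm, QuotientGroup.eq, two_mul, pow_add]
        convert h5 using 1
        group
      have := hinj _ h6
      have := k.2
      have hk0 : (k : ℕ) = 0 := by omega
      rw [hk0, pow_zero, one_mul] at h1
      exact h1
    · exfalso
      -- the eighth coset is that of `N`
      have hN1 : ∀ i, f i ≠ ((1 : S) : S ⧸ N) := fun i e => by
        have h1 : (a ^ (i : ℕ) * x)⁻¹ * 1 ∈ N := QuotientGroup.eq.mp e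
        rw [mul_one] at h1
        have h2 := mul_mem (inv_mem (pow_mem haN (i : ℕ))) (inv_mem h1)
        rw [inv_inv, inv_mul_cancel_left] at h2
        exact hx h2
      have hθ1 : (θ x : S ⧸ N) ≠ ((1 : S) : S ⧸ N) := fun e => by
        have h1 : (θ x)⁻¹ * 1 ∈ N := QuotientGroup.eq.mp e
        have h2 := hθN _ (inv_mem h1)
        simp only [mul_one, inv_inv, hinv] at h2
        exact hx h2
      have hinj2 : Function.Injective (Sum.elim f (fun b : Bool => if b then (θ x : S ⧸ N) else ((1 : S) : S ⧸ N))) := by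
        refine Function.Injective.sumElim hf (fun b c e => ?_) fun i b e => ?_
        · cases b <;> cases c
          · rfl
          · exact absurd (by simpa using e.symm) hθ1
          · exact absurd (by simpa using e) hθ1
          · rfl
        · cases b
          · exact hN1 i (by simpa using e)
          · exact hk ⟨i, by simpa using e⟩
      have hle := Nat.card_le_card_of_injective _ hinj2
      rw [Nat.card_sum, Nat.card_fin, ← Subgroup.index_eq_card, hidx] at hle
      simp at hle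
  have hcore : s⁻¹ * θ s ∈ N.normalCore := by
    intro g
    have h1 := hcoset g⁻¹
    have h2 := hcoset (s * g⁻¹)
    rw [mul_inv_rev, inv_inv, _root_.map_mul] at h2
    rw [inv_inv] at h1
    have := mul_mem h2 (inv_mem h1)
    simpa [mul_assoc] using this
  rcases (IsSimpleGroup.eq_bot_or_eq_top_of_normal _ (normalCore_normal N)) with h0 | h0
  · rw [h0, mem_bot, inv_mul_eq_one] at hcore
    exact hcore.symm
  · exfalso
    have := card_dvd_of_le (h0 ▸ normalCore_le N : (⊤ : Subgroup S) ≤ N)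
    rw [card_top, hcard, hN] at this
    norm_num at this

variable {G : Type*} [Group G] [Finite G]

theorem card_pairs_six : Nat.card (Σ t : {t : G // orderOf t = 2}, {v : G // orderOf v = 3 ∧ t.1 * v = v * t.1}) =
    numOrder G 6 := by
  obtain ⟨e, f, hef⟩ := PowEqOne.exists_split (G := G) (u := 2) (q := 3) (by norm_num)
  have hord : ∀ t v : G, orderOf t = 2 → orderOf v = 3 → t * v = v * t → orderOf (t * v) = 6 := fun t v ht hv h => by
    rw [(show Commute t v from h).orderOf_mul_eq_mul_orderOf_of_coprime (by rw [ht, hv]; norm_num), ht, hv]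
  refine Nat.card_congr (Equiv.ofBijective (fun s => (⟨s.1.1 * s.2.1, hord _ _ s.1.2 s.2.2.1 s.2.2.2⟩ :
    {g : G // orderOf g = 6})) ⟨?_, ?_⟩)
  · rintro ⟨⟨t, ht⟩, v, hv, hc⟩ ⟨⟨t', ht'⟩, v', hv', hc'⟩ h
    have h' : t * v = t' * v' := congrArg Subtype.val h
    have hp : (t * v) ^ (2 * 3) = 1 := by
      rw [show 2 * 3 = orderOf (t * v) from (hord t v ht hv hc).symm]; exact pow_orderOf_eq_one _
    obtain ⟨-, -, -, h4⟩ := hef _ hp
    obtain ⟨e1, e2⟩ := h4 t v hc (ht ▸ pow_orderOf_eq_one t) (hv ▸ pow_orderOf_eq_one v) rfl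
    obtain ⟨e3, e4⟩ := h4 t' v' hc' (ht' ▸ pow_orderOf_eq_one t') (hv' ▸ pow_orderOf_eq_one v') h'.symm
    obtain rfl : t = t' := e1.symm.trans e3
    obtain rfl : v = v' := e2.symm.trans e4
    rfl
  · rintro ⟨g, hg⟩
    obtain ⟨h1, h2, h3, -⟩ := hef g (by rw [show 2 * 3 = orderOf g by rw [hg]]; exact pow_orderOf_eq_one g)
    have hc : Commute (g ^ e) (g ^ f) := (Commute.refl g).pow_pow e f
    have ho : orderOf (g ^ e) * orderOf (g ^ f) = 6 := by
      rw [← hc.orderOf_mul_eq_mul_orderOf_of_coprime (Nat.Coprime.coprime_dvd_left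
        (orderOf_dvd_of_pow_eq_one h1) (Nat.Coprime.coprime_dvd_right (orderOf_dvd_of_pow_eq_one h2) (by norm_num))),
        h3, hg]
    have hd1 := Nat.le_of_dvd (by norm_num) (orderOf_dvd_of_pow_eq_one h1)
    have hd2 := Nat.le_of_dvd (by norm_num) (orderOf_dvd_of_pow_eq_one h2)
    have ho2 : orderOf (g ^ e) = 2 := by
      generalize orderOf (g ^ e) = p at *
      generalize orderOf (g ^ f) = q at *
      interval_cases p <;> omega
    exact ⟨⟨⟨g ^ e, ho2⟩, g ^ f, by rw [ho2] at ho; omega, hc.eq⟩, Subtype.ext h3⟩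

theorem numOrder_three_cent {t : G} {n : ℕ} (hn : Nat.card (cnt1 t) = 3 * n) (h3 : ¬ 3 ∣ n) :
    commCount t 3 = Nat.card (Sylow 3 (cnt1 t)) * 2 ∧ Nat.card (Sylow 3 (cnt1 t)) ∣ n := by
  have : Fact (Nat.Prime 3) := ⟨Nat.prime_three⟩
  have h : Nat.card (cnt1 t) = 3 ^ 1 * n := by rw [pow_one, hn]
  refine ⟨?_, ?_⟩
  · rw [← commCount_eq_numOrder, numOrder,
      card_orderOf_eq_prime fun Q => by rw [card_sylow_subgroup h h3 Q, pow_one]]
  · obtain ⟨P⟩ := (inferInstance : Nonempty (Sylow 3 (cnt1 t)))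
    exact index_sylow h h3 P ▸ P.card_dvd_index

variable (D : OrderData G)
include D

theorem commCount_const {s t : G} (h : IsConj s t) (q : ℕ) : commCount s q = commCount t q := by
  obtain ⟨w, rfl⟩ := isConj_iff.mp h
  refine Nat.card_congr (Equiv.subtypeEquiv (MulAut.conj w).toEquiv fun y => ?_)
  simp only [MulEquiv.toEquiv_eq_coe, EquivLike.coe_coe, MulAut.conj_apply, orderOf_conj]
  refine and_congr_right fun _ => ⟨conj_comm, fun e => ?_⟩
  have := congrArg (fun x => w⁻¹ * x * w) e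
  simpa [mul_assoc] using this

theorem invol_cases {t : G} (ht : orderOf t = 2) : IsZ t ∨ IsU t := by
  obtain ⟨z, hz⟩ := exists_z D
  exact isZ_or_isU D hz (card_cent_z D hz) ht

theorem card_zset : Nat.card {t : G // IsZ t} = 11385 := by
  obtain ⟨z, hz⟩ := exists_z D
  have := card_zset_mul D hz
  rw [card_cent_z D hz] at this
  omega

theorem sylow_three_counts {z u : G} (hz : IsZ z) (hu : IsU u) :
    Nat.card (Sylow 3 (cnt1 z)) = 448 ∧ Nat.card (Sylow 3 (cnt1 u)) = 160 := by
  classical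
  obtain ⟨hkz, hdz⟩ := numOrder_three_cent (t := z) (n := 7168) (card_cent_z D hz) (by norm_num)
  obtain ⟨hku, hdu⟩ := numOrder_three_cent (t := u) (n := 2560) (card_cent_u D hu) (by norm_num)
  have hsum : 11385 * commCount z 3 + 31878 * commCount u 3 = 20401920 := by
    rw [← D.num_six, ← card_pairs_six (G := G)]
    have := Fintype.ofFinite G
    rw [Nat.card_sigma, ← Finset.sum_filter_add_sum_filter_not (s := Finset.univ)
      (p := fun t : {t : G // orderOf t = 2} => IsZ t.1)]
    congr 1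
    · rw [Finset.sum_congr rfl fun t ht => (show Nat.card {v : G // orderOf v = 3 ∧ t.1 * v = v * t.1} =
          commCount z 3 from commCount_const D (isConj_z D (Finset.mem_filter.mp ht).2 hz) 3),
        Finset.sum_const, smul_eq_mul]
      congr 1
      rw [← card_zset D, ← Fintype.card_subtype, ← Nat.card_eq_fintype_card]
      exact Nat.card_congr
        { toFun := fun t => ⟨⟨t.1, t.2.1⟩, t.2⟩
          invFun := fun t => ⟨t.1.1, t.2⟩
          left_inv := fun _ => rfl
          right_inv := fun _ => rfl }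
    · rw [Finset.sum_congr rfl fun t ht => (show Nat.card {v : G // orderOf v = 3 ∧ t.1 * v = v * t.1} =
          commCount u 3 from commCount_const D
            (isConj_u D ((invol_cases D t.2).resolve_left (Finset.mem_filter.mp ht).2) hu) 3),
        Finset.sum_const, smul_eq_mul]
      congr 1
      rw [← card_uset D, ← Fintype.card_subtype, ← Nat.card_eq_fintype_card]
      exact Nat.card_congr
        { toFun := fun t => ⟨⟨t.1, t.2.1⟩, not_z_of_u D t.2⟩
          invFun := fun t => ⟨t.1.1, (invol_cases D t.1.2).resolve_left t.2⟩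
          left_inv := fun _ => rfl
          right_inv := fun _ => rfl }
  rw [hkz, hku, mul_comm _ 2, mul_comm _ 2] at hsum
  obtain ⟨x1, x2, hx1, hx2, hx⟩ := Nat.dvd_mul.mp (hdz.trans (show 7168 ∣ 2 ^ 10 * 7 ^ 1 by norm_num))
  obtain ⟨i, hi, rfl⟩ := (Nat.dvd_prime_pow Nat.prime_two).mp hx1
  obtain ⟨j, hj, rfl⟩ := (Nat.dvd_prime_pow (by norm_num)).mp hx2
  obtain ⟨y1, y2, hy1, hy2, hy⟩ := Nat.dvd_mul.mp (hdu.trans (show 2560 ∣ 2 ^ 9 * 5 ^ 1 by norm_num))
  obtain ⟨k, hk, rfl⟩ := (Nat.dvd_prime_pow Nat.prime_two).mp hy1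
  obtain ⟨l, hl, rfl⟩ := (Nat.dvd_prime_pow (by norm_num)).mp hy2
  rw [← hx, ← hy] at hsum ⊢
  exact count_check i (List.mem_range.mpr (by omega)) j (List.mem_range.mpr (by omega)) k
    (List.mem_range.mpr (by omega)) l (List.mem_range.mpr (by omega)) hsum

theorem card_norm_pair {t v : G} (ht : orderOf t = 2) (hv : orderOf v = 3) (hc : t * v = v * t) :
    Nat.card ↥(cnt1 t ⊓ nrm v) = 48 := by
  have : Fact (Nat.Prime 3) := ⟨Nat.prime_three⟩
  obtain ⟨z, hz⟩ := exists_z D
  obtain ⟨u, hu⟩ := exists_u D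
  rcases invol_cases D ht with h | h
  · obtain ⟨m, hm, -, hs⟩ := sub_inf_normalizer_mul hv (cnt1 t) (by rw [card_cent_z D h]; norm_num) (mem_cnt1.mpr hc)
    rw [card_cent_z D h, ← hs, (sylow_three_counts D h hu).1] at hm
    omega
  · obtain ⟨m, hm, -, hs⟩ := sub_inf_normalizer_mul hv (cnt1 t) (by rw [card_cent_u D h]; norm_num) (mem_cnt1.mpr hc)
    rw [card_cent_u D h, ← hs, (sylow_three_counts D hz h).2] at hm
    omega

theorem card_pair_dvd {t v : G} (ht : orderOf t = 2) (hv : orderOf v = 3) (hc : t * v = v * t) :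
    Nat.card ↥(cnt1 t ⊓ cnt1 v) ∣ 48 :=
  card_norm_pair D ht hv hc ▸ card_dvd_of_le (inf_le_inf_left _ (cnt1_le_nrm v))

/-- Elements of `C(a)` for `a` of order seven, by order. -/
theorem cent_seven_orders {a g : G} (ha : orderOf a = 7) (hg : a * g = g * a) :
    orderOf g ∈ [1, 2, 3, 7, 14, 21] := by
  have : Fact (Nat.Prime 7) := ⟨by norm_num⟩
  obtain ⟨hC, k2, k3⟩ := D.cent_seven a ha
  have := orderOf_cases (by rw [D.card]; norm_num) ha hC (by omega) (by norm_num) hg
  simpa using this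

theorem cent_five_orders {a g : G} (ha : orderOf a = 5) (hg : a * g = g * a) :
    orderOf g ∈ [1, 2, 3, 5, 10, 15] := by
  have : Fact (Nat.Prime 5) := ⟨by norm_num⟩
  obtain ⟨hC, k2, k3⟩ := D.cent_five a ha
  have := orderOf_cases (by rw [D.card]; norm_num) ha hC (by omega) (by norm_num) hg
  simpa using this

theorem conj_inv_seven {a s y : G} (ha : orderOf a = 7) (hs : orderOf s = 2) (hy : orderOf y = 3)
    (has : a * s = s * a) (hay : a * y = y * a) : s * y * s⁻¹ = y⁻¹ := by
  classical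
  have := Fintype.ofFinite G
  set T : Finset G := Finset.univ.filter fun g => orderOf g = 3 ∧ a * g = g * a with hT
  have hTc : T.card = 2 := by
    rw [← (D.cent_seven a ha).2.2, commCount, Nat.card_eq_fintype_card, Fintype.card_subtype]
  have hne : y ≠ y⁻¹ := fun e => by
    have h2 : y ^ 2 = 1 := by rw [pow_two]; nth_rw 2 [e]; exact mul_inv_cancel y
    have := orderOf_dvd_of_pow_eq_one h2
    rw [hy] at this
    norm_num at this
  have hsub : ({y, y⁻¹} : Finset G) ⊆ T := by
    intro g hg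
    simp only [Finset.mem_insert, Finset.mem_singleton] at hg
    rcases hg with rfl | rfl
    · simp [hT, hy, hay]
    · simp [hT, hy, (show Commute a y from hay).inv_right.eq]
  have heq := Finset.eq_of_subset_of_card_le hsub (by rw [hTc, Finset.card_pair hne])
  have hmem : s * y * s⁻¹ ∈ ({y, y⁻¹} : Finset G) := heq ▸ by
    simp only [hT, Finset.mem_filter, Finset.mem_univ, true_and]
    exact ⟨(orderOf_conj s y).trans hy,
      ((show Commute a s from has).mul_right hay).mul_right (show Commute a s from has).inv_right⟩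
  simp only [Finset.mem_insert, Finset.mem_singleton] at hmem
  refine hmem.resolve_left fun e => ?_
  have hc : Commute s y := mul_inv_eq_iff_eq_mul.mp e
  have h6 : orderOf (s * y) = 6 := by
    rw [hc.orderOf_mul_eq_mul_orderOf_of_coprime (by rw [hs, hy]; norm_num), hs, hy]
  have := cent_seven_orders D ha (g := s * y) ((show Commute a s from has).mul_right hay)
  rw [h6] at this
  simp at this

theorem card_cent_seven_three {a y : G} (ha : orderOf a = 7) (hy : orderOf y = 3) (hay : a * y = y * a) :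
    Nat.card ↥(cnt1 a ⊓ cnt1 y) = 21 := by
  have : Fact (Nat.Prime 2) := ⟨Nat.prime_two⟩
  have hd : Nat.card ↥(cnt1 a ⊓ cnt1 y) ∣ 7 * 6 := (D.cent_seven a ha).1 ▸ card_dvd_of_le inf_le_left
  have h7 : 7 ∣ Nat.card ↥(cnt1 a ⊓ cnt1 y) := by
    have := orderOf_dvd_natCard (⟨a, Subgroup.mem_inf.mpr ⟨mem_cnt1.mpr rfl, mem_cnt1.mpr hay.symm⟩⟩ :
      ↥(cnt1 a ⊓ cnt1 y))
    rwa [← orderOf_coe, Subtype.coe_mk, ha] at this
  have h3 : 3 ∣ Nat.card ↥(cnt1 a ⊓ cnt1 y) := by
    have := orderOf_dvd_natCard (⟨y, Subgroup.mem_inf.mpr ⟨mem_cnt1.mpr hay, mem_cnt1.mpr rfl⟩⟩ :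
      ↥(cnt1 a ⊓ cnt1 y))
    rwa [← orderOf_coe, Subtype.coe_mk, hy] at this
  have h2 : ¬ 2 ∣ Nat.card ↥(cnt1 a ⊓ cnt1 y) := fun h => by
    obtain ⟨s, hs⟩ := exists_prime_orderOf_dvd_card' (G := ↥(cnt1 a ⊓ cnt1 y)) 2 h
    have hs' : orderOf (s : G) = 2 := (orderOf_coe s).trans hs
    have e := conj_inv_seven D ha hs' hy (mem_cnt1.mp s.2.1) hay
    rw [mul_inv_eq_iff_eq_mul.mpr (mem_cnt1.mp s.2.2).symm] at e
    have h2 : y ^ 2 = 1 := by rw [pow_two]; nth_rw 2 [e]; exact mul_inv_cancel y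
    have := orderOf_dvd_of_pow_eq_one h2
    rw [hy] at this
    norm_num at this
  generalize Nat.card ↥(cnt1 a ⊓ cnt1 y) = n at *
  have := Nat.le_of_dvd (by norm_num) hd
  interval_cases n <;> omega

theorem card_norm_seven_three {a y : G} (ha : orderOf a = 7) (hy : orderOf y = 3) (hay : a * y = y * a) :
    Nat.card ↥(cnt1 y ⊓ nrm a) = 63 := by
  classical
  have h := class_in_subgroup (nrm a) (cnt1_le_nrm a (mem_cnt1.mpr hay))
  have e : Nat.card {g : G // ∃ n ∈ nrm a, n * y * n⁻¹ = g} = 2 := by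
    rw [← (D.cent_seven a ha).2.2]
    obtain ⟨⟨s, hs, has⟩⟩ := (Nat.card_ne_zero.mp
      (by rw [(D.cent_seven a ha).2.1]; norm_num : commCount a 2 ≠ 0)).1
    refine Nat.card_congr (Equiv.subtypeEquivRight fun g => ⟨?_, ?_⟩)
    · rintro ⟨n, hn, rfl⟩
      refine ⟨(orderOf_conj n y).trans hy, ?_⟩
      obtain ⟨k, hk⟩ := mem_zpowers_iff.mp ((mem_normalizer_iff.mp (inv_mem hn) a).mp (mem_zpowers a))
      rw [inv_inv] at hk
      have h2 := conj_comm (u := n) ((show Commute a y from hay).zpow_left k).eq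
      rw [hk] at h2
      simpa [mul_assoc] using h2
    · rintro ⟨hg, hag⟩
      have := Fintype.ofFinite G
      set T : Finset G := Finset.univ.filter fun x => orderOf x = 3 ∧ a * x = x * a
      have hTc : T.card = 2 := by
        rw [← (D.cent_seven a ha).2.2, commCount, Nat.card_eq_fintype_card, Fintype.card_subtype]
      by_contra hno
      have h1 : g ≠ y := fun e => hno ⟨1, one_mem _, by simp [e]⟩
      have h2 : g ≠ s * y * s⁻¹ := fun e => hno ⟨s, cnt1_le_nrm a (mem_cnt1.mpr has), e.symm⟩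
      have h3 : y ≠ s * y * s⁻¹ := fun e => by
        rw [conj_inv_seven D ha hs hy has hay] at e
        have h2 : y ^ 2 = 1 := by rw [pow_two]; nth_rw 2 [e]; exact mul_inv_cancel y
        have := orderOf_dvd_of_pow_eq_one h2
        rw [hy] at this
        norm_num at this
      have hle := Finset.card_le_card (show ({g, y, s * y * s⁻¹} : Finset G) ⊆ T from fun x hx => by
        simp only [Finset.mem_insert, Finset.mem_singleton] at hx
        simp only [T, Finset.mem_filter, Finset.mem_univ, true_and]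
        rcases hx with rfl | rfl | rfl
        · exact ⟨hg, hag⟩
        · exact ⟨hy, hay⟩
        · exact ⟨(orderOf_conj s y).trans hy,
            ((show Commute a s from has).mul_right hay).mul_right (show Commute a s from has).inv_right⟩)
      rw [hTc, Finset.card_insert_of_notMem (by simp [h1, h2]), Finset.card_pair h3] at hle
      omega
  rw [e, D.norm_seven a ha] at h
  rw [inf_comm]
  omega

/-- In `C(b)`, for `b` of order five, no element inverts an element of order three. -/
theorem five_not_inverted {b y g : G} (hb : orderOf b = 5) (hy : orderOf y = 3) (hby : b * y = y * b)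
    (hbg : b * g = g * b) (hg : g * y * g⁻¹ = y⁻¹) : False := by
  classical
  have : Fact (Nat.Prime 2) := ⟨Nat.prime_two⟩
  have hyy : y ≠ y⁻¹ := fun e => by
    have h2 : y ^ 2 = 1 := by rw [pow_two]; nth_rw 2 [e]; exact mul_inv_cancel y
    have := orderOf_dvd_of_pow_eq_one h2
    rw [hy] at this
    norm_num at this
  have hodd : ∀ n : ℕ, g ^ (2 * n + 1) * y * (g ^ (2 * n + 1))⁻¹ = y⁻¹ := by
    intro n
    induction n with
    | zero => simpa using hg
    | succ n ih =>
      have e : ∀ x : G, g * x⁻¹ * g⁻¹ = (g * x * g⁻¹)⁻¹ := fun x => by group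
      rw [show 2 * (n + 1) + 1 = 1 + 1 + (2 * n + 1) by ring, pow_add, pow_add, pow_one,
        show g * g * g ^ (2 * n + 1) * y * (g * g * g ^ (2 * n + 1))⁻¹ =
          g * (g * (g ^ (2 * n + 1) * y * (g ^ (2 * n + 1))⁻¹) * g⁻¹) * g⁻¹ by group, ih, e, hg, inv_inv, hg]
  have hmem := cent_five_orders D hb hbg
  rcases Nat.even_or_odd (orderOf g) with hev | ⟨k, hk⟩
  swap
  · have := hodd k
    rw [← hk, pow_orderOf_eq_one, one_mul, inv_one, mul_one] at this
    exact hyy this
  obtain ⟨t, ht, hbt, hti⟩ : ∃ t : G, orderOf t = 2 ∧ b * t = t * b ∧ t * y * t⁻¹ = y⁻¹ := by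
    simp only [List.mem_cons, List.not_mem_nil, or_false] at hmem
    rcases hmem with h | h | h | h | h | h <;> rw [h] at hev <;> norm_num at hev
    · exact ⟨g, h, hbg, hg⟩
    · exact ⟨g ^ (2 * 2 + 1), by rw [orderOf_pow' g (by norm_num), h]; norm_num,
        Commute.pow_right hbg _, hodd 2⟩
  obtain ⟨hC, k2, k3⟩ := D.cent_five b hb
  have hcls := class_in_subgroup (cnt1 b) (mem_cnt1.mpr hbt)
  have e3 : Nat.card {x : G // ∃ n ∈ cnt1 b, n * t * n⁻¹ = x} = 3 := by
    rw [← k2]
    refine Nat.card_congr (Equiv.subtypeEquivRight fun x => ⟨?_, ?_⟩)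
    · rintro ⟨n, hn, rfl⟩
      exact ⟨(orderOf_conj n t).trans ht,
        ((show Commute b n from mem_cnt1.mp hn).mul_right hbt).mul_right (show Commute b n from mem_cnt1.mp hn).inv_right⟩
    · rintro ⟨hx, hbx⟩
      obtain ⟨u, hu, e⟩ := conj_in_cent_five D hb ht hx hbt hbx
      exact ⟨u, mem_cnt1.mpr hu, e⟩
  rw [e3, hC] at hcls
  obtain ⟨S, hS⟩ := Sylow.exists_subgroup_card_pow_prime (G := ↥(cnt1 b ⊓ cnt1 t)) 2 (n := 2)
    (by omega)
  have := Fintype.ofFinite G
  set T : Finset G := Finset.univ.filter fun x => orderOf x = 2 ∧ b * x = x * b with hT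
  have hTc : T.card = 3 := by rw [← k2, commCount, Nat.card_eq_fintype_card, Fintype.card_subtype]
  set SF : Finset G := (Finset.univ.filter fun x : G => ∃ s : ↥(cnt1 b ⊓ cnt1 t), s ∈ S ∧ (s : G) = x).erase 1
  have hSF : SF.card = 3 := by
    rw [Finset.card_erase_of_mem (by simp only [Finset.mem_filter, Finset.mem_univ, true_and]; exact ⟨1, one_mem _, rfl⟩)]
    have : (Finset.univ.filter fun x : G => ∃ s : ↥(cnt1 b ⊓ cnt1 t), s ∈ S ∧ (s : G) = x).card = 4 := by
      rw [← Fintype.card_subtype, ← Nat.card_eq_fintype_card]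
      refine (Nat.card_congr ?_).trans (hS.trans (by norm_num))
      exact
        { toFun := fun x => ⟨⟨x.1, by obtain ⟨s, -, e⟩ := x.2; rw [← e]; exact s.2⟩, by
            obtain ⟨s, hs, e⟩ := x.2
            convert hs using 1
            exact Subtype.ext e.symm⟩
          invFun := fun s => ⟨s.1.1, s.1, s.2, rfl⟩
          left_inv := fun _ => rfl
          right_inv := fun _ => rfl }
    omega
  have hsub : SF ⊆ T := by
    intro x hx
    simp only [SF, Finset.mem_erase, Finset.mem_filter, Finset.mem_univ, true_and] at hx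
    obtain ⟨hx1, s, hs, rfl⟩ := hx
    simp only [hT, Finset.mem_filter, Finset.mem_univ, true_and]
    refine ⟨?_, mem_cnt1.mp s.2.1⟩
    have hd := orderOf_dvd_natCard (⟨s, hs⟩ : S)
    rw [orderOf_mk, hS, ← orderOf_coe] at hd
    have ho := cent_five_orders D hb (mem_cnt1.mp s.2.1)
    simp only [List.mem_cons, List.not_mem_nil, or_false] at ho
    rcases ho with h | h | h | h | h | h
    · exact absurd (orderOf_eq_one_iff.mp h) hx1
    · exact h
    all_goals rw [h] at hd; norm_num at hd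
  have heq := Finset.eq_of_subset_of_card_le hsub (by omega)
  have hyt : y * t * y⁻¹ ∈ SF := heq ▸ by
    simp only [hT, Finset.mem_filter, Finset.mem_univ, true_and]
    exact ⟨(orderOf_conj y t).trans ht,
      ((show Commute b y from hby).mul_right hbt).mul_right (show Commute b y from hby).inv_right⟩
  simp only [SF, Finset.mem_erase, Finset.mem_filter, Finset.mem_univ, true_and] at hyt
  obtain ⟨-, s, -, hs⟩ := hyt
  have hc : t * (y * t * y⁻¹) = y * t * y⁻¹ * t := hs ▸ mem_cnt1.mp s.2.2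
  -- `t` and `y t y⁻¹` commute, so their product has order at most two
  have ht1 : t * t = 1 := mul_self_of_two ht
  have hty : t * y = y⁻¹ * t := mul_inv_eq_iff_eq_mul.mp hti
  have e1 : t * (y * t * y⁻¹) = y := by
    have hyc : y ^ 3 = 1 := hy ▸ pow_orderOf_eq_one y
    calc t * (y * t * y⁻¹) = t * y * t * y⁻¹ := by group
      _ = y⁻¹ * (t * t) * y⁻¹ := by rw [hty]; group
      _ = y⁻¹ * y⁻¹ * y ^ 3 := by rw [ht1, hyc]; group
      _ = y := by group
  have e2 : y * t * y⁻¹ * t = y⁻¹ := by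
    have := congrArg (fun x => x⁻¹) e1
    simpa [mul_assoc, inv_of_two ht] using this
  exact hyy (e1.symm.trans (hc.trans e2))

theorem card_cent_y {a y : G} (ha : orderOf a = 7) (hy : orderOf y = 3) (hay : a * y = y * a) :
    Nat.card (cnt1 y) = 504 := by
  have : Fact (Nat.Prime 7) := ⟨by norm_num⟩
  have : Fact (Nat.Prime 5) := ⟨by norm_num⟩
  have : Fact (Nat.Prime 2) := ⟨Nat.prime_two⟩
  have hodd : ∀ q : ℕ, q.Prime → (∀ b : G, orderOf b = q → ¬ 3 ∣ Nat.card (cnt1 b)) →
      ¬ q ∣ Nat.card (cnt1 y) := fun q hq hb hd => by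
    have := Fact.mk hq
    obtain ⟨b, hb'⟩ := exists_prime_orderOf_dvd_card' (G := ↥(cnt1 y)) q hd
    have h := orderOf_dvd_natCard (⟨y, mem_cnt1.mpr (mem_cnt1.mp b.2).symm⟩ : cnt1 (b : G))
    rw [orderOf_mk, hy] at h
    exact hb b ((orderOf_coe b).trans hb') h
  have h11 := hodd 11 (by norm_num) fun b hb => by rw [D.cent_eleven b hb]; norm_num
  have h23 := hodd 23 (by norm_num) fun b hb => by rw [D.cent_twentythree b hb]; norm_num
  have hdvd : Nat.card (cnt1 y) ∣ 967680 := by
    refine ((Nat.Coprime.mul_right (n := 23) (m := 11)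
      ((Nat.Prime.coprime_iff_not_dvd (by norm_num)).mpr h11).symm
      ((Nat.Prime.coprime_iff_not_dvd (by norm_num)).mpr h23).symm) : _).dvd_of_dvd_mul_left (m := 11 * 23) ?_
    rw [show (11 * 23 * 967680 : ℕ) = Nat.card G by rw [D.card]]
    exact card_subgroup_dvd_card _
  obtain ⟨m, hm, hm7, -⟩ := sub_inf_normalizer_mul ha (cnt1 y)
    (fun hd => absurd (hd.trans hdvd) (by norm_num)) (mem_cnt1.mpr hay.symm)
  rw [card_norm_seven_three D ha hy hay] at hm
  have h32 : ¬ 32 ∣ Nat.card (cnt1 y) := by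
    intro h32
    obtain ⟨S, hS⟩ := Sylow.exists_subgroup_card_pow_prime (G := ↥(cnt1 y)) 2 (n := 5) h32
    have hSp : IsPGroup 2 S := IsPGroup.of_card hS
    have hne : Nontrivial S := Finite.one_lt_card_iff_nontrivial.mp (by rw [hS]; norm_num)
    have := hSp.center_nontrivial
    obtain ⟨w, hw⟩ := exists_prime_orderOf_dvd_card' (G := center S) 2 (by
      obtain ⟨k, hk0, hk⟩ := (hSp.to_subgroup (center S)).nontrivial_iff_card.mp this
      rw [hk]; exact dvd_pow_self 2 hk0.ne')
    set t : G := (((w : S) : cnt1 y) : G)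
    have ht : orderOf t = 2 := by rw [orderOf_coe, orderOf_coe, orderOf_coe, hw]
    have hle : (S.map (cnt1 y).subtype) ≤ cnt1 t ⊓ cnt1 y := by
      rintro _ ⟨s, hs, rfl⟩
      refine ⟨mem_centralizer_singleton_iff.mpr ?_, s.2⟩
      exact congrArg (fun x : S => ((x : cnt1 y) : G)) (mem_center_iff.mp w.2 ⟨s, hs⟩)
    have h := (card_dvd_of_le hle).trans
      (card_pair_dvd D ht hy (mem_cnt1.mp ((w : S) : cnt1 y).2).symm)
    rw [← Nat.card_congr (S.equivMapOfInjective _ (cnt1 y).subtype_injective).toEquiv, hS] at h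
    norm_num at h
  have hlow : 6 ≤ m := by
    have hcl := card_isConj_class y
    have hle : Nat.card {g : G // IsConj y g} ≤ 712448 := by
      rw [← D.num_three]
      refine Nat.card_le_card_of_injective (fun g => ⟨g.1, ?_⟩) fun u v e => Subtype.ext (congrArg Subtype.val e :)
      obtain ⟨w, hw⟩ := isConj_iff.mp g.2
      rw [← hw, orderOf_conj, hy]
    change _ * Nat.card (cnt1 y) = _ at hcl
    rw [← hm, D.card] at hcl
    by_contra hlt
    have := Nat.mul_le_mul hle (show 63 * m ≤ 63 * 5 by omega)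
    omega
  have hmd : m ∣ 2 ^ 10 * 3 ^ 1 * 5 ^ 1 := Nat.dvd_of_mul_dvd_mul_left (show 0 < 63 by norm_num)
    ((hm ▸ hdvd : 63 * m ∣ 967680).trans (by norm_num))
  obtain ⟨i, hi, j, hj, k, hk, rfl⟩ := exists_exponents (n := m) (p := 2) (q := 3) (r := 5)
    Nat.prime_two Nat.prime_three (by norm_num) hmd
  have hi4 : i ≤ 4 := by
    by_contra hlt
    refine h32 (hm ▸ ?_)
    exact (((pow_dvd_pow 2 (show 5 ≤ i by omega)).mul_right _).mul_right _).mul_left 63
  rcases y_check i (List.mem_range.mpr (by omega)) j (List.mem_range.mpr (by omega)) k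
    (List.mem_range.mpr (by omega)) hm7 hlow with h | h | h <;> rw [h] at hm
  · omega
  all_goals exfalso
  all_goals
    obtain ⟨b, hb⟩ := exists_prime_orderOf_dvd_card' (G := ↥(cnt1 y)) 5 (by rw [← hm]; norm_num)
    have hb' : orderOf (b : G) = 5 := (orderOf_coe b).trans hb
    have hby : (b : G) * y = y * b := (mem_cnt1.mp b.2).symm
    have hsq : ¬ 5 ^ 2 ∣ Nat.card (cnt1 y) := fun hd => absurd (hd.trans hdvd) (by norm_num)
    obtain ⟨⟨s, hs, has⟩⟩ := (Nat.card_ne_zero.mp
      (by rw [(D.cent_seven a ha).2.1]; norm_num : commCount a 2 ≠ 0)).1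
    have hsy := conj_inv_seven D ha hs hy has hay
    have hb2 : s * b * s⁻¹ ∈ cnt1 y := by
      refine mem_cnt1.mpr ?_
      have h2 := conj_comm (u := s) hby
      rw [hsy] at h2
      have h3 := (show Commute (s * (b : G) * s⁻¹) y⁻¹ from h2).inv_right
      rw [inv_inv] at h3
      exact h3.symm.eq
    obtain ⟨w, hw, hz⟩ := exists_conj_in hsq ((orderOf_conj s (b : G)).trans hb') hb' hb2 b.2
    have hcl := class_in_subgroup (nrm (b : G)) (cnt1_le_nrm _ (mem_cnt1.mpr hby))
    have h8 : 8 ≤ Nat.card {g : G // ∃ n ∈ nrm (b : G), n * y * n⁻¹ = g} := by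
      have hcb := class_in_subgroup (cnt1 (b : G)) (mem_cnt1.mpr hby)
      have h15 : Nat.card ↥(cnt1 (b : G) ⊓ cnt1 y) ∣ 15 := by
        have hd : Nat.card ↥(cnt1 (b : G) ⊓ cnt1 y) ∣ 5 * 12 := (D.cent_five _ hb').1 ▸ card_dvd_of_le inf_le_left
        have h2 : ¬ 2 ∣ Nat.card ↥(cnt1 (b : G) ⊓ cnt1 y) := fun h => by
          obtain ⟨q, hq⟩ := exists_prime_orderOf_dvd_card' (G := ↥(cnt1 (b : G) ⊓ cnt1 y)) 2 h
          have hq' : orderOf (q : G) = 2 := (orderOf_coe q).trans hq
          have hqy : Commute (q : G) y := (mem_cnt1.mp q.2.2).symm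
          have h6 : orderOf ((q : G) * y) = 6 := by
            rw [hqy.orderOf_mul_eq_mul_orderOf_of_coprime (by rw [hq', hy]; norm_num), hq', hy]
          have := cent_five_orders D hb' (g := (q : G) * y)
            ((show Commute (b : G) q from mem_cnt1.mp q.2.1).mul_right hby)
          rw [h6] at this
          simp at this
        exact (((Nat.Prime.coprime_iff_not_dvd Nat.prime_two).mpr h2).symm.pow_right 2).dvd_of_dvd_mul_right
          (n := 2 ^ 2) (hd.trans (by norm_num))
      rw [(D.cent_five _ hb').1] at hcb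
      have h4 : 4 ≤ Nat.card {g : G // ∃ n ∈ cnt1 (b : G), n * y * n⁻¹ = g} := by
        have := Nat.le_of_dvd (by norm_num) h15
        by_contra hlt
        have := Nat.mul_le_mul (show Nat.card {g : G // ∃ n ∈ cnt1 (b : G), n * y * n⁻¹ = g} ≤ 3 by omega) this
        omega
      have hwN : w * s ∈ nrm (b : G) := by
        refine mem_normalizer_fintype fun x hx => ?_
        obtain ⟨i, rfl⟩ := mem_zpowers_iff.mp hx
        rw [← conj_zpow]
        refine zpow_mem ?_ i
        rw [← hz, show w * s * b * (w * s)⁻¹ = w * (s * b * s⁻¹) * w⁻¹ by group]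
        exact mem_zpowers _
      have hwy : (w * s) * y * (w * s)⁻¹ = y⁻¹ := by
        rw [show w * s * y * (w * s)⁻¹ = w * (s * y * s⁻¹) * w⁻¹ by group, hsy]
        exact mul_inv_eq_iff_eq_mul.mpr ((show Commute w y from (mem_cnt1.mp hw).symm).inv_right).eq
      let f : {g : G // ∃ n ∈ cnt1 (b : G), n * y * n⁻¹ = g} ⊕ {g : G // ∃ n ∈ cnt1 (b : G), n * y * n⁻¹ = g} →
          {g : G // ∃ n ∈ nrm (b : G), n * y * n⁻¹ = g} := Sum.elim
        (fun g => ⟨g.1, by obtain ⟨n, hn, e⟩ := g.2; exact ⟨n, cnt1_le_nrm _ hn, e⟩⟩)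
        (fun g => ⟨g.1⁻¹, by
          obtain ⟨n, hn, e⟩ := g.2
          refine ⟨n * (w * s), mul_mem (cnt1_le_nrm _ hn) hwN, ?_⟩
          rw [show n * (w * s) * y * (n * (w * s))⁻¹ = n * (w * s * y * (w * s)⁻¹) * n⁻¹ by group, hwy, ← e]
          group⟩)
      have hf : Function.Injective f := by
        refine Function.Injective.sumElim (fun u v e => Subtype.ext (congrArg Subtype.val e :))
          (fun u v e => Subtype.ext (inv_injective (congrArg Subtype.val e :))) fun u v e => ?_
        have e' : (u : G) = (v : G)⁻¹ := congrArg Subtype.val e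
        obtain ⟨n, hn, e1⟩ := u.2
        obtain ⟨n', hn', e2⟩ := v.2
        refine five_not_inverted D hb' hy hby (g := n⁻¹ * n')
          ((show Commute (b : G) n from mem_cnt1.mp hn).inv_right.mul_right (mem_cnt1.mp hn')) ?_
        rw [show n⁻¹ * n' * y * (n⁻¹ * n')⁻¹ = n⁻¹ * (n' * y * n'⁻¹) * n by group, e2,
          show (v : G) = (u : G)⁻¹ by rw [e', inv_inv], ← e1]
        group
      have := Nat.card_le_card_of_injective f hf
      rw [Nat.card_sum] at this
      omega
    have hle8 : Nat.card {g : G // ∃ n ∈ nrm (b : G), n * y * n⁻¹ = g} ≤ 8 := by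
      rw [← (D.cent_five _ hb').2.2]
      refine Nat.card_le_card_of_injective (fun g => ⟨g.1, ?_⟩) fun u v e => Subtype.ext (congrArg Subtype.val e :)
      obtain ⟨n, hn, e⟩ := g.2
      rw [← e]
      refine ⟨(orderOf_conj n y).trans hy, ?_⟩
      obtain ⟨k, hk⟩ := mem_zpowers_iff.mp ((mem_normalizer_iff.mp (inv_mem hn) (b : G)).mp (mem_zpowers _))
      rw [inv_inv] at hk
      have h2 := conj_comm (u := n) ((show Commute (b : G) y from hby).zpow_left k).eq
      rw [hk] at h2
      simpa [mul_assoc] using h2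
    rw [show Nat.card {g : G // ∃ n ∈ nrm (b : G), n * y * n⁻¹ = g} = 8 by omega, D.norm_five _ hb'] at hcl
    obtain ⟨k, hk, hk5, -⟩ := sub_inf_normalizer_mul hb' (cnt1 y) hsq b.2
    rw [inf_comm, show Nat.card ↥(nrm (b : G) ⊓ cnt1 y) = 30 by omega, ← hm] at hk
    omega

end Cfsg.Agent.Order244823040
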