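/-
The centraliser of an element of order three commuting with one of order seven.

Main results (namespace `Cfsg.Agent.Order244823040`): `exists_complement`, `invol_mem_complement`,
`invol_conj_cent_y`, `separated`.
-/
import Cfsg.Agent.Lib.Order244823040.Three
import Cfsg.Agent.Lib.SmallOrders.Order168

set_option autoImplicit false

open Subgroup Cfsg.Agent.SameOrder Cfsg.Agent.SmallOrders Cfsg.Agent.Order10200960

namespace Cfsg.Agent.Order244823040

theorem isConj_invol_168 {S : Type*} [Group S] [Finite S] [IsSimpleGroup S] (h : Nat.card S = 168) {g k : S}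
    (hg : orderOf g = 2) (hk : orderOf k = 2) : IsConj g k := by
  have : Fact (Nat.Prime 7) := ⟨by norm_num⟩
  have : Fact (Nat.Prime 3) := ⟨Nat.prime_three⟩
  have : Fact (Nat.Prime 2) := ⟨Nat.prime_two⟩
  obtain ⟨h21, -, -, hT⟩ := S168.counting h
  obtain ⟨T, hgT, hgc⟩ := hT g hg
  have hg1 : g ≠ 1 := fun e => by rw [e, orderOf_one] at hg; omega
  have hc := card_isConj_class g
  rw [S168.centralizer_center_two h T hgT hg1 hgc, S168.card_T h T, h] at hc
  let f : {x : S // IsConj g x} → {x : S // orderOf x = 2} := fun x => ⟨x.1, by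
    obtain ⟨w, hw⟩ := isConj_iff.mp x.2
    rw [← hw, orderOf_conj, hg]⟩
  obtain ⟨x, hx⟩ := (Function.Injective.bijective_of_nat_card_le (f := f)
    (fun u v e => Subtype.ext (congrArg Subtype.val e :)) (by rw [h21]; omega)).2 ⟨k, hk⟩
  have e : x.1 = k := congrArg Subtype.val hx
  exact e ▸ x.2

theorem core_check_168 : ∀ i ∈ List.range 4, ∀ j ∈ List.range 2, 2 ^ i % 7 = 1 → 3 ^ j % 7 = 1 →
    2 ^ i * 3 ^ j = 1 ∨ 2 ^ i * 3 ^ j = 8 := by decide +kernel

variable {G : Type*} [Group G] [Finite G] (D : OrderData G)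
include D

/-- `C(y)` is the direct product of `⟨y⟩` and the centraliser of an inverting involution in it. -/
theorem exists_complement {a y z : G} (ha : orderOf a = 7) (hy : orderOf y = 3) (hz : orderOf z = 2)
    (hay : a * y = y * a) (haz : a * z = z * a) :
    Nat.card ↥(cnt1 y ⊓ cnt1 z) = 168 ∧ IsSimpleGroup ↥(cnt1 y ⊓ cnt1 z) ∧
      ∀ g : G, y * g = g * y → ∃ l ∈ cnt1 y ⊓ cnt1 z, ∃ i : ℕ, g = l * y ^ i := by
  classical
  have : Fact (Nat.Prime 7) := ⟨by norm_num⟩
  have : Fact (Nat.Prime 3) := ⟨Nat.prime_three⟩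
  have hzy := conj_inv_seven D ha hz hy haz hay
  have hH := card_cent_y D ha hy hay
  set H := cnt1 y with hHdef
  set yH : H := ⟨y, mem_cnt1.mpr rfl⟩ with hyH
  set aH : H := ⟨a, mem_cnt1.mpr hay.symm⟩ with haH
  have hyo : orderOf yH = 3 := (orderOf_mk _ _).trans hy
  have hao : orderOf aH = 7 := (orderOf_mk _ _).trans ha
  have hcent : ∀ x : H, Commute yH x := fun x => Subtype.ext (mem_cnt1.mp x.2)
  have : (zpowers yH).Normal := ⟨fun n hn g => by
    obtain ⟨i, rfl⟩ := mem_zpowers_iff.mp hn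
    rw [← ((hcent g).zpow_left i).eq, mul_inv_cancel_right]
    exact zpow_mem (mem_zpowers _) i⟩
  have haC : Nat.card (cnt1 aH) = 7 * 3 := by
    refine Eq.trans ?_ (card_cent_seven_three D ha hy hay)
    exact Nat.card_congr
      { toFun := fun g => ⟨g.1.1, Subgroup.mem_inf.mpr
          ⟨mem_cnt1.mpr (congrArg Subtype.val (mem_cnt1.mp g.2) :), g.1.2⟩⟩
        invFun := fun g => ⟨⟨g.1, g.2.2⟩, mem_cnt1.mpr (Subtype.ext (mem_cnt1.mp g.2.1))⟩
        left_inv := fun _ => rfl
        right_inv := fun _ => rfl }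
  have haN : Nat.card (nrm aH) = 7 * 3 * 3 := by
    refine Eq.trans ?_ (card_norm_seven_three D ha hy hay)
    refine Nat.card_congr
      { toFun := fun g => ⟨g.1.1, g.1.2, ?_⟩
        invFun := fun g => ⟨⟨g.1, g.2.1⟩, ?_⟩
        left_inv := fun _ => rfl
        right_inv := fun _ => rfl }
    · refine mem_normalizer_fintype fun x hx => ?_
      obtain ⟨i, rfl⟩ := mem_zpowers_iff.mp hx
      obtain ⟨j, hj⟩ := mem_zpowers_iff.mp
        ((mem_normalizer_iff.mp g.2 (aH ^ i)).mp (zpow_mem (mem_zpowers aH) i))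
      exact mem_zpowers_iff.mpr ⟨j, by simpa [haH] using congrArg Subtype.val hj⟩
    · refine mem_normalizer_fintype fun x hx => ?_
      obtain ⟨i, rfl⟩ := mem_zpowers_iff.mp hx
      obtain ⟨j, hj⟩ := mem_zpowers_iff.mp
        ((mem_normalizer_iff.mp g.2.2 (a ^ i)).mp (zpow_mem (mem_zpowers a) i))
      exact mem_zpowers_iff.mpr ⟨j, Subtype.ext (by simpa [haH] using hj)⟩
  obtain ⟨hX, hXN⟩ := central_quotient (X := H) (p := 7) (q := 3) (e := 3) (by norm_num)
    (by rw [hH]; norm_num) hao hyo (by norm_num) hcent haC haN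
  set π := QuotientGroup.mk' (zpowers yH) with hπ
  have hK3 : Nat.card (zpowers yH) = 3 := by rw [Nat.card_zpowers, hyo]
  have hXcard : Nat.card (H ⧸ zpowers yH) = 168 := by
    have := (zpowers yH).card_eq_card_quotient_mul_card_subgroup
    rw [hH, hK3] at this
    omega
  have hker : ∀ x : H, π x = 1 → ∃ i : ℕ, i < 3 ∧ x = yH ^ i := fun x hx => by
    obtain ⟨k, hk⟩ := mem_powers_iff_mem_zpowers.mpr ((QuotientGroup.eq_one_iff x).mp hx)
    exact ⟨k % 3, Nat.mod_lt _ (by norm_num), by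
      have e := pow_mod_orderOf yH k
      rw [hyo] at e
      exact hk.symm.trans e.symm⟩
  obtain ⟨K, hKn, hKp, hmax⟩ := exists_max_normal (H ⧸ zpowers yH) 7
  have hKdvd : Nat.card K ∣ 2 ^ 3 * 3 ^ 1 := by
    have hd := card_subgroup_dvd_card K
    rw [hXcard, show (168 : ℕ) = 2 ^ 3 * 3 ^ 1 * 7 by norm_num] at hd
    exact ((Nat.Prime.coprime_iff_not_dvd (by norm_num)).mpr hKp).symm.dvd_of_dvd_mul_right hd
  obtain ⟨u, v, hu, hv, huv⟩ := Nat.dvd_mul.mp hKdvd
  obtain ⟨i, hi, rfl⟩ := (Nat.dvd_prime_pow Nat.prime_two).mp hu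
  obtain ⟨j, hj, rfl⟩ := (Nat.dvd_prime_pow Nat.prime_three).mp hv
  have hK18 : Nat.card K = 1 ∨ Nat.card K = 8 := by
    have h2 := core_part hX K hKp Nat.prime_two
    have h3 := core_part hX K hKp Nat.prime_three
    rw [← huv, Nat.factorization_mul (by simp) (by simp), Finsupp.add_apply,
      Nat.Prime.factorization_pow Nat.prime_two, Nat.Prime.factorization_pow Nat.prime_three] at h2 h3
    simp only [Finsupp.single_eq_same, Finsupp.single_apply] at h2 h3
    rw [← huv]
    exact core_check_168 i (List.mem_range.mpr (by omega)) j (List.mem_range.mpr (by omega))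
      (by simpa using h2) (by simpa using h3)
  have hK : K = ⊥ := by
    refine card_eq_one.mp (hK18.resolve_right fun h8 => ?_)
    -- an element of order three fixes one of the seven involutions of `K`
    set S : Set (H ⧸ zpowers yH) := {k | k ∈ K ∧ orderOf k = 2} with hS
    have hSinv : ∀ w : H ⧸ zpowers yH, ∀ k ∈ S, w * k * w⁻¹ ∈ S := fun w k hk =>
      ⟨hKn.conj_mem _ hk.1 w, (orderOf_conj w k).trans hk.2⟩
    have hS7 : Nat.card S % 7 = 0 := by
      have hmod := Order95040.card_modEq_commute hX.ord S fun k hk => hSinv _ k hk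
      rw [show Nat.card {k : H ⧸ zpowers yH // k ∈ S ∧ π aH * k = k * π aH} = 0 from
        Nat.card_eq_zero.mpr (Or.inl ⟨fun k => by
          have hmem : (k.1 : H ⧸ zpowers yH) ∈ cnt1 (π aH) := mem_cnt1.mpr k.2.2
          have h7 := orderOf_dvd_natCard (⟨k.1, hmem⟩ : cnt1 (π aH))
          rw [orderOf_mk, k.2.1.2, hX.cent] at h7
          norm_num at h7⟩)] at hmod
      exact hmod
    have hSle : Nat.card S ≤ 7 := by
      have hle : Nat.card (Option S) ≤ Nat.card K := Nat.card_le_card_of_injective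
        (fun o => o.elim (1 : K) fun k => ⟨k.1, k.2.1⟩) (fun o o' e => by
          cases o with
          | none => cases o' with
            | none => rfl
            | some k' =>
              have h2 := k'.2.2
              have e' : (1 : H ⧸ zpowers yH) = k'.1 := congrArg Subtype.val e
              rw [← e', orderOf_one] at h2
              omega
          | some k => cases o' with
            | none =>
              have h2 := k.2.2
              have e' : k.1 = (1 : H ⧸ zpowers yH) := congrArg Subtype.val e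
              rw [e', orderOf_one] at h2
              omega
            | some k' =>
              have e' : k.1 = k'.1 := congrArg (fun w : K => (w : H ⧸ zpowers yH)) e
              exact congrArg some (Subtype.ext e'))
      rw [Finite.card_option, h8] at hle
      omega
    have hS1 : Nat.card S ≠ 0 := by
      have : Fact (Nat.Prime 2) := ⟨Nat.prime_two⟩
      obtain ⟨k, hk⟩ := exists_prime_orderOf_dvd_card' (G := K) 2 (by rw [h8]; norm_num)
      exact Nat.card_ne_zero.mpr ⟨⟨⟨k.1, k.2, (orderOf_coe k).trans hk⟩⟩, inferInstance⟩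
    obtain ⟨x, hx⟩ := exists_prime_orderOf_dvd_card' (G := H ⧸ zpowers yH) 3 (by rw [hXcard]; norm_num)
    have hfix : Nat.card {k : H ⧸ zpowers yH // k ∈ S ∧ x * k = k * x} ≠ 0 := by
      have hmod := Order95040.card_modEq_commute hx S fun k hk => hSinv _ k hk
      unfold Nat.ModEq at hmod
      omega
    obtain ⟨⟨k, ⟨-, hk2⟩, hkx⟩⟩ := (Nat.card_ne_zero.mp hfix).1
    obtain ⟨h0, rfl⟩ := QuotientGroup.mk'_surjective _ k
    obtain ⟨i, hi3, hi⟩ := hker (h0 ^ 2) (by rw [map_pow, ← hk2, pow_orderOf_eq_one])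
    set t : H := h0 * yH ^ i with ht
    have hπy : π yH = 1 := (QuotientGroup.eq_one_iff _).mpr (mem_zpowers _)
    have hπt : π t = π h0 := by rw [ht, _root_.map_mul, map_pow, hπy, one_pow, mul_one]
    have ht2 : orderOf t = 2 := by
      refine orderOf_eq_prime ?_ fun e => ?_
      · rw [ht, ((hcent h0).pow_left i).symm.mul_pow, hi, ← pow_mul, ← pow_add,
          show i + i * 2 = 3 * i by ring, pow_mul, ← hyo, pow_orderOf_eq_one, one_pow]
      · rw [e, map_one] at hπt
        rw [← hπt, orderOf_one] at hk2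
        omega
    have htG : orderOf (t : G) = 2 := (orderOf_coe t).trans ht2
    have hPle : ((zpowers x).comap π).map H.subtype ≤ cnt1 (t : G) ⊓ cnt1 y := by
      rintro _ ⟨g, hg, rfl⟩
      refine Subgroup.mem_inf.mpr ⟨mem_cnt1.mpr ?_, g.2⟩
      have hgk : π g * π t = π t * π g := by
        obtain ⟨n, hn⟩ := mem_zpowers_iff.mp hg
        rw [hπt, ← hn]
        exact ((show Commute x (π h0) from hkx).zpow_left n).eq
      obtain ⟨m, hm3, hm⟩ := hker (g * t * g⁻¹ * t⁻¹) (by
        rw [_root_.map_mul, _root_.map_mul, _root_.map_mul, map_inv, map_inv, hgk, mul_inv_cancel_right,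
          mul_inv_cancel])
      have e : g * t * g⁻¹ = yH ^ m * t := by rw [← hm]; group
      have h1 : (yH ^ m * t) ^ 2 = 1 := by
        rw [← e, conj_pow, ← ht2, pow_orderOf_eq_one, mul_one, mul_inv_cancel]
      rw [((hcent t).pow_left m).mul_pow, ← ht2, pow_orderOf_eq_one, mul_one, ht2, ← pow_mul] at h1
      have h3 := orderOf_dvd_of_pow_eq_one h1
      rw [hyo] at h3
      obtain rfl : m = 0 := by omega
      rw [pow_zero, one_mul] at e
      have e' : g * t = t * g := mul_inv_eq_iff_eq_mul.mp e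
      exact (congrArg Subtype.val e' :).symm
    have hdvd := (card_dvd_of_le hPle).trans (card_pair_dvd D htG hy (mem_cnt1.mp t.2).symm)
    rw [← Nat.card_congr (((zpowers x).comap π).equivMapOfInjective _ H.subtype_injective).toEquiv,
      card_comap_mk, Nat.card_zpowers, hx, hK3] at hdvd
    norm_num at hdvd
  obtain ⟨hsimp, -⟩ := hX.isSimple (e := 3) (by norm_num) hXN (by rw [hXcard]; norm_num)
    fun L hL hp => (hmax L hL (hK ▸ bot_le) hp).trans hK
  -- conjugation by `z`
  have hψmem : ∀ h : H, z * (h : G) * z⁻¹ ∈ H := fun h => by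
    refine mem_cnt1.mpr ?_
    have h2 := conj_comm (u := z) (mem_cnt1.mp h.2)
    rw [hzy] at h2
    have h3 := (show Commute y⁻¹ (z * (h : G) * z⁻¹) from h2).inv_left
    rw [inv_inv] at h3
    exact h3.eq
  let ψ : H →* H := MonoidHom.mk' (fun h => ⟨z * (h : G) * z⁻¹, hψmem h⟩) fun g k => Subtype.ext (by
    show z * ((g : G) * k) * z⁻¹ = z * g * z⁻¹ * (z * k * z⁻¹)
    group)
  have hψy : zpowers yH ≤ (zpowers yH).comap ψ := zpowers_le.mpr (mem_zpowers_iff.mpr ⟨-1, Subtype.ext (by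
    show ((yH ^ (-1 : ℤ) : H) : G) = z * y * z⁻¹
    rw [hzy, zpow_neg_one]
    rfl)⟩)
  let θ := QuotientGroup.map (zpowers yH) (zpowers yH) ψ hψy
  have hθinv : ∀ s, θ (θ s) = s := fun s => by
    obtain ⟨h, rfl⟩ := QuotientGroup.mk'_surjective _ s
    refine congrArg π (Subtype.ext (?_ : z * (z * (h : G) * z⁻¹) * z⁻¹ = (h : G)))
    rw [inv_of_two hz, show z * (z * (h : G) * z) * z = (z * z) * h * (z * z) by group, mul_self_of_two hz,
      one_mul, mul_one]
  have hθa : θ (π aH) = π aH := by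
    refine congrArg π (Subtype.ext (?_ : z * a * z⁻¹ = a))
    exact mul_inv_eq_iff_eq_mul.mpr haz.symm
  have hlift : ∀ h : H, ∃ i : ℕ, z * ((h : G) * y ^ i) * z⁻¹ = (h : G) * y ^ i := fun h => by
    have h1 : π (ψ h) = π h := aut_trivial hX hXcard hXN θ hθinv hθa (π h)
    obtain ⟨m, hm3, hm⟩ := hker (h⁻¹ * ψ h) (by rw [_root_.map_mul, map_inv, h1, inv_mul_cancel])
    have hm' : z * (h : G) * z⁻¹ = (h : G) * y ^ m := by
      have := congrArg Subtype.val ((mul_inv_cancel_left h (ψ h)).symm.trans (congrArg (h * ·) hm))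
      simpa [hyH, ψ] using this
    refine ⟨2 * m, ?_⟩
    calc z * ((h : G) * y ^ (2 * m)) * z⁻¹ = (z * h * z⁻¹) * (z * y * z⁻¹) ^ (2 * m) := by
          rw [conj_pow]; group
      _ = (h : G) * (y ^ m * (y⁻¹) ^ (2 * m)) := by rw [hzy, hm', mul_assoc]
      _ = (h : G) * y ^ (2 * m) := by
          congr 1
          have h3 : y ^ (3 * m) = 1 := by rw [pow_mul, ← hy, pow_orderOf_eq_one, one_pow]
          rw [inv_pow, mul_inv_eq_iff_eq_mul, ← pow_add, show 2 * m + 2 * m = m + 3 * m by ring, pow_add, h3,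
            mul_one]
  let f : ↥(H ⊓ cnt1 z) →* H ⧸ zpowers yH := π.comp (Subgroup.inclusion inf_le_left)
  have hf : Function.Bijective f := by
    refine ⟨(injective_iff_map_eq_one f).mpr fun l hl => ?_, fun s => ?_⟩
    · obtain ⟨i, hi3, hi⟩ := hker (Subgroup.inclusion inf_le_left l) hl
      have hi' : (l : G) = y ^ i := by simpa [hyH] using congrArg Subtype.val hi
      have h1 := mem_cnt1.mp l.2.2
      rw [hi'] at h1
      have h2 : z * y ^ i * z⁻¹ = y ^ i := mul_inv_eq_iff_eq_mul.mpr h1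
      rw [← conj_pow, hzy, inv_pow, inv_eq_iff_mul_eq_one, ← pow_add] at h2
      have h3 := orderOf_dvd_of_pow_eq_one h2
      rw [hy] at h3
      obtain rfl : i = 0 := by omega
      exact Subtype.ext (by rw [hi', pow_zero]; rfl)
    · obtain ⟨h, rfl⟩ := QuotientGroup.mk'_surjective _ s
      obtain ⟨i, hi⟩ := hlift h
      refine ⟨⟨(h : G) * y ^ i, mul_mem h.2 (pow_mem (mem_cnt1.mpr rfl) i),
        mem_cnt1.mpr (mul_inv_eq_iff_eq_mul.mp hi)⟩, ?_⟩
      show π (h * yH ^ i) = π h
      rw [_root_.map_mul, map_pow, show π yH = 1 from (QuotientGroup.eq_one_iff _).mpr (mem_zpowers _), one_pow,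
        mul_one]
  refine ⟨(Nat.card_congr (Equiv.ofBijective f hf)).trans hXcard,
    (MulEquiv.ofBijective f hf).isSimpleGroup, fun g hg => ?_⟩
  obtain ⟨i, hi⟩ := hlift ⟨g, mem_cnt1.mpr hg⟩
  refine ⟨g * y ^ i, Subgroup.mem_inf.mpr ⟨mul_mem (mem_cnt1.mpr hg) (pow_mem (mem_cnt1.mpr rfl) i),
    mem_cnt1.mpr (mul_inv_eq_iff_eq_mul.mp hi)⟩, 2 * i, ?_⟩
  rw [mul_assoc, ← pow_add, show i + 2 * i = 3 * i by ring, pow_mul, ← hy, pow_orderOf_eq_one, one_pow, mul_one]

/-- The involutions of `C(y)` lie in the complement. -/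
theorem invol_mem_complement {a y z : G} (ha : orderOf a = 7) (hy : orderOf y = 3) (hz : orderOf z = 2)
    (hay : a * y = y * a) (haz : a * z = z * a) {g : G} (hg : orderOf g = 2) (hgy : y * g = g * y) :
    g ∈ cnt1 y ⊓ cnt1 z := by
  obtain ⟨-, -, hdec⟩ := exists_complement D ha hy hz hay haz
  obtain ⟨l, hl, i, rfl⟩ := hdec g hgy
  have hc : Commute l (y ^ i) := ((show Commute y l from mem_cnt1.mp hl.1).symm).pow_right i
  have h1 : (l * y ^ i) ^ 2 = 1 := hg ▸ pow_orderOf_eq_one _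
  rw [hc.mul_pow, ← pow_mul, mul_eq_one_iff_eq_inv] at h1
  have hyz : y ^ (i * 2) ∈ cnt1 z := by
    rw [← inv_mem_iff, ← h1]
    exact pow_mem hl.2 2
  have h2 : z * y ^ (i * 2) * z⁻¹ = y ^ (i * 2) := mul_inv_eq_iff_eq_mul.mpr (mem_cnt1.mp hyz)
  rw [← conj_pow, conj_inv_seven D ha hz hy haz hay, inv_pow, inv_eq_iff_mul_eq_one, ← pow_add] at h2
  have h3 := orderOf_dvd_of_pow_eq_one h2
  rw [hy] at h3
  rwa [← pow_mod_orderOf, hy, show i % 3 = 0 by omega, pow_zero, mul_one]

/-- The involutions of `C(y)` are conjugate. -/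
theorem invol_conj_cent_y {a y : G} (ha : orderOf a = 7) (hy : orderOf y = 3) (hay : a * y = y * a) {s t : G}
    (hs : orderOf s = 2) (ht : orderOf t = 2) (hsy : y * s = s * y) (hty : y * t = t * y) : IsConj s t := by
  obtain ⟨⟨z, hz, haz⟩⟩ := (Nat.card_ne_zero.mp
    (by rw [(D.cent_seven a ha).2.1]; norm_num : commCount a 2 ≠ 0)).1
  obtain ⟨hcard, hsimp, -⟩ := exists_complement D ha hy hz hay haz
  have hmem := fun g hg hgy => invol_mem_complement D ha hy hz hay haz (g := g) hg hgy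
  exact (Subgroup.subtype _).map_isConj (isConj_invol_168 hcard (g := ⟨s, hmem s hs hsy⟩)
    (k := ⟨t, hmem t ht hty⟩) ((orderOf_mk _ _).trans hs) ((orderOf_mk _ _).trans ht))

/-- No element of order three commutes with involutions of both classes. -/
theorem separated {v s t : G} (hv : orderOf v = 3) (hs : IsZ s) (ht : IsU t) (hvs : v * s = s * v)
    (hvt : v * t = t * v) : False := by
  have : Fact (Nat.Prime 3) := ⟨Nat.prime_three⟩
  have : Fact (Nat.Prime 7) := ⟨by norm_num⟩
  obtain ⟨z, hz⟩ := exists_z D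
  obtain ⟨a, ha, haz⟩ := hz.2
  obtain ⟨⟨y, hy, hay⟩⟩ := (Nat.card_ne_zero.mp
    (by rw [(D.cent_seven a ha).2.2]; norm_num : commCount a 3 ≠ 0)).1
  obtain ⟨hcard, -, -⟩ := exists_complement D ha hy hz.1 hay haz
  have : Fact (Nat.Prime 2) := ⟨Nat.prime_two⟩
  obtain ⟨⟨s0, hs0m⟩, hs0'⟩ := exists_prime_orderOf_dvd_card' (G := ↥(cnt1 y ⊓ cnt1 z)) 2 (by rw [hcard]; norm_num)
  have hs0 : orderOf s0 = 2 := by rwa [orderOf_mk] at hs0'
  have hys0 := mem_cnt1.mp hs0m.1
  -- any such pair can be moved onto `(y, s0)`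
  have key : ∀ p q : G, orderOf p = 2 → orderOf q = 2 → v * p = p * v → v * q = q * v → IsConj p s0 →
      ¬ 3 ^ 2 ∣ Nat.card (cnt1 s0) → IsConj q s0 := by
    intro p q hp hq hvp hvq hps h9
    obtain ⟨w, hw⟩ := isConj_iff.mp hps
    have h1 := conj_comm (u := w) hvp
    rw [hw] at h1
    obtain ⟨u, hu, hzp⟩ := exists_conj_in h9 ((orderOf_conj w v).trans hv) hy
      (mem_cnt1.mpr h1.symm) (mem_cnt1.mpr hys0.symm)
    refine IsConj.trans (isConj_iff.mpr ⟨u * w, rfl⟩) (invol_conj_cent_y D ha hy hay ?_ hs0 ?_ hys0)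
    · exact (orderOf_conj _ q).trans hq
    · obtain ⟨i, hi⟩ := mem_zpowers_iff.mp (hzp.symm ▸ mem_zpowers y : y ∈ zpowers (u * (w * v * w⁻¹) * u⁻¹))
      have h2 := conj_comm (u := u * w) hvq
      rw [show u * w * v * (u * w)⁻¹ = u * (w * v * w⁻¹) * u⁻¹ by group] at h2
      rw [← hi]
      exact ((show Commute _ _ from h2).zpow_left i).eq
  rcases invol_cases D hs0 with h | h
  · have hc := key s t hs.1 ht.1 hvs hvt (isConj_z D hs h) (by rw [card_cent_z D h]; norm_num)
    obtain ⟨w, hw⟩ := isConj_iff.mp hc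
    exact not_z_of_u D (hw ▸ ht.conj w : IsU s0) h
  · have hc := key t s ht.1 hs.1 hvt hvs (isConj_u D ht h) (by rw [card_cent_u D h]; norm_num)
    obtain ⟨w, hw⟩ := isConj_iff.mp hc
    exact not_z_of_u D h (hw ▸ hs.conj w : IsZ s0)

end Cfsg.Agent.Order244823040
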