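/-
The centraliser of a `Z`-involution as an extension of a group of order 128 by one of order 168.

Main results (namespace `Cfsg.Agent.Order244823040`): `ZData`, `exists_zdata`, `ZData.self_cent`,
`ZData.card_fix_three`, `ZData.card_cent_pair`, `ZData.not_commute_fix_three`.
-/
import Cfsg.Agent.Lib.Order244823040.Complement
import Cfsg.Agent.Lib.SmallOrders.ThreePrime.Cofactor
import Cfsg.Agent.Lib.GLOrder.Basic

set_option autoImplicit false
set_option linter.unusedSectionVars false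

open Subgroup Cfsg.Agent.SameOrder Cfsg.Agent.SmallOrders Cfsg.Agent.Order10200960

namespace Cfsg.Agent.Order244823040

theorem core_check_z : ∀ i ∈ List.range 10, ∀ j ∈ List.range 2, 2 ^ i % 7 = 1 → 3 ^ j % 7 = 1 →
    2 ^ i * 3 ^ j = 1 ∨ 2 ^ i * 3 ^ j = 8 ∨ 2 ^ i * 3 ^ j = 64 ∨ 2 ^ i * 3 ^ j = 512 := by decide +kernel

/-- The involution as an element of its centraliser. -/
def zH {G : Type*} [Group G] (z : G) : cnt1 z := ⟨z, mem_centralizer_singleton_iff.mpr rfl⟩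

theorem zH_comm {G : Type*} [Group G] (z : G) (x : cnt1 z) : Commute (zH z) x :=
  Subtype.ext (mem_centralizer_singleton_iff.mp x.2).symm

instance normal_zpowers_zH {G : Type*} [Group G] (z : G) : (zpowers (zH z)).Normal :=
  ⟨fun n hn g => by
    obtain ⟨i, rfl⟩ := mem_zpowers_iff.mp hn
    rw [← ((zH_comm z g).zpow_left i).eq, mul_inv_cancel_right]
    exact zpow_mem (mem_zpowers _) i⟩

/-- The projection of the centraliser of `z` modulo `z`. -/
abbrev zmk {G : Type*} [Group G] (z : G) : cnt1 z →* cnt1 z ⧸ zpowers (zH z) :=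
  QuotientGroup.mk' (zpowers (zH z))

/-- An element of odd order shifting `q` by `z` fixes it. -/
theorem comm_of_odd {G : Type*} [Group G] {b q z : G} (hb : Odd (orderOf b)) (hbz : b * z = z * b)
    (hzz : z * z = 1) (h : b * q * b⁻¹ = q ∨ b * q * b⁻¹ = q * z) : b * q = q * b := by
  rcases h with h | h
  · exact mul_inv_eq_iff_eq_mul.mp h
  have key : ∀ n : ℕ, b ^ n * q * (b ^ n)⁻¹ = q * z ^ n := by
    intro n
    induction n with
    | zero => simp
    | succ n ih =>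
      rw [pow_succ', show b * b ^ n * q * (b * b ^ n)⁻¹ = b * (b ^ n * q * (b ^ n)⁻¹) * b⁻¹ by group, ih,
        show b * (q * z ^ n) * b⁻¹ = b * q * b⁻¹ * (b * z ^ n * b⁻¹) by group,
        mul_inv_eq_iff_eq_mul.mpr ((show Commute b z from hbz).pow_right n).eq, h, pow_succ', mul_assoc]
  obtain ⟨k, hk⟩ := hb
  have h1 := key (orderOf b)
  rw [pow_orderOf_eq_one, one_mul, inv_one, mul_one, hk, pow_succ, pow_mul, pow_two, hzz, one_pow, one_mul,
    left_eq_mul] at h1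
  rw [h1, mul_one] at h
  exact mul_inv_eq_iff_eq_mul.mp h

/-- Two distinct involutions generate four distinct products. -/
theorem four_injective {G : Type*} [Group G] {z e : G} (hzz : z * z = 1) (hz1 : z ≠ 1) (he1 : e ≠ 1) (hez : e ≠ z) :
    Function.Injective fun p : Fin 2 × Fin 2 => z ^ p.1.val * e ^ p.2.val := by
  have hze : z * e ≠ 1 := fun h => hez ((eq_inv_of_mul_eq_one_right h).trans (inv_eq_of_mul_eq_one_right hzz))
  rintro ⟨i, j⟩ ⟨i', j'⟩ h
  fin_cases i <;> fin_cases j <;> fin_cases i' <;> fin_cases j' <;>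
    simp [hz1, hz1.symm, he1, he1.symm, hez, hez.symm, hze, hze.symm] at h ⊢

/-- The structure of the centraliser of a `Z`-involution. -/
structure ZData {G : Type*} [Group G] (z a : G) (Q L : Subgroup G) : Prop where
  isZ : IsZ z
  ord_a : orderOf a = 7
  Q_le : Q ≤ cnt1 z
  L_le : L ≤ cnt1 z
  card_Q : Nat.card Q = 128
  card_L : Nat.card L = 168
  simple_L : IsSimpleGroup L
  a_mem : a ∈ L
  z_mem : z ∈ Q
  normQ : ∀ h ∈ cnt1 z, ∀ q ∈ Q, h * q * h⁻¹ ∈ Q
  disj : ∀ x ∈ Q, x ∈ L → x = 1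
  decomp : ∀ h ∈ cnt1 z, ∃ q ∈ Q, ∃ l ∈ L, h = q * l
  fix_a : ∀ q ∈ Q, a * q = q * a → q = 1 ∨ q = z

variable {G : Type*} [Group G] [Finite G]

/-- The quotient by `z` has a self-centralising element of order seven. -/
theorem selfCent_mod_z (D : OrderData G) {z a : G} (hz : IsZ z) (ha : orderOf a = 7) (haz : a * z = z * a) :
    SelfCent 7 (zmk z ⟨a, mem_cnt1.mpr haz.symm⟩) ∧
      Nat.card (nrm (zmk z ⟨a, mem_cnt1.mpr haz.symm⟩)) = 7 * 3 ∧
      Nat.card (cnt1 z ⧸ zpowers (zH z)) = 10752 := by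
  classical
  set H := cnt1 z with hH
  set aH : H := ⟨a, mem_cnt1.mpr haz.symm⟩ with haH
  have hcard := card_cent_z D hz
  have htrans : ∀ r : G, orderOf r = 2 → a * r = r * a → ∃ u : G, a * u = u * a ∧ u * z * u⁻¹ = r :=
    fun r hr har => conj_in_cent_seven D ha hz.1 hr haz har
  have hN := card_norm_inter (p := 42) haz hz.1 (D.cent_seven a ha).2.1 htrans (D.norm_seven a ha)
  have haC : Nat.card (cnt1 aH) = 7 * 2 := by
    have hcls := class_in_subgroup (cnt1 a) (mem_cnt1.mpr haz)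
    have e : Nat.card {g : G // ∃ n ∈ cnt1 a, n * z * n⁻¹ = g} = 3 := by
      rw [← (D.cent_seven a ha).2.1]
      refine Nat.card_congr (Equiv.subtypeEquivRight fun g => ⟨?_, ?_⟩)
      · rintro ⟨n, hn, rfl⟩
        exact ⟨(orderOf_conj n z).trans hz.1,
          ((show Commute a n from mem_cnt1.mp hn).mul_right haz).mul_right
            (show Commute a n from mem_cnt1.mp hn).inv_right⟩
      · rintro ⟨hg, hag⟩
        obtain ⟨u, hu, eu⟩ := htrans g hg hag
        exact ⟨u, mem_cnt1.mpr hu, eu⟩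
    rw [e, (D.cent_seven a ha).1] at hcls
    refine Eq.trans ?_ (show Nat.card ↥(cnt1 a ⊓ cnt1 z) = 7 * 2 by omega)
    exact Nat.card_congr
      { toFun := fun g => ⟨g.1.1, Subgroup.mem_inf.mpr
          ⟨mem_cnt1.mpr (congrArg Subtype.val (mem_cnt1.mp g.2) :), g.1.2⟩⟩
        invFun := fun g => ⟨⟨g.1, g.2.2⟩, mem_cnt1.mpr (Subtype.ext (mem_cnt1.mp g.2.1))⟩
        left_inv := fun _ => rfl
        right_inv := fun _ => rfl }
  have haN : Nat.card (nrm aH) = 7 * 2 * 3 := by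
    refine Eq.trans ?_ hN
    refine Nat.card_congr
      { toFun := fun g => ⟨g.1.1, g.1.2, ?_⟩
        invFun := fun g => ⟨⟨g.1, g.2.1⟩, ?_⟩
        left_inv := fun _ => rfl
        right_inv := fun _ => rfl }
    · refine mem_normalizer_fintype fun x hx => ?_
      obtain ⟨i, rfl⟩ := mem_zpowers_iff.mp hx
      obtain ⟨j, hj⟩ := mem_zpowers_iff.mp
        ((mem_normalizer_iff.mp g.2 (aH ^ i)).mp (zpow_mem (mem_zpowers aH) i))
      exact mem_zpowers_iff.mpr ⟨j, by simpa [haH] using congrArg Subtype.val hj⟩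
    · refine mem_normalizer_fintype fun x hx => ?_
      obtain ⟨i, rfl⟩ := mem_zpowers_iff.mp hx
      obtain ⟨j, hj⟩ := mem_zpowers_iff.mp
        ((mem_normalizer_iff.mp g.2.2 (a ^ i)).mp (zpow_mem (mem_zpowers a) i))
      exact mem_zpowers_iff.mpr ⟨j, Subtype.ext (by simpa [haH] using hj)⟩
  have hzo : orderOf (zH z) = 2 := (orderOf_mk _ _).trans hz.1
  obtain ⟨h1, h2⟩ := central_quotient (X := H) (p := 7) (q := 2) (e := 3) (by norm_num)
    (by rw [hcard]; norm_num) ((orderOf_mk _ _).trans ha) hzo (by norm_num) (zH_comm z) haC haN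
  refine ⟨h1, h2, ?_⟩
  have := (zpowers (zH z)).card_eq_card_quotient_mul_card_subgroup
  rw [hcard, Nat.card_zpowers, hzo] at this
  omega

/-- The elements mapped to one modulo `z`. -/
theorem zmk_eq_one {z : G} (hz : orderOf z = 2) {x : cnt1 z} (hx : zmk z x = 1) :
    (x : G) = 1 ∨ (x : G) = z := by
  obtain ⟨k, hk⟩ := mem_zpowers_iff.mp ((QuotientGroup.eq_one_iff x).mp hx)
  have e : z ^ k = (x : G) := by simpa [zH] using congrArg Subtype.val hk
  rw [← e, ← zpow_mod_orderOf, hz]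
  rcases Int.emod_two_eq_zero_or_one k with h | h
  · exact Or.inl (by simp [h])
  · exact Or.inr (by simp [h])

theorem exists_zdata (D : OrderData G) : ∃ (z a : G) (Q L : Subgroup G), ZData z a Q L := by
  classical
  have : Fact (Nat.Prime 7) := ⟨by norm_num⟩
  obtain ⟨z, hz⟩ := exists_z D
  obtain ⟨a, ha, haz⟩ := hz.2
  obtain ⟨⟨y, hy, hay⟩⟩ := (Nat.card_ne_zero.mp
    (by rw [(D.cent_seven a ha).2.2]; norm_num : commCount a 3 ≠ 0)).1
  obtain ⟨hL, hLs, -⟩ := exists_complement D ha hy hz.1 hay haz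
  set L := cnt1 y ⊓ cnt1 z with hLdef
  set H := cnt1 z with hHdef
  set aH : H := ⟨a, mem_cnt1.mpr haz.symm⟩ with haH
  obtain ⟨hX, hXN, hXcard⟩ := selfCent_mod_z D hz ha haz
  obtain ⟨K, hKn, hKp, hmax⟩ := exists_max_normal (H ⧸ zpowers (zH z)) 7
  have hKdvd : Nat.card K ∣ 2 ^ 9 * 3 ^ 1 := by
    have hd := card_subgroup_dvd_card K
    rw [hXcard, show (10752 : ℕ) = 2 ^ 9 * 3 ^ 1 * 7 by norm_num] at hd
    exact ((Nat.Prime.coprime_iff_not_dvd (by norm_num)).mpr hKp).symm.dvd_of_dvd_mul_right hd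
  obtain ⟨u, v, hu, hv, huv⟩ := Nat.dvd_mul.mp hKdvd
  obtain ⟨i, hi, rfl⟩ := (Nat.dvd_prime_pow Nat.prime_two).mp hu
  obtain ⟨j, hj, rfl⟩ := (Nat.dvd_prime_pow Nat.prime_three).mp hv
  have hK4 : Nat.card K = 1 ∨ Nat.card K = 8 ∨ Nat.card K = 64 ∨ Nat.card K = 512 := by
    have h2 := core_part hX K hKp Nat.prime_two
    have h3 := core_part hX K hKp Nat.prime_three
    rw [← huv, Nat.factorization_mul (by simp) (by simp), Finsupp.add_apply,
      Nat.Prime.factorization_pow Nat.prime_two, Nat.Prime.factorization_pow Nat.prime_three] at h2 h3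
    simp only [Finsupp.single_eq_same, Finsupp.single_apply] at h2 h3
    rw [← huv]
    exact core_check_z i (List.mem_range.mpr (by omega)) j (List.mem_range.mpr (by omega))
      (by simpa using h2) (by simpa using h3)
  let f : L →* (H ⧸ zpowers (zH z)) ⧸ K :=
    (QuotientGroup.mk' K).comp ((zmk z).comp (Subgroup.inclusion (inf_le_right : L ≤ H)))
  have hfinj : Function.Injective f := by
    rw [← MonoidHom.ker_eq_bot_iff]
    refine (hLs.eq_bot_or_eq_top_of_normal _ f.normal_ker).resolve_right fun htop => ?_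
    have haL : a ∈ L := ⟨mem_cnt1.mpr hay.symm, aH.2⟩
    have h1 : f ⟨a, haL⟩ = 1 := MonoidHom.mem_ker.mp (htop ▸ mem_top _)
    have h2 : zmk z aH ∈ K := (QuotientGroup.eq_one_iff _).mp h1
    exact hKp (hX.ord ▸ (orderOf_mk _ h2).symm ▸ orderOf_dvd_natCard (⟨_, h2⟩ : K))
  have hKQ := K.card_eq_card_quotient_mul_card_subgroup
  rw [hXcard] at hKQ
  have hdvd := card_dvd_of_injective f hfinj
  rw [hL] at hdvd
  have hK : Nat.card K = 64 := by
    rcases hK4 with h | h | h | h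
    rotate_left 2
    · exact h
    · rw [h] at hKQ
      exact absurd (Nat.le_of_dvd Nat.card_pos hdvd) (by omega)
    all_goals exfalso
    all_goals
      rw [h] at hKQ
      obtain ⟨hs, hna⟩ := (hX.quotient K hKp).isSimple (e := 3) (by norm_num)
        (by rw [hX.card_nrm_quotient K hKp, hXN])
        (lt_of_lt_of_le (by norm_num : 7 * 3 < 168) (Nat.le_of_dvd Nat.card_pos hdvd)) (quotient_core hKp hmax)
      have h60 : Nat.card (alternatingGroup (Fin 5)) = 60 := by rw [nat_card_alternatingGroup, Nat.card_fin]; rfl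
      have h168 : Nat.card (Matrix.ProjectiveSpecialLinearGroup (Fin 2) (ZMod 7)) = 168 := by
        have : Fact (Nat.Prime 7) := ⟨by norm_num⟩
        rw [GLOrder.card_PSL_two, Nat.card_zmod]; decide
    · have hq : Nat.card ((H ⧸ zpowers (zH z)) ⧸ K) = 3 * 7 ^ 1 * 2 ^ 9 := by omega
      rcases SmallOrders.ThreePrime.iso_of_three hna (p := 7) (q := 2) (a := 1) (b := 9) (by norm_num) Nat.prime_two
        (by norm_num) (by norm_num) hq with ⟨⟨e⟩⟩ | ⟨⟨e⟩⟩
      · exact absurd (hq.symm.trans ((Nat.card_congr e.toEquiv).trans h60)) (by norm_num)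
      · exact absurd (hq.symm.trans ((Nat.card_congr e.toEquiv).trans h168)) (by norm_num)
    · have hq : Nat.card ((H ⧸ zpowers (zH z)) ⧸ K) = 3 * 7 ^ 1 * 2 ^ 6 := by omega
      rcases SmallOrders.ThreePrime.iso_of_three hna (p := 7) (q := 2) (a := 1) (b := 6) (by norm_num) Nat.prime_two
        (by norm_num) (by norm_num) hq with ⟨⟨e⟩⟩ | ⟨⟨e⟩⟩
      · exact absurd (hq.symm.trans ((Nat.card_congr e.toEquiv).trans h60)) (by norm_num)
      · exact absurd (hq.symm.trans ((Nat.card_congr e.toEquiv).trans h168)) (by norm_num)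
  have hfbij : Function.Bijective f :=
    hfinj.bijective_of_nat_card_le (by rw [hL]; rw [hK] at hKQ; omega)
  set Qs : Subgroup H := K.comap (zmk z) with hQs
  refine ⟨z, a, Qs.map H.subtype, L, ⟨hz, ha, map_subtype_le _, inf_le_right, ?_, hL, hLs,
    ⟨mem_cnt1.mpr hay.symm, aH.2⟩, ?_, ?_, ?_, ?_, ?_⟩⟩
  · rw [← Nat.card_congr (Qs.equivMapOfInjective _ H.subtype_injective).toEquiv, card_comap_mk, hK,
      Nat.card_zpowers, zH, orderOf_mk, hz.1]
  · refine ⟨zH z, ?_, rfl⟩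
    show zmk z (zH z) ∈ K
    rw [show zmk z (zH z) = 1 from (QuotientGroup.eq_one_iff _).mpr (mem_zpowers _)]
    exact one_mem _
  · rintro h hh _ ⟨q, hq, rfl⟩
    exact ⟨⟨h, hh⟩ * q * ⟨h, hh⟩⁻¹, (inferInstance : Qs.Normal).conj_mem q hq ⟨h, hh⟩, rfl⟩
  · rintro _ ⟨q, hq, rfl⟩ hx
    have h1 : f ⟨q, hx⟩ = 1 := (QuotientGroup.eq_one_iff _).mpr hq
    exact congrArg Subtype.val ((injective_iff_map_eq_one f).mp hfinj _ h1)
  · intro h hh
    obtain ⟨l, hl⟩ := hfbij.2 (QuotientGroup.mk' K (zmk z ⟨h, hh⟩))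
    refine ⟨h * (l : G)⁻¹, ⟨⟨h, hh⟩ * (Subgroup.inclusion inf_le_right l)⁻¹, ?_, rfl⟩, l, l.2,
      (inv_mul_cancel_right _ _).symm⟩
    show zmk z _ ∈ K
    rw [← QuotientGroup.eq_one_iff, _root_.map_mul, map_inv, QuotientGroup.mk_mul, QuotientGroup.mk_inv,
      mul_inv_eq_one]
    exact hl.symm
  · rintro _ ⟨q, hq, rfl⟩ hc
    refine zmk_eq_one hz.1 ?_
    have hmem : zmk z q ∈ cnt1 (zmk z aH) := mem_cnt1.mpr (by
      rw [← _root_.map_mul, ← _root_.map_mul]; exact congrArg _ (Subtype.ext hc))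
    have h7 := orderOf_dvd_natCard (⟨_, hmem⟩ : cnt1 (zmk z aH))
    have hq' : zmk z q ∈ K := hq
    have h64 := orderOf_dvd_natCard (⟨_, hq'⟩ : K)
    rw [orderOf_mk, hX.cent] at h7
    rw [orderOf_mk, hK] at h64
    exact orderOf_eq_one_iff.mp (Nat.eq_one_of_dvd_coprimes (by norm_num) h7 h64)

namespace ZData

variable {z a : G} {Q L : Subgroup G} (Z : ZData z a Q L)
include Z

theorem comm_z {h : G} (hh : h ∈ cnt1 z) : h * z = z * h := (mem_cnt1.mp hh).symm

theorem zz : z * z = 1 := mul_self_of_two Z.isZ.1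

theorem z_ne : z ≠ 1 := ne_one_of_two Z.isZ.1

/-- Every element of order seven fixes only `⟨z⟩`. -/
theorem fix_seven (D : OrderData G) {b q : G} (hb : orderOf b = 7) (hbH : b ∈ cnt1 z) (hq : q ∈ Q)
    (hc : b * q = q * b) : q = 1 ∨ q = z := by
  have : Fact (Nat.Prime 7) := ⟨by norm_num⟩
  obtain ⟨u, hu, hzp⟩ := exists_conj_in (M := cnt1 z) (by rw [card_cent_z D Z.isZ]; norm_num) hb Z.ord_a hbH
    (Z.L_le Z.a_mem)
  obtain ⟨i, hi⟩ := mem_zpowers_iff.mp (hzp.symm ▸ mem_zpowers a : a ∈ zpowers (u * b * u⁻¹))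
  have hc' : a * (u * q * u⁻¹) = u * q * u⁻¹ * a := by
    rw [← hi]; exact ((show Commute _ _ from conj_comm (u := u) hc).zpow_left i).eq
  rcases Z.fix_a _ (Z.normQ u hu q hq) hc' with e | e
  · exact Or.inl (conj_eq_one_iff.mp e)
  · right
    rw [mul_inv_eq_iff_eq_mul, ← Z.comm_z hu] at e
    exact mul_left_cancel e

theorem self_cent {g : G} (hg : ∀ q ∈ Q, g * q = q * g) : g ∈ Q := by
  classical
  have := Z.simple_L
  have hgH : g ∈ cnt1 z := mem_cnt1.mpr (hg z Z.z_mem).symm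
  let M : Subgroup L :=
    { carrier := {l | ∃ q ∈ Q, ∀ x ∈ Q, (l : G) * x * (l : G)⁻¹ = q * x * q⁻¹}
      one_mem' := ⟨1, one_mem _, fun x _ => by simp⟩
      mul_mem' := by
        rintro l1 l2 ⟨q1, hq1, h1⟩ ⟨q2, hq2, h2⟩
        refine ⟨q1 * q2, mul_mem hq1 hq2, fun x hx => ?_⟩
        rw [Subgroup.coe_mul, show (l1 : G) * l2 * x * ((l1 : G) * l2)⁻¹ = l1 * (l2 * x * (l2 : G)⁻¹) * (l1 : G)⁻¹ by group,
          h2 x hx, h1 _ (mul_mem (mul_mem hq2 hx) (inv_mem hq2))]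
        group
      inv_mem' := by
        rintro l ⟨q, hq, h⟩
        refine ⟨q⁻¹, inv_mem hq, fun x hx => ?_⟩
        have := h (q⁻¹ * x * q) (mul_mem (mul_mem (inv_mem hq) hx) hq)
        rw [show q * (q⁻¹ * x * q) * q⁻¹ = x by group] at this
        rw [Subgroup.coe_inv]
        conv_lhs => rw [← this]
        group }
  have hMn : M.Normal := ⟨by
    rintro l ⟨q, hq, h⟩ n
    refine ⟨n * q * (n : G)⁻¹, Z.normQ n (Z.L_le n.2) q hq, fun x hx => ?_⟩
    have hx' : (n : G)⁻¹ * x * n ∈ Q := by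
      simpa using Z.normQ (n : G)⁻¹ (inv_mem (Z.L_le n.2)) x hx
    rw [Subgroup.coe_mul, Subgroup.coe_mul, Subgroup.coe_inv,
      show (n : G) * l * (n : G)⁻¹ * x * ((n : G) * l * (n : G)⁻¹)⁻¹ =
        n * (l * ((n : G)⁻¹ * x * n) * (l : G)⁻¹) * (n : G)⁻¹ by group, h _ hx']
    group⟩
  rcases IsSimpleGroup.eq_bot_or_eq_top_of_normal M hMn with hM | hM
  · obtain ⟨q, hq, l, hl, rfl⟩ := Z.decomp g hgH
    have hlM : (⟨l, hl⟩ : L) ∈ M := ⟨q⁻¹, inv_mem hq, fun x hx => by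
      rw [inv_inv]
      calc l * x * l⁻¹ = q⁻¹ * (q * l * x) * l⁻¹ := by group
        _ = q⁻¹ * x * q := by rw [hg x hx]; group⟩
    rw [hM, mem_bot, Subtype.ext_iff] at hlM
    rw [show l = 1 from hlM, mul_one]
    exact hq
  · exfalso
    obtain ⟨q, hq, h⟩ : (⟨a, Z.a_mem⟩ : L) ∈ M := hM ▸ mem_top _
    have key : ∀ n : ℕ, ∀ x ∈ Q, a ^ n * x * (a ^ n)⁻¹ = q ^ n * x * (q ^ n)⁻¹ := by
      intro n
      induction n with
      | zero => simp
      | succ n ih =>
        intro x hx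
        rw [pow_succ', pow_succ', show a * a ^ n * x * (a * a ^ n)⁻¹ = a * (a ^ n * x * (a ^ n)⁻¹) * a⁻¹ by group,
          ih x hx, h _ (mul_mem (mul_mem (pow_mem hq n) hx) (inv_mem (pow_mem hq n)))]
        group
    have hq128 : q ^ 128 = 1 := by
      have := orderOf_dvd_natCard (⟨q, hq⟩ : Q)
      rw [orderOf_mk, Z.card_Q] at this
      exact orderOf_dvd_iff_pow_eq_one.mp this
    obtain ⟨m, hm⟩ := exists_pow_eq_self_of_coprime (n := 128) (x := a) (by rw [Z.ord_a]; norm_num)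
    have hall : ∀ x ∈ Q, a * x = x * a := fun x hx => by
      have h1 := key 128 x hx
      rw [hq128, one_mul, inv_one, mul_one] at h1
      have h2 : Commute (a ^ 128) x := mul_inv_eq_iff_eq_mul.mp h1
      exact hm ▸ (h2.pow_left m).eq
    have hle : Nat.card Q ≤ Nat.card (Fin 2) := Nat.card_le_card_of_injective
      (fun x : Q => if (x : G) = 1 then 0 else 1) fun x y e => by
        rcases Z.fix_a x x.2 (hall x x.2) with hx | hx <;> rcases Z.fix_a y y.2 (hall y y.2) with hy | hy <;>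
          simp [hx, hy, Z.z_ne] at e <;> exact Subtype.ext (hx.trans hy.symm)
    rw [Z.card_Q, Nat.card_fin] at hle
    omega

theorem card_norm_three_L {d : G} (hdL : d ∈ L) (hd : orderOf d = 3) : Nat.card ↥(L ⊓ nrm d) = 6 := by
  have : Fact (Nat.Prime 7) := ⟨by norm_num⟩
  have : Fact (Nat.Prime 3) := ⟨Nat.prime_three⟩
  have : Fact (Nat.Prime 2) := ⟨Nat.prime_two⟩
  have := Z.simple_L
  obtain ⟨m, hm, -, hsy⟩ := sub_inf_normalizer_mul hd L (by rw [Z.card_L]; norm_num) hdL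
  rw [S168.card_sylow_three Z.card_L] at hsy
  rw [Z.card_L, ← hsy] at hm
  omega

theorem card_cent_three_L {d : G} (hdL : d ∈ L) (hd : orderOf d = 3) : Nat.card ↥(L ⊓ cnt1 d) = 3 := by
  have : Fact (Nat.Prime 7) := ⟨by norm_num⟩
  have : Fact (Nat.Prime 3) := ⟨Nat.prime_three⟩
  have : Fact (Nat.Prime 2) := ⟨Nat.prime_two⟩
  have := Z.simple_L
  refine Eq.trans ?_ (S168.centralizer_three Z.card_L (x := ⟨d, hdL⟩) ((orderOf_mk _ _).trans hd))
  exact Nat.card_congr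
    { toFun := fun g => ⟨⟨g.1, g.2.1⟩, mem_centralizer_singleton_iff.mpr
        (Subtype.ext (mem_centralizer_singleton_iff.mp g.2.2))⟩
      invFun := fun g => ⟨g.1.1, g.1.2,
        mem_centralizer_singleton_iff.mpr (congrArg Subtype.val (mem_centralizer_singleton_iff.mp g.2))⟩
      left_inv := fun _ => rfl
      right_inv := fun _ => rfl }

/-- The part in `Q` of an element normalising `⟨d⟩`. -/
theorem fix_of_norm {d q : G} (hdL : d ∈ L) (hq : q ∈ Q) (hn : q ∈ nrm d) : d * q = q * d := by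
  have h1 : q * d * q⁻¹ * d⁻¹ ∈ L :=
    mul_mem (zpowers_le.mpr hdL ((mem_normalizer_iff.mp hn d).mp (mem_zpowers d))) (inv_mem hdL)
  have h2 : q * d * q⁻¹ * d⁻¹ ∈ Q := by
    rw [show q * d * q⁻¹ * d⁻¹ = q * (d * q⁻¹ * d⁻¹) by group]
    exact mul_mem hq (Z.normQ d (Z.L_le hdL) _ (inv_mem hq))
  have e := Z.disj _ h2 h1
  rw [mul_inv_eq_one, mul_inv_eq_iff_eq_mul] at e
  exact e.symm

theorem norm_decomp {d h : G} (hdL : d ∈ L) (hh : h ∈ cnt1 z ⊓ nrm d) :
    ∃ q ∈ Q ⊓ cnt1 d, ∃ l ∈ L ⊓ nrm d, h = q * l := by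
  obtain ⟨q, hq, l, hl, rfl⟩ := Z.decomp h hh.1
  obtain ⟨i, hi⟩ := mem_zpowers_iff.mp ((mem_normalizer_iff.mp hh.2 d).mp (mem_zpowers d))
  have hld : l * d * l⁻¹ = d ^ i := by
    refine mul_inv_eq_one.mp (Z.disj _ ?_ (mul_mem (mul_mem (mul_mem hl hdL) (inv_mem hl)) (inv_mem (zpow_mem hdL i))))
    have e : l * d * l⁻¹ * (d ^ i)⁻¹ = q⁻¹ * (d ^ i * q * (d ^ i)⁻¹) := by rw [hi]; group
    rw [e]
    exact mul_mem (inv_mem hq) (Z.normQ _ (Z.L_le (zpow_mem hdL i)) q hq)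
  have hlN : l ∈ nrm d := by
    refine mem_normalizer_fintype fun x hx => ?_
    obtain ⟨k, rfl⟩ := mem_zpowers_iff.mp hx
    rw [← conj_zpow, hld]
    exact zpow_mem (zpow_mem (mem_zpowers d) i) k
  have hqN : q ∈ nrm d := by simpa using mul_mem (Subgroup.mem_inf.mp hh).2 (inv_mem hlN)
  exact ⟨q, ⟨hq, mem_cnt1.mpr (Z.fix_of_norm hdL hq hqN)⟩, l, ⟨hl, hlN⟩, rfl⟩

theorem card_mul_bij {d : G} (hdL : d ∈ L) (S : Subgroup G)
    (hle : Q ⊓ cnt1 d ≤ S) (hS : S ≤ cnt1 z ⊓ nrm d) :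
    Nat.card ↥(Q ⊓ cnt1 d) * Nat.card ↥(L ⊓ S) = Nat.card S := by
  rw [← Nat.card_prod]
  refine Nat.card_congr (Equiv.ofBijective (fun s => (⟨(s.1 : G) * s.2, mul_mem (hle s.1.2) (Subgroup.mem_inf.mp s.2.2).2⟩ : S)) ⟨?_, ?_⟩)
  · rintro ⟨⟨q, hq⟩, l, hl⟩ ⟨⟨q', hq'⟩, l', hl'⟩ e
    have e' : q * l = q' * l' := congrArg Subtype.val e
    have h1 : q'⁻¹ * q = l' * l⁻¹ := by
      rw [inv_mul_eq_iff_eq_mul, ← mul_assoc, ← e', mul_inv_cancel_right]
    have h2 := Z.disj _ (mul_mem (inv_mem hq'.1) hq.1) (h1 ▸ mul_mem hl'.1 (inv_mem hl.1))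
    rw [inv_mul_eq_one] at h2
    subst h2
    obtain rfl := mul_left_cancel e'
    rfl
  · rintro ⟨h, hh⟩
    obtain ⟨q, hq, l, hl, rfl⟩ := Z.norm_decomp hdL (hS hh)
    exact ⟨(⟨q, hq⟩, ⟨l, hl.1, by simpa using mul_mem (inv_mem (hle hq)) hh⟩), rfl⟩

theorem fix_three_le {d : G} : Q ⊓ cnt1 d ≤ cnt1 z ⊓ nrm d :=
  inf_le_inf Z.Q_le (cnt1_le_nrm d)

theorem card_fix_three (D : OrderData G) {d : G} (hdL : d ∈ L) (hd : orderOf d = 3) :
    Nat.card ↥(Q ⊓ cnt1 d) = 8 := by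
  have h := Z.card_mul_bij hdL _ Z.fix_three_le le_rfl
  rw [card_norm_pair D Z.isZ.1 hd (mem_cnt1.mp (Z.L_le hdL)),
    show L ⊓ (cnt1 z ⊓ nrm d) = L ⊓ nrm d by rw [← inf_assoc, inf_eq_left.mpr Z.L_le],
    Z.card_norm_three_L hdL hd] at h
  omega

theorem card_cent_pair (D : OrderData G) {d : G} (hdL : d ∈ L) (hd : orderOf d = 3) :
    Nat.card ↥(cnt1 z ⊓ cnt1 d) = 24 := by
  have h := Z.card_mul_bij hdL (cnt1 z ⊓ cnt1 d) (inf_le_inf_right _ Z.Q_le) (inf_le_inf_left _ (cnt1_le_nrm d))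
  rw [Z.card_fix_three D hdL hd, show L ⊓ (cnt1 z ⊓ cnt1 d) = L ⊓ cnt1 d by
      rw [← inf_assoc, inf_eq_left.mpr Z.L_le], Z.card_cent_three_L hdL hd] at h
  omega

theorem exists_inverter {d : G} (hdL : d ∈ L) (hd : orderOf d = 3) :
    ∃ t ∈ L, orderOf t = 2 ∧ t * d * t⁻¹ = d⁻¹ := by
  have : Fact (Nat.Prime 2) := ⟨Nat.prime_two⟩
  obtain ⟨t, ht⟩ := exists_prime_orderOf_dvd_card' (G := ↥(L ⊓ nrm d)) 2
    (by rw [Z.card_norm_three_L hdL hd]; norm_num)
  have ht' : orderOf (t : G) = 2 := (orderOf_coe t).trans ht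
  refine ⟨t, t.2.1, ht', (conj_eq_or_inv hd ((mem_normalizer_iff.mp t.2.2 d).mp (mem_zpowers d))).resolve_left
    fun e => ?_⟩
  have hmem : (t : G) ∈ L ⊓ cnt1 d := ⟨t.2.1, mem_cnt1.mpr (mul_inv_eq_iff_eq_mul.mp e).symm⟩
  have := orderOf_dvd_natCard (⟨_, hmem⟩ : ↥(L ⊓ cnt1 d))
  rw [orderOf_mk, ht', Z.card_cent_three_L hdL hd] at this
  norm_num at this

/-- A commuting pair of a `Z`-involution and an element of order three is conjugate to `(z, d)`. -/
theorem conj_pair (D : OrderData G) {d t v : G} (hdL : d ∈ L) (hd : orderOf d = 3) (ht : IsZ t)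
    (hv : orderOf v = 3) (hc : t * v = v * t) : ∃ g : G, g * t * g⁻¹ = z ∧ g * v * g⁻¹ = d := by
  have : Fact (Nat.Prime 3) := ⟨Nat.prime_three⟩
  obtain ⟨w, hw⟩ := isConj_iff.mp (isConj_z D ht Z.isZ)
  have h1 := conj_comm (u := w) hc
  rw [hw] at h1
  obtain ⟨u, hu, hzp⟩ := exists_conj_in (M := cnt1 z) (by rw [card_cent_z D Z.isZ]; norm_num)
    ((orderOf_conj w v).trans hv) hd (mem_cnt1.mpr h1) (Z.L_le hdL)
  have hg : u * w * t * (u * w)⁻¹ = z := by
    rw [show u * w * t * (u * w)⁻¹ = u * (w * t * w⁻¹) * u⁻¹ by group, hw]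
    exact mul_inv_eq_iff_eq_mul.mpr (Z.comm_z hu)
  obtain ⟨k, hk⟩ : u * w * v * (u * w)⁻¹ ∈ Submonoid.powers d := by
    rw [show u * w * v * (u * w)⁻¹ = u * (w * v * w⁻¹) * u⁻¹ by group]
    exact mem_powers_iff_mem_zpowers.mpr (hzp ▸ mem_zpowers _)
  change d ^ k = _ at hk
  rw [← pow_mod_orderOf, hd] at hk
  have h3 : k % 3 < 3 := Nat.mod_lt _ (by norm_num)
  interval_cases hk' : k % 3
  · exfalso
    rw [pow_zero, eq_comm, conj_eq_one_iff] at hk
    rw [hk, orderOf_one] at hv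
    omega
  · exact ⟨u * w, hg, by rw [← hk, pow_one]⟩
  · obtain ⟨s, hsL, -, hsd⟩ := Z.exists_inverter hdL hd
    refine ⟨s * (u * w), ?_, ?_⟩
    · rw [show s * (u * w) * t * (s * (u * w))⁻¹ = s * (u * w * t * (u * w)⁻¹) * s⁻¹ by group, hg]
      exact mul_inv_eq_iff_eq_mul.mpr (Z.comm_z (Z.L_le hsL))
    · rw [show s * (u * w) * v * (s * (u * w))⁻¹ = s * (u * w * v * (u * w)⁻¹) * s⁻¹ by group, ← hk, ← conj_pow,
        hsd, inv_pow, inv_eq_iff_mul_eq_one, ← pow_succ, show 2 + 1 = orderOf d by rw [hd], pow_orderOf_eq_one]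

/-- The order of `C(d)` against the number of its involutions. -/
theorem card_cent_d (D : OrderData G) {d : G} (hdL : d ∈ L) (hd : orderOf d = 3) :
    Nat.card (cnt1 d) = 24 * commCount d 2 := by
  classical
  have : Fact (Nat.Prime 3) := ⟨Nat.prime_three⟩
  obtain ⟨u, hu⟩ := exists_u D
  have hk : commCount z 3 = 896 := by
    rw [(numOrder_three_cent (t := z) (n := 7168) (card_cent_z D Z.isZ) (by norm_num)).1,
      (sylow_three_counts D Z.isZ hu).1]
  have := Fintype.ofFinite G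
  have hzc : ∀ {v t : G}, IsConj d v → orderOf t = 2 → v * t = t * v → IsZ t := fun {v t} hv ht hc => by
    obtain ⟨w, hw⟩ := isConj_iff.mp hv.symm
    have h1 := conj_comm (u := w) hc
    rw [hw] at h1
    have h2 : IsZ (w * t * w⁻¹) := (invol_cases D ((orderOf_conj w t).trans ht)).resolve_right fun hU =>
      separated D hd Z.isZ hU (mem_cnt1.mp (Z.L_le hdL)).symm h1
    simpa [mul_assoc] using h2.conj w⁻¹
  have hsum : Nat.card (Σ t : {t : G // IsZ t}, {v : G // orderOf v = 3 ∧ t.1 * v = v * t.1}) =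
      Nat.card (Σ v : {v : G // IsConj d v}, {t : G // orderOf t = 2 ∧ v.1 * t = t * v.1}) := by
    refine Nat.card_congr
      { toFun := fun s => ⟨⟨s.2.1, ?_⟩, s.1.1, s.1.2.1, s.2.2.2.symm⟩
        invFun := fun s => ⟨⟨s.2.1, hzc s.1.2 s.2.2.1 s.2.2.2⟩, s.1.1, ?_, s.2.2.2.symm⟩
        left_inv := fun _ => rfl
        right_inv := fun _ => rfl }
    · obtain ⟨g, -, hg⟩ := Z.conj_pair D hdL hd s.1.2 s.2.2.1 s.2.2.2
      exact (isConj_iff.mpr ⟨g, hg⟩).symm
    · obtain ⟨g, hg⟩ := isConj_iff.mp s.1.2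
      rw [← hg, orderOf_conj, hd]
  have h1 : ∀ t : {t : G // IsZ t}, Nat.card {v : G // orderOf v = 3 ∧ t.1 * v = v * t.1} = 896 := fun t =>
    (commCount_const D (isConj_z D t.2 Z.isZ) 3).trans hk
  have h2 : ∀ v : {v : G // IsConj d v},
      Nat.card {t : G // orderOf t = 2 ∧ v.1 * t = t * v.1} = commCount d 2 := fun v =>
    commCount_const D (IsConj.symm v.2) 2
  simp only [Nat.card_sigma, h1, h2, Finset.sum_const, smul_eq_mul, Finset.card_univ, ← Nat.card_eq_fintype_card,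
    card_zset D] at hsum
  have hcl : Nat.card {v : G // IsConj d v} * Nat.card (cnt1 d) = 244823040 :=
    (card_isConj_class d).trans D.card
  have hne : Nat.card {v : G // IsConj d v} ≠ 0 := fun e => by rw [e] at hcl; omega
  refine Nat.eq_of_mul_eq_mul_left (Nat.pos_of_ne_zero hne) ?_
  rw [hcl, mul_left_comm, ← hsum]
  norm_num

theorem invol_conj_cent_d (D : OrderData G) {d s t : G} (hdL : d ∈ L) (hd : orderOf d = 3) (hs : orderOf s = 2)
    (ht : orderOf t = 2) (hds : d * s = s * d) (hdt : d * t = t * d) : ∃ g ∈ cnt1 d, g * s * g⁻¹ = t := by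
  classical
  have hsZ : IsZ s := (invol_cases D hs).resolve_right fun hU =>
    separated D hd Z.isZ hU (mem_cnt1.mp (Z.L_le hdL)).symm hds
  obtain ⟨w, hws, hwd⟩ := Z.conj_pair D hdL hd hsZ hd hds.symm
  have hwC : w ∈ cnt1 d := mem_cnt1.mpr (mul_inv_eq_iff_eq_mul.mp hwd).symm
  have hcl := class_in_subgroup (cnt1 d) (mem_cnt1.mpr (Z.comm_z (Z.L_le hdL)))
  rw [inf_comm, Z.card_cent_pair D hdL hd, Z.card_cent_d D hdL hd] at hcl
  let f : {g : G // ∃ n ∈ cnt1 d, n * z * n⁻¹ = g} → {g : G // orderOf g = 2 ∧ d * g = g * d} := fun g => ⟨g.1, by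
    obtain ⟨n, hn, e⟩ := g.2
    rw [← e]
    exact ⟨(orderOf_conj n z).trans Z.isZ.1,
      ((show Commute d n from mem_cnt1.mp hn).mul_right (Z.comm_z (Z.L_le hdL))).mul_right
        (show Commute d n from mem_cnt1.mp hn).inv_right⟩⟩
  obtain ⟨⟨_, n, hn, rfl⟩, hx⟩ := (Function.Injective.bijective_of_nat_card_le (f := f)
    (fun u v e => Subtype.ext (congrArg Subtype.val e :))
    (show commCount d 2 ≤ _ by omega)).2 ⟨t, ht, hdt⟩
  refine ⟨n * w, mul_mem hn hwC, ?_⟩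
  rw [show n * w * s * (n * w)⁻¹ = n * (w * s * w⁻¹) * n⁻¹ by group, hws]
  exact congrArg Subtype.val hx

theorem not_commute_fix_three (D : OrderData G) {d e : G} (hdL : d ∈ L) (hd : orderOf d = 3)
    (he : e ∈ Q ⊓ cnt1 d) (he2 : e * e = 1) (he1 : e ≠ 1) (hez : e ≠ z) :
    ∃ x ∈ Q ⊓ cnt1 d, x * e ≠ e * x := by
  classical
  by_contra hno
  push Not at hno
  set A := Q ⊓ cnt1 d with hA
  have hdz : d * z = z * d := Z.comm_z (Z.L_le hdL)
  have hzA : z ∈ A := ⟨Z.z_mem, mem_cnt1.mpr hdz⟩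
  have hA8 := Z.card_fix_three D hdL hd
  have hcomm : ∀ x ∈ A, ∀ y ∈ A, x * y = y * x := by
    have hC : 4 ≤ Nat.card (center A) := by
      have hc : ∀ g : G, (hg : g ∈ A) → (∀ x ∈ A, x * g = g * x) → (⟨g, hg⟩ : A) ∈ center A := fun g hg h =>
        mem_center_iff.mpr fun x => Subtype.ext (h x x.2)
      have hz' := hc z hzA fun x hx => Z.comm_z (Z.Q_le hx.1)
      have he' := hc e he hno
      have := Nat.card_le_card_of_injective (fun p : Fin 2 × Fin 2 => (⟨(⟨z, hzA⟩ : A) ^ p.1.val * ⟨e, he⟩ ^ p.2.val,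
        mul_mem (pow_mem hz' _) (pow_mem he' _)⟩ : center A)) (by
          intro p q h
          exact four_injective Z.zz Z.z_ne he1 hez
            (congrArg (fun x : center A => ((x : A) : G)) h))
      rwa [Nat.card_prod, Nat.card_fin] at this
    have hd' := card_subgroup_dvd_card (center A)
    rw [hA8] at hd'
    have hq : Nat.card (A ⧸ center A) ∣ 2 := by
      have h := (center A).card_eq_card_quotient_mul_card_subgroup
      rw [hA8] at h
      have := Nat.le_of_dvd (by norm_num) hd'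
      have h2 : Nat.card (A ⧸ center A) = 1 ∨ Nat.card (A ⧸ center A) = 2 := by
        interval_cases hc : Nat.card (center A) <;> omega
      rcases h2 with e' | e' <;> rw [e'] <;> norm_num
    have hcyc : IsCyclic (A ⧸ center A) := by
      rcases (Nat.dvd_prime Nat.prime_two).mp hq with h | h
      · have := (Nat.card_eq_one_iff_unique.mp h).1
        exact isCyclic_of_subsingleton
      · have : Fact (Nat.Prime 2) := ⟨Nat.prime_two⟩
        exact isCyclic_of_prime_card h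
    intro x hx y hy
    exact congrArg Subtype.val
      (commutative_of_cyclic_center_quotient (QuotientGroup.mk' (center A))
        (by rw [QuotientGroup.ker_mk']) ⟨x, hx⟩ ⟨y, hy⟩ :)
  set M := cnt1 z ⊓ cnt1 d with hM
  have hAd : ∀ m ∈ M, ∃ x ∈ A, ∃ i : ℕ, m = x * d ^ i := by
    intro m hm
    obtain ⟨q, hq, l, hl, rfl⟩ := Z.norm_decomp hdL ⟨hm.1, cnt1_le_nrm d hm.2⟩
    have hlC : l ∈ L ⊓ cnt1 d := ⟨hl.1, by simpa using mul_mem (inv_mem (Subgroup.mem_inf.mp hq).2) (Subgroup.mem_inf.mp hm).2⟩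
    have hle : zpowers d = L ⊓ cnt1 d := eq_of_le_of_card_ge
      (zpowers_le.mpr ⟨hdL, mem_cnt1.mpr rfl⟩)
      (by rw [Z.card_cent_three_L hdL hd, Nat.card_zpowers, hd])
    obtain ⟨i, hi⟩ := mem_powers_iff_mem_zpowers.mpr (hle ▸ hlC : l ∈ zpowers d)
    exact ⟨q, hq, i, by rw [← hi]⟩
  have hdA : ∀ x ∈ A, Commute d x := fun x hx => mem_cnt1.mp hx.2
  -- involutions of `A` are conjugate under its normaliser in `C(d)`
  set N := cnt1 d ⊓ normalizer (A : Set G) with hN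
  have hconj : ∀ t ∈ A, orderOf t = 2 → ∃ g ∈ N, g * z * g⁻¹ = t := by
    intro t ht ht2
    obtain ⟨g, hg, hgz⟩ := Z.invol_conj_cent_d D hdL hd Z.isZ.1 ht2 hdz (mem_cnt1.mp ht.2)
    refine ⟨g, ⟨hg, mem_normalizer_fintype fun x hx => ?_⟩, hgz⟩
    have hMle : M ≤ cnt1 t ⊓ cnt1 d := by
      intro m hm
      obtain ⟨x', hx', i, rfl⟩ := hAd m hm
      refine ⟨mem_cnt1.mpr ?_, hm.2⟩
      exact ((show Commute t x' from hcomm t ht x' hx').mul_right
        ((hdA t ht).symm.pow_right i)).eq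
    have htp : Nat.card ↥(cnt1 t ⊓ cnt1 d) = 24 := by
      refine Eq.trans (Nat.card_congr ?_) (Z.card_cent_pair D hdL hd)
      exact
        { toFun := fun m => ⟨g⁻¹ * m.1 * g, Subgroup.mem_inf.mpr ⟨mem_cnt1.mpr (by
              have h := conj_comm (u := g⁻¹) (mem_cnt1.mp (Subgroup.mem_inf.mp m.2).1)
              rw [inv_inv, show g⁻¹ * t * g = z by rw [← hgz]; group] at h
              exact h), mul_mem (mul_mem (inv_mem hg) (Subgroup.mem_inf.mp m.2).2) hg⟩⟩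
          invFun := fun m => ⟨g * m.1 * g⁻¹, Subgroup.mem_inf.mpr ⟨mem_cnt1.mpr (by
              have h := conj_comm (u := g) (mem_cnt1.mp (Subgroup.mem_inf.mp m.2).1)
              rwa [hgz] at h),
            mul_mem (mul_mem hg (Subgroup.mem_inf.mp m.2).2) (inv_mem hg)⟩⟩
          left_inv := fun m => Subtype.ext (by simp [mul_assoc])
          right_inv := fun m => Subtype.ext (by simp [mul_assoc]) }
    have heq : M = cnt1 t ⊓ cnt1 d :=
      eq_of_le_of_card_ge hMle (by rw [htp, Z.card_cent_pair D hdL hd])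
    have hxM : g * x * g⁻¹ ∈ M := by
      rw [heq]
      refine Subgroup.mem_inf.mpr ⟨mem_cnt1.mpr ?_, mul_mem (mul_mem hg (Subgroup.mem_inf.mp hx).2) (inv_mem hg)⟩
      have h := conj_comm (u := g) (Z.comm_z (Z.Q_le hx.1)).symm
      rwa [hgz] at h
    obtain ⟨x', hx', i, hxe⟩ := hAd _ hxM
    have h8 : ∀ w ∈ A, w ^ 8 = 1 := fun w hw => by
      have := orderOf_dvd_natCard (⟨w, hw⟩ : A)
      rw [orderOf_mk, hA8] at this
      exact orderOf_dvd_iff_pow_eq_one.mp this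
    have h1 : (g * x * g⁻¹) ^ 8 = 1 := by rw [conj_pow, h8 x hx]; simp
    rw [hxe, ((hdA x' hx').symm.pow_right i).mul_pow, h8 x' hx', one_mul, ← pow_mul] at h1
    have h3 := orderOf_dvd_of_pow_eq_one h1
    rw [hd] at h3
    rw [← pow_mod_orderOf, hd, show i % 3 = 0 by omega, pow_zero, mul_one] at hxe
    rw [hxe]
    exact hx'
  -- so `A` is elementary
  have hsqA : ∀ x ∈ A, x * x = 1 := by
    intro x hx
    by_contra hne
    have : IsMulCommutative A := ⟨⟨fun p q => Subtype.ext (hcomm p p.2 q q.2)⟩⟩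
    let sq : A →* A := MonoidHom.mk' (fun p => p * p) fun p q => by
      show p * q * (p * q) = p * p * (q * q)
      have hpq : q * p = p * q := Subtype.ext (hcomm q q.2 p p.2)
      rw [mul_assoc, ← mul_assoc q, hpq, mul_assoc, ← mul_assoc p p]
    have hker : 4 ≤ Nat.card sq.ker := by
      have := Nat.card_le_card_of_injective (fun p : Fin 2 × Fin 2 =>
        (⟨(⟨z, hzA⟩ : A) ^ p.1.val * ⟨e, he⟩ ^ p.2.val, mul_mem
          (pow_mem (MonoidHom.mem_ker.mpr (Subtype.ext Z.zz)) _)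
          (pow_mem (MonoidHom.mem_ker.mpr (Subtype.ext he2)) _)⟩ : sq.ker)) (by
          intro p q h
          exact four_injective Z.zz Z.z_ne he1 hez
            (congrArg (fun x : sq.ker => ((x : A) : G)) h))
      rwa [Nat.card_prod, Nat.card_fin] at this
    have hrange : Nat.card sq.range ≤ 2 := by
      have h := sq.ker.card_mul_index
      rw [index_ker, hA8] at h
      by_contra hlt
      have := Nat.mul_le_mul hker (show 3 ≤ Nat.card sq.range by omega)
      omega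
    -- some involution is a square
    obtain ⟨s, hsA, hs2, hssq⟩ : ∃ s ∈ A, orderOf s = 2 ∧ ∃ w ∈ A, w * w = s := by
      have : Fact (Nat.Prime 2) := ⟨Nat.prime_two⟩
      have hx8 := orderOf_dvd_natCard (⟨x, hx⟩ : A)
      rw [orderOf_mk, hA8, show 8 = 2 ^ 3 by norm_num] at hx8
      obtain ⟨k, -, hk⟩ := (Nat.dvd_prime_pow Nat.prime_two).mp hx8
      obtain ⟨k, rfl⟩ : ∃ k', k = k' + 2 := ⟨k - 2, by
        by_contra hlt
        have : k ≤ 1 := by omega
        refine hne ?_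
        rw [← pow_two, ← orderOf_dvd_iff_pow_eq_one, hk]
        exact (pow_dvd_pow 2 this).trans (by norm_num)⟩
      refine ⟨x ^ 2 ^ (k + 1), pow_mem hx _, ?_, x ^ 2 ^ k, pow_mem hx _, ?_⟩
      · rw [orderOf_pow' x (by positivity), hk, Nat.gcd_eq_right (pow_dvd_pow 2 (Nat.le_succ _)),
          Nat.pow_div (Nat.le_succ _) two_pos, show k + 2 - (k + 1) = 1 by omega, pow_one]
      · rw [← pow_add, pow_succ, mul_two]
    have hall : ∀ t ∈ A, orderOf t = 2 → ∀ ht : t ∈ A, (⟨t, ht⟩ : A) ∈ sq.range := by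
      intro t htA ht2 ht
      obtain ⟨g1, hg1, e1⟩ := hconj s hsA hs2
      obtain ⟨g2, hg2, e2⟩ := hconj t htA ht2
      obtain ⟨w, hw, hww⟩ := hssq
      have hgN : g2 * g1⁻¹ ∈ N := mul_mem hg2 (inv_mem hg1)
      refine ⟨⟨g2 * g1⁻¹ * w * (g2 * g1⁻¹)⁻¹, (mem_normalizer_iff.mp hgN.2 w).mp hw⟩, Subtype.ext ?_⟩
      show g2 * g1⁻¹ * w * (g2 * g1⁻¹)⁻¹ * (g2 * g1⁻¹ * w * (g2 * g1⁻¹)⁻¹) = t
      rw [show g2 * g1⁻¹ * w * (g2 * g1⁻¹)⁻¹ * (g2 * g1⁻¹ * w * (g2 * g1⁻¹)⁻¹) =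
        g2 * g1⁻¹ * (w * w) * (g2 * g1⁻¹)⁻¹ by group, hww, ← e1, ← e2]
      group
    have := Nat.card_le_card_of_injective
      (fun i : Fin 3 => (![⟨1, one_mem _⟩, ⟨⟨z, hzA⟩, hall z hzA Z.isZ.1 hzA⟩,
        ⟨⟨e, he⟩, hall e he (orderOf_eq_prime (by rw [pow_two, he2]) he1) he⟩] : Fin 3 → sq.range) i) (by
          intro i j h
          have h' := congrArg (fun x : sq.range => ((x : A) : G)) h
          fin_cases i <;> fin_cases j <;> simp [Z.z_ne, Z.z_ne.symm, he1, he1.symm, hez, hez.symm] at h' ⊢)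
    rw [Nat.card_fin] at this
    omega
  -- an element of order seven in `C(d)`
  have h7 : 7 ∣ Nat.card (cnt1 d) := by
    have hzN : z ∈ N := ⟨mem_cnt1.mpr hdz, le_normalizer hzA⟩
    refine Dvd.dvd.trans ?_ (card_dvd_of_le (inf_le_left : N ≤ cnt1 d))
    refine Dvd.intro (Nat.card ↥(N ⊓ cnt1 z)) ?_
    rw [← class_in_subgroup N hzN]
    congr 1
    have e : Option {g : G // ∃ n ∈ N, n * z * n⁻¹ = g} ≃ A :=
      Equiv.ofBijective (fun o => o.elim 1 fun g => ⟨g.1, by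
        obtain ⟨n, hn, e'⟩ := g.2
        rw [← e']
        exact (mem_normalizer_iff.mp hn.2 z).mp hzA⟩) ⟨by
          have hne : ∀ g : {g : G // ∃ n ∈ N, n * z * n⁻¹ = g}, g.1 ≠ 1 := fun g hg => by
            obtain ⟨n, -, e'⟩ := g.2
            exact Z.z_ne (conj_eq_one_iff.mp (e'.trans hg))
          rintro (_ | g) (_ | g') h
          · rfl
          · exact absurd (congrArg Subtype.val h).symm (hne g')
          · exact absurd (congrArg Subtype.val h) (hne g)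
          · exact congrArg some (Subtype.ext (congrArg Subtype.val h :)), by
          rintro ⟨x, hx⟩
          by_cases h1 : x = 1
          · exact ⟨none, Subtype.ext h1.symm⟩
          · exact ⟨some ⟨x, hconj x hx (orderOf_eq_prime (by rw [pow_two, hsqA x hx]) h1)⟩, rfl⟩⟩
    have := Nat.card_congr e
    rw [Finite.card_option, hA8] at this
    omega
  have : Fact (Nat.Prime 7) := ⟨by norm_num⟩
  have : Fact (Nat.Prime 2) := ⟨Nat.prime_two⟩
  obtain ⟨b, hb⟩ := exists_prime_orderOf_dvd_card' (G := cnt1 d) 7 h7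
  have hb' : orderOf (b : G) = 7 := (orderOf_coe b).trans hb
  have hbd : (b : G) * d = d * b := (mem_cnt1.mp b.2).symm
  obtain ⟨⟨z', hz', hbz'⟩⟩ := (Nat.card_ne_zero.mp
    (by rw [(D.cent_seven _ hb').2.1]; norm_num : commCount (b : G) 2 ≠ 0)).1
  obtain ⟨hcard, hsimp, -⟩ := exists_complement D hb' hd hz' hbd hbz'
  have : Fact (Nat.Prime 3) := ⟨Nat.prime_three⟩
  set L' := cnt1 d ⊓ cnt1 z'
  have hAL : A ≤ L' := fun x hx => by
    rcases eq_or_ne x 1 with rfl | hx1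
    · exact one_mem _
    · exact invol_mem_complement D hb' hd hz' hbd hbz'
        (orderOf_eq_prime (by rw [pow_two, hsqA x hx]) hx1) (mem_cnt1.mp hx.2)
  obtain ⟨T, hT⟩ := (IsPGroup.of_card (n := 3) (show Nat.card (A.subgroupOf L') = 2 ^ 3 by
    rw [Nat.card_congr (subgroupOfEquivOfLe hAL).toEquiv, hA8]; norm_num)).exists_le_sylow
  refine S168.not_isMulCommutative_two hcard T (S168.normalizer_two hcard T) ?_
  rw [← eq_of_le_of_card_ge hT (by
    rw [S168.card_T hcard, Nat.card_congr (subgroupOfEquivOfLe hAL).toEquiv, hA8])]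
  exact ⟨⟨fun p q => Subtype.ext (Subtype.ext (hcomm _ p.2 _ q.2))⟩⟩

end ZData

end Cfsg.Agent.Order244823040
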