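/-
An elementary group of order 64 on which the linear group of order 168 acts without fixed points has an
invariant subgroup of order eight.

Main result (namespace `Cfsg.Agent.Order244823040`): `exists_invariant_eight`.
-/
import Cfsg.Agent.Lib.Order10200960.Tools
import Cfsg.Agent.Lib.SmallOrders.Order168
import Cfsg.Agent.Lib.TransvCent.RecogSetup

set_option autoImplicit false
set_option linter.unusedSectionVars false

open Subgroup Cfsg.Agent.SmallOrders Cfsg.Agent.Order10200960

namespace Cfsg.Agent.Order244823040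

local notation "SL32" => Matrix.SpecialLinearGroup (Fin 3) (ZMod 2)

/-- An element of order seven. -/
def gA : SL32 := ⟨!![0, 0, 1; 1, 0, 1; 0, 1, 0], by decide⟩
/-- An element of order three fixing the first basis vector. -/
def gD : SL32 := ⟨!![1, 0, 0; 0, 0, 1; 0, 1, 1], by decide⟩
/-- An involution fixing the first basis vector. -/
def gU : SL32 := ⟨!![1, 1, 0; 0, 1, 0; 0, 0, 1], by decide⟩
/-- Another involution fixing the first basis vector. -/
def gS : SL32 := ⟨!![1, 0, 0; 0, 0, 1; 0, 1, 0], by decide⟩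
/-- The transpose of `gU`. -/
def gV : SL32 := ⟨!![1, 0, 0; 1, 1, 0; 0, 0, 1], by decide⟩

/-- The elements of the stabiliser of the first basis vector. -/
def stabWord (a b : Fin 2) (k : Fin 3) (c : Fin 2) : SL32 :=
  gU ^ a.val * (gD * gU * (gD * gD)) ^ b.val * gD ^ k.val * gS ^ c.val

def sigA : Fin 7 → Fin 7 := ![1, 2, 3, 4, 5, 6, 0]
def sigU : Fin 7 → Fin 7 := ![0, 3, 2, 1, 5, 4, 6]
def linU : Fin 7 → Fin 7 := ![0, 2, 1, 5, 4, 3, 6]

theorem sigA_check : ∀ i : Fin 7, ∃ a b k c, gA * gA ^ i.val = gA ^ (sigA i).val * stabWord a b k c := by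
  decide +kernel

theorem sigU_check : ∀ i : Fin 7, ∃ a b k c, gU * gA ^ i.val = gA ^ (sigU i).val * stabWord a b k c := by
  decide +kernel

theorem line_checkA : ∀ i : Fin 7, ({sigA i, sigA (i + 1), sigA (i + 3)} : Multiset (Fin 7)) =
    {sigA i, sigA i + 1, sigA i + 3} := by decide +kernel

theorem line_checkU : ∀ i : Fin 7, ({sigU i, sigU (i + 1), sigU (i + 3)} : Multiset (Fin 7)) =
    {linU i, linU i + 1, linU i + 3} := by decide +kernel

theorem concurrent_check : ∀ i : Fin 7,
    ({i, i + 1, i + 3} + {i + 2, i + 3, i + 5} + {i + 3, i + 4, i + 6} : Multiset (Fin 7)) =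
      (Finset.univ : Finset (Fin 7)).val + {i + 3, i + 3} := by decide +kernel

theorem gen_check : ∀ i j : Fin 7, ∀ p q : Fin 4,
    gA ^ i.val * ![1, gU, gU * gA, gU * gA * gU] p = gA ^ j.val * ![1, gU, gU * gA, gU * gA * gU] q →
      i = j ∧ p = q := by decide +kernel

theorem closure_gen : Subgroup.closure ({gA, gU} : Set SL32) = ⊤ := by
  have : IsSimpleGroup SL32 := TransvCent.isSimpleGroup_recogSL32
  by_contra hne
  have hle := S168.card_le TransvCent.natCard_recogSL32 hne
  set H := Subgroup.closure ({gA, gU} : Set SL32)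
  have hA : gA ∈ H := subset_closure (Set.mem_insert _ _)
  have hU : gU ∈ H := subset_closure (Set.mem_insert_of_mem _ rfl)
  have hp : ∀ p : Fin 4, ![1, gU, gU * gA, gU * gA * gU] p ∈ H := fun p => by
    fin_cases p
    exacts [one_mem _, hU, mul_mem hU hA, mul_mem (mul_mem hU hA) hU]
  have := Nat.card_le_card_of_injective
    (fun s : Fin 7 × Fin 4 => (⟨gA ^ s.1.val * ![1, gU, gU * gA, gU * gA * gU] s.2,
      mul_mem (pow_mem hA _) (hp s.2)⟩ : H))
    fun s t e => by
      obtain ⟨e1, e2⟩ := gen_check s.1 t.1 s.2 t.2 (congrArg Subtype.val e)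
      exact Prod.ext e1 e2
  rw [Nat.card_prod, Nat.card_fin, Nat.card_fin] at this
  omega

/-- Inverse transpose. -/
def invT : SL32 →* SL32 :=
  MonoidHom.mk' (fun g => (g⁻¹).transpose) fun g h => Subtype.ext (by
    rw [mul_inv_rev]
    exact Matrix.transpose_mul _ _)

theorem invT_invT (g : SL32) : invT (invT g) = g := by
  have h : invT g = (g⁻¹).transpose := rfl
  have h2 : ∀ m : SL32, m.transpose.transpose = m := fun m => Subtype.ext (Matrix.transpose_transpose _)
  have h3 : ∀ m : SL32, (m⁻¹).transpose * m.transpose = 1 := fun m => Subtype.ext (by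
    show Matrix.transpose _ * Matrix.transpose _ = _
    rw [← Matrix.transpose_mul, ← Matrix.SpecialLinearGroup.coe_mul, mul_inv_cancel]
    simp)
  have h4 : ((g⁻¹).transpose)⁻¹ = g.transpose := inv_eq_of_mul_eq_one_right (h3 g)
  show ((invT g)⁻¹).transpose = g
  rw [h, h4, h2]

theorem invT_gD : invT gD = gD * gD := by decide +kernel
theorem invT_gU : invT gU = gV := by decide +kernel

/-- A nine bit matrix. -/
def bitMat (n : ℕ) : Matrix (Fin 3) (Fin 3) (ZMod 2) :=
  Matrix.of fun i j => (((n >>> (3 * i.val + j.val)) % 2 : ℕ) : ZMod 2)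

theorem exists_bitMat (M : Matrix (Fin 3) (Fin 3) (ZMod 2)) : ∃ n < 512, bitMat n = M := by
  have hlt : ∀ i j, (M i j).val < 2 := fun i j => (M i j).val_lt
  have key : ∀ a b c d e f g h k : Fin 2,
      bitMat (a.val + 2 * b.val + 4 * c.val + 8 * d.val + 16 * e.val + 32 * f.val + 64 * g.val + 128 * h.val +
        256 * k.val) = !![(a.val : ZMod 2), b.val, c.val; d.val, e.val, f.val; g.val, h.val, k.val] := by
    decide +kernel
  refine ⟨(M 0 0).val + 2 * (M 0 1).val + 4 * (M 0 2).val + 8 * (M 1 0).val + 16 * (M 1 1).val +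
    32 * (M 1 2).val + 64 * (M 2 0).val + 128 * (M 2 1).val + 256 * (M 2 2).val, ?_, ?_⟩
  · have := hlt 0 0; have := hlt 0 1; have := hlt 0 2; have := hlt 1 0; have := hlt 1 1; have := hlt 1 2
    have := hlt 2 0; have := hlt 2 1; have := hlt 2 2
    omega
  · refine (key ⟨_, hlt 0 0⟩ ⟨_, hlt 0 1⟩ ⟨_, hlt 0 2⟩ ⟨_, hlt 1 0⟩ ⟨_, hlt 1 1⟩ ⟨_, hlt 1 2⟩ ⟨_, hlt 2 0⟩
      ⟨_, hlt 2 1⟩ ⟨_, hlt 2 2⟩).trans ?_
    ext i j
    fin_cases i <;> fin_cases j <;> simp

/-- The four words. -/
def pairWords {M : Type*} [Monoid M] (d m : M) : List M :=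
  [d * m * (d * d) * (m * m), d * m * d * (m * m), d * (m * m) * (d * d) * m, m * d * m * (d * d) * m]

theorem pair_check : ∀ n ∈ List.range 512,
    bitMat n * bitMat n * bitMat n = 1 → bitMat n ≠ 1 → bitMat n ≠ gD.1 → bitMat n ≠ gD.1 * gD.1 →
      ∃ w ∈ pairWords gD.1 (bitMat n), w = gU.1 ∨ w = gV.1 ∨ (w ≠ 1 ∧ w ^ 7 = 1) := by decide +kernel

section Action

variable {K : Type*} [CommGroup K] [Finite K] (ρ : SL32 →* MulAut K)

/-- The elements fixing a point. -/
def fixer (v : K) : Subgroup SL32 where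
  carrier := {g | ρ g v = v}
  one_mem' := by simp
  mul_mem' {g h} hg hh := by
    simp only [Set.mem_ofPred_eq, _root_.map_mul, MulAut.mul_apply] at hg hh ⊢
    rw [hh, hg]
  inv_mem' {g} hg := by
    simp only [Set.mem_ofPred_eq] at hg ⊢
    have h1 : ρ (g⁻¹ * g) v = v := by simp
    rwa [_root_.map_mul, MulAut.mul_apply, hg] at h1

theorem mem_fixer {g : SL32} {v : K} : g ∈ fixer ρ v ↔ ρ g v = v := Iff.rfl

variable (hsq : ∀ k : K, k * k = 1) (hA : ∀ g : SL32, orderOf g = 7 → ∀ k, ρ g k = k → k = 1)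
include hsq hA

theorem exists_invariant_of_fixed {v : K} (hv : v ≠ 1) (hD : gD ∈ fixer ρ v) (hU : gU ∈ fixer ρ v) :
    ∃ W : Subgroup K, Nat.card W = 8 ∧ ∀ g, ∀ w ∈ W, ρ g w ∈ W := by
  classical
  have hA7 : orderOf gA = 7 := by
    have : Fact (Nat.Prime 7) := ⟨by norm_num⟩
    exact orderOf_eq_prime (by decide +kernel) (by decide +kernel)
  -- a point fixed by the whole stabiliser
  obtain ⟨v', hv', hfix⟩ : ∃ v' : K, v' ≠ 1 ∧ ∀ a b k c, stabWord a b k c ∈ fixer ρ v' := by
    have hword : ∀ x : K, gD ∈ fixer ρ x → gU ∈ fixer ρ x → gS ∈ fixer ρ x → ∀ a b k c,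
        stabWord a b k c ∈ fixer ρ x := fun x h1 h2 h3 a b k c =>
      mul_mem (mul_mem (mul_mem (pow_mem h2 _) (pow_mem (mul_mem (mul_mem h1 h2) (mul_mem h1 h1)) _))
        (pow_mem h1 _)) (pow_mem h3 _)
    by_cases hs : gS ∈ fixer ρ v
    · exact ⟨v, hv, hword v hD hU hs⟩
    refine ⟨v * ρ gS v, fun e => hs ?_, hword _ ?_ ?_ ?_⟩
    · rw [mem_fixer]
      exact (eq_inv_of_mul_eq_one_right e).trans (inv_eq_of_mul_eq_one_right (hsq v))
    · rw [mem_fixer, _root_.map_mul, (mem_fixer ρ).mp hD, ← MulAut.mul_apply, ← _root_.map_mul,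
        show gD * gS = gS * (gD * gD) by decide +kernel, _root_.map_mul, MulAut.mul_apply,
        (mem_fixer ρ).mp (mul_mem hD hD)]
    · rw [mem_fixer, _root_.map_mul, (mem_fixer ρ).mp hU, ← MulAut.mul_apply, ← _root_.map_mul,
        show gU * gS = gS * (gU * (gD * gU * (gD * gD))) by decide +kernel, _root_.map_mul, MulAut.mul_apply,
        (mem_fixer ρ).mp (mul_mem hU (mul_mem (mul_mem hD hU) (mul_mem hD hD)))]
    · rw [mem_fixer, _root_.map_mul, ← MulAut.mul_apply, ← _root_.map_mul,
        show gS * gS = 1 by decide +kernel, _root_.map_one, MulAut.one_apply, mul_comm]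
  set f : Fin 7 → K := fun i => ρ (gA ^ i.val) v' with hf
  have hgf : ∀ (g : SL32) (σ : Fin 7 → Fin 7), (∀ i : Fin 7, ∃ a b k c, g * gA ^ i.val =
      gA ^ (σ i).val * stabWord a b k c) → ∀ i, ρ g (f i) = f (σ i) := by
    intro g σ hσ i
    obtain ⟨a, b, k, c, e⟩ := hσ i
    show ρ g (ρ (gA ^ i.val) v') = _
    rw [← MulAut.mul_apply, ← _root_.map_mul, e, _root_.map_mul, MulAut.mul_apply, (mem_fixer ρ).mp (hfix a b k c)]
  have hfA := hgf gA sigA sigA_check
  have hfU := hgf gU sigU sigU_check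
  set w : Fin 7 → K := fun i => f i * f (i + 1) * f (i + 3) with hw
  have hprod : ∀ i, w i = (({i, i + 1, i + 3} : Multiset (Fin 7)).map f).prod := fun i => by
    simp [hw, mul_assoc]
  have hgw : ∀ (g : SL32) (σ π : Fin 7 → Fin 7), (∀ i, ρ g (f i) = f (σ i)) →
      (∀ i : Fin 7, ({σ i, σ (i + 1), σ (i + 3)} : Multiset (Fin 7)) = {π i, π i + 1, π i + 3}) →
      ∀ i, ρ g (w i) = w (π i) := by
    intro g σ π h1 h2 i
    rw [hprod (π i), ← h2 i]
    simp [hw, h1, mul_assoc]
  have hwA := hgw gA sigA sigA hfA line_checkA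
  have hwU := hgw gU sigU linU hfU line_checkU
  have hsigA : ∀ i : Fin 7, sigA i = i + 1 := by decide
  have htot : ∏ i, f i = 1 := by
    refine hA gA hA7 _ ?_
    rw [map_prod]
    refine Fintype.prod_bijective sigA ?_ _ _ hfA
    decide
  have hconc : ∀ i, w i * w (i + 2) * w (i + 3) = 1 := by
    intro i
    have h := congrArg (fun s : Multiset (Fin 7) => (s.map f).prod) (concurrent_check i)
    simp only [Multiset.map_add, Multiset.prod_add] at h
    rw [show ((Finset.univ : Finset (Fin 7)).val.map f).prod = ∏ i, f i from rfl, htot, one_mul] at h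
    rw [hprod i, hprod (i + 2), hprod (i + 3), show i + 2 + 1 = i + 3 by rw [add_assoc]; rfl, show i + 2 + 3 = i + 5 by rw [add_assoc]; rfl,
      show i + 3 + 1 = i + 4 by rw [add_assoc]; rfl, show i + 3 + 3 = i + 6 by rw [add_assoc]; rfl, h]
    simp [hsq]
  -- a sequence closed under the group and spanned by three terms
  obtain ⟨φ, π, hφ1, hφA, hφU, hrec⟩ : ∃ (φ : Fin 7 → K) (π : Fin 7 → Fin 7), (∃ i, φ i ≠ 1) ∧
      (∀ i, ρ gA (φ i) = φ (i + 1)) ∧ (∀ i, ρ gU (φ i) = φ (π i)) ∧
      ∀ i, ∃ j ∈ ({i, i + 1, i + 2} : Finset (Fin 7)), ∃ k ∈ ({i, i + 1, i + 2} : Finset (Fin 7)),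
        φ (i + 3) = φ j * φ k := by
    by_cases h0 : ∀ i, w i = 1
    · refine ⟨f, sigU, ⟨0, by simpa [hf] using hv'⟩, fun i => (hfA i).trans (by rw [hsigA]), hfU,
        fun i => ⟨i, by simp, i + 1, by simp, ?_⟩⟩
      have h := h0 i
      rw [hw] at h
      exact (eq_inv_of_mul_eq_one_right h).trans (inv_eq_of_mul_eq_one_right (hsq _))
    · push Not at h0
      refine ⟨w, linU, h0, fun i => (hwA i).trans (by rw [hsigA]), hwU,
        fun i => ⟨i, by simp, i + 2, by simp, ?_⟩⟩
      exact (eq_inv_of_mul_eq_one_right (hconc i)).trans (inv_eq_of_mul_eq_one_right (hsq _))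
  set W : Subgroup K := Subgroup.closure (Set.range φ) with hW
  have hinv : ∀ g, ∀ x ∈ W, ρ g x ∈ W := by
    let H : Subgroup SL32 :=
      { carrier := {g | W.map (ρ g).toMonoidHom = W}
        one_mem' := by
          show W.map (ρ 1).toMonoidHom = W
          convert Subgroup.map_id W
          ext x
          simp
        mul_mem' := fun {g h} (hg : W.map _ = W) (hh : W.map _ = W) => by
          show W.map (ρ (g * h)).toMonoidHom = W
          conv_rhs => rw [← hg, ← hh]
          rw [Subgroup.map_map]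
          congr 1
          ext x
          simp
        inv_mem' := fun {g} (hg : W.map _ = W) => by
          show W.map (ρ g⁻¹).toMonoidHom = W
          conv_lhs => rw [← hg]
          rw [Subgroup.map_map]
          convert Subgroup.map_id W
          ext x
          show ρ g⁻¹ (ρ g x) = x
          rw [← MulAut.mul_apply, ← _root_.map_mul, inv_mul_cancel, _root_.map_one, MulAut.one_apply] }
    have hgen : ∀ (g : SL32) (σ : Fin 7 → Fin 7), (∀ i, ρ g (φ i) = φ (σ i)) → g ∈ H := fun g σ h => by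
      show W.map (ρ g).toMonoidHom = W
      refine eq_of_le_of_card_ge ?_ (le_of_eq (Nat.card_congr
        (W.equivMapOfInjective _ (ρ g).injective).toEquiv))
      rw [hW, MonoidHom.map_closure, closure_le]
      rintro _ ⟨_, ⟨i, rfl⟩, rfl⟩
      exact subset_closure ⟨σ i, (h i).symm⟩
    have hH : H = ⊤ := top_le_iff.mp (closure_gen ▸ (closure_le H).mpr (by
      rintro g (rfl | rfl)
      exacts [hgen _ _ hφA, hgen _ _ hφU]))
    intro g x hx
    have hg : W.map (ρ g).toMonoidHom = W := (hH ▸ mem_top g : g ∈ H)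
    exact hg ▸ mem_map_of_mem _ hx
  refine ⟨W, le_antisymm ?_ ?_, hinv⟩
  · let P := (zpowers (φ 0)).subtype.coprod ((zpowers (φ 1)).subtype.coprod (zpowers (φ 2)).subtype)
    have h0 : φ 0 ∈ P.range := ⟨(⟨φ 0, mem_zpowers _⟩, 1, 1), by simp [P]⟩
    have h1 : φ 1 ∈ P.range := ⟨(1, ⟨φ 1, mem_zpowers _⟩, 1), by simp [P]⟩
    have h2 : φ 2 ∈ P.range := ⟨(1, 1, ⟨φ 2, mem_zpowers _⟩), by simp [P]⟩
    have hall : ∀ i : ℕ, φ (Fin.ofNat 7 i) ∈ P.range := by
      intro i
      induction i using Nat.strong_induction_on with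
      | _ i ih =>
        match i, ih with
        | 0, _ => exact h0
        | 1, _ => exact h1
        | 2, _ => exact h2
        | n + 3, ih =>
          obtain ⟨j, hj, k, hk, e⟩ := hrec (Fin.ofNat 7 n)
          have hm : ∀ j ∈ ({Fin.ofNat 7 n, Fin.ofNat 7 n + 1, Fin.ofNat 7 n + 2} : Finset (Fin 7)),
              φ j ∈ P.range := by
            intro j hj
            simp only [Finset.mem_insert, Finset.mem_singleton] at hj
            rcases hj with rfl | rfl | rfl
            · exact ih n (by omega)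
            · rw [show Fin.ofNat 7 n + 1 = Fin.ofNat 7 (n + 1) from Fin.ext (by simp [Fin.val_add])]
              exact ih (n + 1) (by omega)
            · rw [show Fin.ofNat 7 n + 2 = Fin.ofNat 7 (n + 2) from Fin.ext (by simp [Fin.val_add])]
              exact ih (n + 2) (by omega)
          rw [show Fin.ofNat 7 (n + 3) = Fin.ofNat 7 n + 3 from Fin.ext (by simp [Fin.val_add]), e]
          exact mul_mem (hm j hj) (hm k hk)
    have hle : W ≤ P.range := (closure_le _).mpr (by
      rintro _ ⟨i, rfl⟩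
      simpa using hall i.val)
    refine (card_le_of_le hle).trans ((Nat.card_le_card_of_surjective _ P.rangeRestrict_surjective).trans ?_)
    rw [Nat.card_prod, Nat.card_prod, Nat.card_zpowers, Nat.card_zpowers, Nat.card_zpowers]
    have h : ∀ x : K, orderOf x ≤ 2 := fun x => orderOf_le_of_pow_eq_one two_pos (by rw [pow_two, hsq])
    exact Nat.mul_le_mul (h _) (Nat.mul_le_mul (h _) (h _))
  · obtain ⟨i, hi⟩ := hφ1
    have hinj : Function.Injective (fun o : Option (Fin 7) => (o.elim (1 : W) fun j =>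
        ⟨ρ (gA ^ j.val) (φ i), hinv _ _ (subset_closure ⟨i, rfl⟩)⟩)) := by
      have hne : ∀ j : Fin 7, ρ (gA ^ j.val) (φ i) ≠ 1 := fun j e => hi ((ρ (gA ^ j.val)).map_eq_one_iff.mp e)
      rintro (_ | j) (_ | k) e
      · rfl
      · exact absurd (congrArg Subtype.val e).symm (hne k)
      · exact absurd (congrArg Subtype.val e) (hne j)
      · have e' : ρ (gA ^ j.val) (φ i) = ρ (gA ^ k.val) (φ i) := congrArg Subtype.val e
        congr 1
        by_contra hjk
        have hmem : (gA ^ k.val)⁻¹ * gA ^ j.val ∈ fixer ρ (φ i) := by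
          rw [mem_fixer, _root_.map_mul, MulAut.mul_apply, e', ← MulAut.mul_apply, ← _root_.map_mul,
            inv_mul_cancel, _root_.map_one, MulAut.one_apply]
        refine hi (hA _ ?_ _ ((mem_fixer ρ).mp hmem))
        have : Fact (Nat.Prime 7) := ⟨by norm_num⟩
        refine orderOf_eq_prime ?_ fun e => hjk (Fin.ext ?_)
        · rw [((Commute.refl gA).pow_pow _ _).inv_left.mul_pow, inv_pow, ← pow_mul, ← pow_mul, mul_comm k.val,
            mul_comm j.val, pow_mul, pow_mul,
            show gA ^ 7 = 1 by decide +kernel, one_pow, one_pow, inv_one, one_mul]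
        · rw [inv_mul_eq_one, pow_inj_mod, hA7, Nat.mod_eq_of_lt k.2, Nat.mod_eq_of_lt j.2] at e
          exact e.symm
    have := Nat.card_le_card_of_injective _ hinj
    rwa [Finite.card_option, Nat.card_fin] at this

end Action

theorem exists_invariant_eight {K : Type*} [CommGroup K] [Finite K] (ρ : SL32 →* MulAut K)
    (hsq : ∀ k : K, k * k = 1) (hcard : Nat.card K = 64)
    (hA : ∀ g : SL32, orderOf g = 7 → ∀ k, ρ g k = k → k = 1)
    (hD : ∀ g : SL32, orderOf g = 3 → Nat.card {k // ρ g k = k} = 4) :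
    ∃ W : Subgroup K, Nat.card W = 8 ∧ ∀ g, ∀ w ∈ W, ρ g w ∈ W := by
  classical
  have : IsSimpleGroup SL32 := TransvCent.isSimpleGroup_recogSL32
  have h168 := TransvCent.natCard_recogSL32
  have : Fact (Nat.Prime 7) := ⟨by norm_num⟩
  have : Fact (Nat.Prime 3) := ⟨Nat.prime_three⟩
  have : Fact (Nat.Prime 2) := ⟨Nat.prime_two⟩
  have hgen : ∀ P : Sylow 3 SL32, ∃ x : SL32, orderOf x = 3 ∧ (P : Subgroup SL32) = zpowers x := fun P => by
    obtain ⟨x, hx⟩ := exists_prime_orderOf_dvd_card' (G := (P : Subgroup SL32)) 3 (by rw [S168.card_Q h168])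
    refine ⟨x, (orderOf_coe x).trans hx, (eq_of_le_of_card_ge (zpowers_le.mpr x.2) ?_).symm⟩
    rw [S168.card_Q h168, Nat.card_zpowers, orderOf_coe, hx]
  choose x hx hxP using hgen
  -- two subgroups of order three fix a common point
  obtain ⟨P, P', k, hPP', hk1, hk, hk'⟩ : ∃ (P P' : Sylow 3 SL32) (k : K), P ≠ P' ∧ k ≠ 1 ∧
      ρ (x P) k = k ∧ ρ (x P') k = k := by
    by_contra hno
    push Not at hno
    have hinj : Function.Injective (fun s : (Σ P : Sylow 3 SL32, {k : K // k ≠ 1 ∧ ρ (x P) k = k}) =>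
        (⟨s.2.1, s.2.2.1⟩ : {k : K // k ≠ 1})) := by
      rintro ⟨P, k, h1, h2⟩ ⟨P', k', h1', h2'⟩ e
      obtain rfl : k = k' := congrArg Subtype.val e
      obtain rfl : P = P' := by
        by_contra hne
        exact hno P P' k hne h1 h2 h2'
      rfl
    have hle := Nat.card_le_card_of_injective _ hinj
    have := Fintype.ofFinite (Sylow 3 SL32)
    have hthree : ∀ P : Sylow 3 SL32, Nat.card {k : K // k ≠ 1 ∧ ρ (x P) k = k} = 3 := fun P => by
      have e : Option {k : K // k ≠ 1 ∧ ρ (x P) k = k} ≃ {k : K // ρ (x P) k = k} :=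
        { toFun := fun o => o.elim ⟨1, map_one _⟩ fun k => ⟨k.1, k.2.2⟩
          invFun := fun k => if h : k.1 = 1 then none else some ⟨k.1, h, k.2⟩
          left_inv := by
            rintro (_ | k)
            · simp
            · simp [k.2.1]
          right_inv := fun k => by
            by_cases h : k.1 = 1
            · simp [h]
              exact Subtype.ext h.symm
            · simp [h] }
      have h := Nat.card_congr e
      rw [hD _ (hx P), Finite.card_option] at h
      omega
    have e63 : Option {k : K // k ≠ 1} ≃ K :=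
      { toFun := fun o => o.elim 1 Subtype.val
        invFun := fun k => if h : k = 1 then none else some ⟨k, h⟩
        left_inv := by
          rintro (_ | k)
          · simp
          · simp [k.2]
        right_inv := fun k => by by_cases h : k = 1 <;> simp [h] }
    have h := Nat.card_congr e63
    rw [hcard, Finite.card_option] at h
    rw [Nat.card_sigma, Finset.sum_congr rfl fun P _ => hthree P, Finset.sum_const, smul_eq_mul,
      Finset.card_univ, ← Nat.card_eq_fintype_card, S168.card_sylow_three h168] at hle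
    omega
  have hfac : ∀ Q : Sylow 3 SL32, Nat.card (Q : Subgroup SL32) = 3 := S168.card_Q h168
  have hgD : orderOf gD = 3 := orderOf_eq_prime (by decide +kernel) (by decide +kernel)
  obtain ⟨u, hu⟩ := exists_conj_zpowers hfac (hx P) hgD
  set v := ρ u k with hv
  have hv1 : v ≠ 1 := fun e => hk1 ((ρ u).map_eq_one_iff.mp e)
  have hconj : ∀ y : SL32, ρ y k = k → u * y * u⁻¹ ∈ fixer ρ v := fun y hy => by
    rw [mem_fixer, hv, ← MulAut.mul_apply, ← _root_.map_mul, inv_mul_cancel_right, _root_.map_mul, MulAut.mul_apply, hy]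
  have hDv : gD ∈ fixer ρ v := by
    have : zpowers (u * x P * u⁻¹) ≤ fixer ρ v := zpowers_le.mpr (hconj _ hk)
    exact this (hu ▸ mem_zpowers gD)
  set m := u * x P' * u⁻¹ with hm
  have hmv : m ∈ fixer ρ v := hconj _ hk'
  have hm3 : orderOf m = 3 := (orderOf_injective (MulAut.conj u).toMonoidHom (MulEquiv.injective _) (x P')).trans (hx P')
  have hmD : m ∉ zpowers gD := fun hmem => hPP' (Sylow.ext (by
    rw [← hu, hm, ← MulAut.conj_apply, ← MulAut.conj_apply, ← MulEquiv.coe_toMonoidHom, ← MonoidHom.map_zpowers,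
      Subgroup.mem_map] at hmem
    obtain ⟨y, hy, e⟩ := hmem
    have e' : y = x P' := (MulAut.conj u).injective (by rw [← MulEquiv.coe_toMonoidHom]; exact e)
    rw [hxP, hxP]
    exact (eq_of_le_of_card_ge (zpowers_le.mpr (e' ▸ hy)) (by rw [Nat.card_zpowers, Nat.card_zpowers, hx, hx])).symm))
  obtain ⟨n, hn, hnm⟩ := exists_bitMat m.1
  have hc := pair_check n (List.mem_range.mpr hn)
  rw [hnm] at hc
  obtain ⟨w, hw, hw'⟩ := hc
    (by
      have e : m ^ 3 = 1 := orderOf_dvd_iff_pow_eq_one.mp (dvd_of_eq hm3)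
      rw [pow_three, ← mul_assoc] at e
      simpa only [Matrix.SpecialLinearGroup.coe_mul, Matrix.SpecialLinearGroup.coe_one] using congrArg Subtype.val e)
    (fun e => by rw [(Subtype.ext e : m = 1), orderOf_one] at hm3; omega)
    (fun e => hmD (by rw [(Subtype.ext e : m = gD)]; exact mem_zpowers _))
    (fun e => hmD (by
      have e' : m = gD * gD := Subtype.ext (by rw [Matrix.SpecialLinearGroup.coe_mul]; exact e)
      rw [e']; exact mul_mem (mem_zpowers _) (mem_zpowers _)))
  obtain ⟨g, hg, hgw⟩ : ∃ g ∈ fixer ρ v, g.1 = w := by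
    simp only [pairWords, List.mem_cons, List.not_mem_nil, or_false] at hw
    rcases hw with rfl | rfl | rfl | rfl
    · exact ⟨gD * m * (gD * gD) * (m * m), mul_mem (mul_mem (mul_mem hDv hmv) (mul_mem hDv hDv)) (mul_mem hmv hmv),
        by simp only [Matrix.SpecialLinearGroup.coe_mul]⟩
    · exact ⟨gD * m * gD * (m * m), mul_mem (mul_mem (mul_mem hDv hmv) hDv) (mul_mem hmv hmv),
        by simp only [Matrix.SpecialLinearGroup.coe_mul]⟩
    · exact ⟨gD * (m * m) * (gD * gD) * m, mul_mem (mul_mem (mul_mem hDv (mul_mem hmv hmv)) (mul_mem hDv hDv)) hmv,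
        by simp only [Matrix.SpecialLinearGroup.coe_mul]⟩
    · exact ⟨m * gD * m * (gD * gD) * m,
        mul_mem (mul_mem (mul_mem (mul_mem hmv hDv) hmv) (mul_mem hDv hDv)) hmv,
        by simp only [Matrix.SpecialLinearGroup.coe_mul]⟩
  subst hgw
  rcases hw' with e | e | ⟨e1, e7⟩
  · exact exists_invariant_of_fixed ρ hsq hA hv1 hDv ((Subtype.ext e : g = gU) ▸ hg)
  · obtain ⟨W, hW, hWi⟩ := exists_invariant_of_fixed (ρ.comp invT) hsq
      (fun g hg' k hk => hA (invT g) ((orderOf_injective invT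
        (Function.LeftInverse.injective invT_invT) g).trans hg') k hk)
      hv1 (by rw [mem_fixer, MonoidHom.comp_apply, invT_gD]; exact (mem_fixer ρ).mp (mul_mem hDv hDv))
      (by rw [mem_fixer, MonoidHom.comp_apply, invT_gU]; exact (mem_fixer ρ).mp ((Subtype.ext e : g = gV) ▸ hg))
    refine ⟨W, hW, fun g w hw => ?_⟩
    have := hWi (invT g) w hw
    rwa [MonoidHom.comp_apply, invT_invT] at this
  · refine absurd (hA g (orderOf_eq_prime (Subtype.ext (by simpa using e7)) fun h => e1 (congrArg Subtype.val h)) v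
      ((mem_fixer ρ).mp hg)) hv1

end Cfsg.Agent.Order244823040
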