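/-
A normal subgroup of order sixteen in the centraliser of a `Z`-involution.

Main results (namespace `Cfsg.Agent.Order244823040`): `sl_iso`, `EData`, `ZData.exists_EData`.
-/
import Cfsg.Agent.Lib.Order244823040.Core
import Cfsg.Agent.Lib.Order244823040.Module
import Cfsg.Agent.Lib.PGroup.Basic
import Cfsg.Agent.Lib.Linear.PSLTwoSmall
import Cfsg.Agent.S0495

set_option autoImplicit false
set_option linter.unusedSectionVars false
set_option linter.style.haveILetI false

open Subgroup Cfsg.Agent.SameOrder Cfsg.Agent.SmallOrders Cfsg.Agent.Order10200960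

namespace Cfsg.Agent.Order244823040

local notation "SL32" => Matrix.SpecialLinearGroup (Fin 3) (ZMod 2)

/-- A simple group of order 168 is the special linear group of degree three over two elements. -/
theorem sl_iso {S : Type*} [Group S] [Finite S] [IsSimpleGroup S] (h : Nat.card S = 168) :
    Nonempty (S ≃* SL32) := by
  have : Fact (Nat.Prime 7) := ⟨by norm_num⟩
  have : Fact (Nat.Prime 2) := ⟨Nat.prime_two⟩
  obtain ⟨e₁⟩ := S0495.result h (F := ZMod 7) (ZMod.card 7)
  obtain ⟨e₂⟩ := Linear.nonempty_pslTwo_seven (F := ZMod 7) (K := ZMod 2) (ZMod.card 7) (ZMod.card 2)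
  have hP : Nat.card (Matrix.ProjectiveSpecialLinearGroup (Fin 3) (ZMod 2)) = 168 :=
    (Nat.card_congr (e₁.trans e₂).toEquiv).symm.trans h
  have e₃ : SL32 ≃* Matrix.ProjectiveSpecialLinearGroup (Fin 3) (ZMod 2) :=
    MulEquiv.ofBijective (QuotientGroup.mk' _) ((Nat.bijective_iff_surjective_and_card _).2
      ⟨QuotientGroup.mk'_surjective _, TransvCent.natCard_recogSL32.trans hP.symm⟩)
  exact ⟨(e₁.trans e₂).trans e₃.symm⟩

/-- The normal subgroup of order sixteen. -/
structure EData {G : Type*} [Group G] (z : G) (Q E : Subgroup G) : Prop where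
  le : E ≤ Q
  z_mem : z ∈ E
  card : Nat.card E = 16
  norm : ∀ h ∈ cnt1 z, ∀ e ∈ E, h * e * h⁻¹ ∈ E
  central : ∃ e ∈ E, e ≠ 1 ∧ e ≠ z ∧ ∀ q ∈ Q, q * e * q⁻¹ * e⁻¹ = 1 ∨ q * e * q⁻¹ * e⁻¹ = z

variable {G : Type*} [Group G] [Finite G]

/-- An element of odd order commuting modulo `z` commutes. -/
theorem fix_mod {z : G} (hz : orderOf z = 2) {x y : cnt1 z} (hx : Odd (orderOf (x : G)))
    (h : zmk z x * zmk z y = zmk z y * zmk z x) : (x : G) * y = y * x := by
  have hxz : (x : G) * z = z * x := (mem_cnt1.mp x.2).symm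
  have hyz : (y : G) * z = z * y := (mem_cnt1.mp y.2).symm
  refine comm_of_odd hx hxz (mul_self_of_two hz) ?_
  rcases zmk_eq_one hz (x := x * y * x⁻¹ * y⁻¹) (by
    rw [_root_.map_mul, _root_.map_mul, _root_.map_mul, map_inv, map_inv, h, mul_inv_cancel_right,
      mul_inv_cancel]) with e | e
  · left
    exact mul_inv_eq_one.mp (by simpa using e)
  · right
    have e' : (x : G) * y * (x : G)⁻¹ * (y : G)⁻¹ = z := by simpa using e
    rw [hyz]
    exact mul_inv_eq_iff_eq_mul.mp e'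

namespace ZData

variable {z a : G} {Q L : Subgroup G} (Z : ZData z a Q L)
include Z

theorem normal_subgroupOf : (Q.subgroupOf (cnt1 z)).Normal :=
  ⟨fun n hn g => mem_subgroupOf.mpr (Z.normQ g g.2 n hn)⟩

theorem exists_EData (D : OrderData G) : ∃ E : Subgroup G, EData z Q E := by
  classical
  have := Z.simple_L
  have : Fact (Nat.Prime 2) := ⟨Nat.prime_two⟩
  have haz : a * z = z * a := Z.comm_z (Z.L_le Z.a_mem)
  set H := cnt1 z with hH
  set π := zmk z with hπ
  obtain ⟨hX, -, hXcard⟩ := selfCent_mod_z D Z.isZ Z.ord_a haz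
  have := Z.normal_subgroupOf
  set Qs : Subgroup H := Q.subgroupOf H with hQs
  set K : Subgroup (H ⧸ zpowers (zH z)) := Qs.map π with hK
  have hKn : K.Normal := (inferInstance : Qs.Normal).map _ (QuotientGroup.mk'_surjective _)
  have hcomap : K.comap π = Qs := by
    rw [hK, comap_map_eq, sup_eq_left, QuotientGroup.ker_mk', zpowers_le]
    exact mem_subgroupOf.mpr Z.z_mem
  have hzo : Nat.card (zpowers (zH z)) = 2 := by
    rw [Nat.card_zpowers, zH, orderOf_mk, Z.isZ.1]
  have hQs128 : Nat.card Qs = 128 := by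
    rw [hQs, Nat.card_congr (subgroupOfEquivOfLe Z.Q_le).toEquiv, Z.card_Q]
  have hK64 : Nat.card K = 64 := by
    have := card_comap_mk (zpowers (zH z)) K
    rw [hcomap, hQs128, hzo] at this
    exact Nat.eq_of_mul_eq_mul_right two_pos (this.symm.trans (by norm_num))
  have hKp : IsPGroup 2 K := IsPGroup.of_card (n := 6) (hK64.trans (by norm_num))
  have hmem : ∀ {q : H}, π q ∈ K → (q : G) ∈ Q := fun {q} hq => by
    have : q ∈ K.comap π := hq
    rw [hcomap] at this
    exact this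
  -- a normal subgroup of order eight gives the required one
  have lift : ∀ W : Subgroup (H ⧸ zpowers (zH z)), W.Normal → W ≤ K → Nat.card W = 8 →
      ∃ E : Subgroup G, EData z Q E := by
    intro W hWn hWK hW8
    have hEm : ∀ {e : G}, e ∈ (W.comap π).map H.subtype ↔ ∃ he : e ∈ H, π ⟨e, he⟩ ∈ W := fun {e} =>
      ⟨by rintro ⟨w, hw, rfl⟩; exact ⟨w.2, hw⟩, fun ⟨he, h⟩ => ⟨⟨e, he⟩, h, rfl⟩⟩
    refine ⟨(W.comap π).map H.subtype, ⟨?_, ?_, ?_, ?_, ?_⟩⟩
    · rintro _ ⟨w, hw, rfl⟩
      exact hmem (hWK hw)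
    · exact hEm.mpr ⟨(zH z).2, by
        rw [show π ⟨z, (zH z).2⟩ = 1 from (QuotientGroup.eq_one_iff _).mpr (mem_zpowers (zH z))]
        exact one_mem _⟩
    · rw [← Nat.card_congr ((W.comap π).equivMapOfInjective _ H.subtype_injective).toEquiv, card_comap_mk,
        hW8, hzo]
    · intro h hh e he
      obtain ⟨he', hW⟩ := hEm.mp he
      refine hEm.mpr ⟨mul_mem (mul_mem hh he') (inv_mem hh), ?_⟩
      exact hWn.conj_mem _ hW (π ⟨h, hh⟩)
    · have hWsub : (W.subgroupOf K).Normal := ⟨fun n hn g => mem_subgroupOf.mpr (hWn.conj_mem _ hn g)⟩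
      have hne : W.subgroupOf K ≠ ⊥ := fun e => by
        have h := Nat.card_congr (subgroupOfEquivOfLe hWK).toEquiv
        rw [e, card_bot, hW8] at h
        omega
      obtain ⟨w, hw, hw1⟩ : ∃ w : K, w ∈ W.subgroupOf K ⊓ center K ∧ w ≠ 1 := by
        by_contra hno
        push Not at hno
        exact PGroup.inf_center_ne_bot hKp hne (eq_bot_iff.mpr fun x hx => mem_bot.mpr (hno x hx))
      obtain ⟨e, he⟩ := QuotientGroup.mk'_surjective (zpowers (zH z)) (w : H ⧸ zpowers (zH z))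
      change π e = _ at he
      have heW : π e ∈ W := he ▸ mem_subgroupOf.mp hw.1
      refine ⟨e, hEm.mpr ⟨e.2, heW⟩, fun h1 => ?_, fun h1 => ?_, fun q hq => ?_⟩
      · refine hw1 (Subtype.ext ?_)
        rw [← he, show e = 1 from Subtype.ext h1, _root_.map_one, OneMemClass.coe_one]
      · refine hw1 (Subtype.ext ?_)
        rw [← he, show e = zH z from Subtype.ext h1, OneMemClass.coe_one]
        exact (QuotientGroup.eq_one_iff _).mpr (mem_zpowers (zH z))
      · have hqK : π ⟨q, Z.Q_le hq⟩ ∈ K := mem_map_of_mem π (mem_subgroupOf.mpr hq)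
        have hc : π ⟨q, Z.Q_le hq⟩ * π e = π e * π ⟨q, Z.Q_le hq⟩ := by
          have := congrArg Subtype.val (mem_center_iff.mp hw.2 ⟨_, hqK⟩)
          simpa [he] using this
        simpa using zmk_eq_one Z.isZ.1 (x := ⟨q, Z.Q_le hq⟩ * e * ⟨q, Z.Q_le hq⟩⁻¹ * e⁻¹) (by
          rw [_root_.map_mul, _root_.map_mul, _root_.map_mul, map_inv, map_inv, hc, mul_inv_cancel_right,
            mul_inv_cancel])
  -- the possible orders of normal subgroups inside `K`
  have hsize : ∀ S : Subgroup (H ⧸ zpowers (zH z)), S.Normal → S ≤ K → S ≠ ⊥ →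
      Nat.card S = 8 ∨ S = K := by
    intro S hSn hSK hS1
    have hd : Nat.card S ∣ 2 ^ 6 := by
      have := card_dvd_of_le hSK
      rwa [hK64, show 64 = 2 ^ 6 by norm_num] at this
    obtain ⟨i, hi, hSc⟩ := (Nat.dvd_prime_pow Nat.prime_two).mp hd
    have hmod := hX.modEq_one S (fun h7 => by
      have := h7.trans hd
      norm_num at this) fun s hs => hSn.conj_mem s hs _
    have hne1 : Nat.card S ≠ 1 := fun h => hS1 (eq_bot_of_card_eq S h)
    rw [hSc] at hmod hne1 ⊢
    interval_cases i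
    all_goals first
      | exact Or.inl rfl
      | exact absurd rfl hne1
      | (norm_num at hmod; done)
      | exact Or.inr (eq_of_le_of_card_ge hSK (by rw [hK64, hSc]; norm_num))
  have hKne : K ≠ ⊥ := fun e => by rw [e, card_bot] at hK64; omega
  have : Nontrivial K := (nontrivial_iff_ne_bot K).mpr hKne
  have hcen := hKp.center_nontrivial
  rcases hsize ((center K).map K.subtype) inferInstance (map_subtype_le _) (fun e => by
      rw [Subgroup.map_eq_bot_iff_of_injective _ K.subtype_injective] at e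
      exact (nontrivial_iff_ne_bot _).mp hcen e) with h | h
  · exact lift _ inferInstance (map_subtype_le _) h
  -- `K` is abelian
  have hab : ∀ x ∈ K, ∀ y ∈ K, x * y = y * x := by
    intro x hx y hy
    obtain ⟨⟨x', hx'K⟩, hxc, rfl⟩ := h.symm ▸ hx
    exact congrArg Subtype.val (mem_center_iff.mp hxc ⟨y, hy⟩).symm
  let Ω : Subgroup (H ⧸ zpowers (zH z)) :=
    { carrier := {k | k ∈ K ∧ k * k = 1}
      one_mem' := ⟨one_mem _, one_mul 1⟩
      mul_mem' := fun {x y} hx hy => ⟨mul_mem hx.1 hy.1, by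
        rw [mul_assoc, ← mul_assoc y, hab y hy.1 x hx.1, mul_assoc x y, hy.2, mul_one, hx.2]⟩
      inv_mem' := fun {x} hx => ⟨inv_mem hx.1, by rw [← mul_inv_rev, hx.2, inv_one]⟩ }
  have hΩn : Ω.Normal := ⟨fun k hk g => ⟨hKn.conj_mem k hk.1 g, by
    rw [show g * k * g⁻¹ * (g * k * g⁻¹) = g * (k * k) * g⁻¹ by group, hk.2, mul_one, mul_inv_cancel]⟩⟩
  rcases hsize Ω hΩn (fun k hk => hk.1) (fun e => by
      obtain ⟨k, hk⟩ := exists_prime_orderOf_dvd_card' (G := K) 2 (by rw [hK64]; norm_num)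
      have hk2 : k * k = 1 := mul_self_of_two hk
      have : (k : H ⧸ zpowers (zH z)) ∈ Ω := ⟨k.2, congrArg Subtype.val hk2⟩
      rw [e, mem_bot] at this
      rw [show k = 1 from Subtype.ext this, orderOf_one] at hk
      omega) with hΩ | hΩ
  · exact lift Ω hΩn (fun k hk => hk.1) hΩ
  have hsq : ∀ k : K, k * k = 1 := fun k => Subtype.ext (show (k : H ⧸ zpowers (zH z)) * k = 1 from
    ((hΩ.symm ▸ k.2 : (k : H ⧸ zpowers (zH z)) ∈ Ω)).2)
  letI : CommGroup K := { (inferInstance : Group K) with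
    mul_comm := fun x y => Subtype.ext (hab x x.2 y y.2) }
  obtain ⟨e⟩ := sl_iso Z.card_L
  let incl : SL32 →* H := (Subgroup.inclusion Z.L_le).comp e.symm.toMonoidHom
  let ρ : SL32 →* MulAut K := (MulAut.conjNormal (H := K)).comp (π.comp incl)
  have hρ : ∀ (g : SL32) (k : K), ((ρ g k : K) : H ⧸ zpowers (zH z)) = π (incl g) * k * (π (incl g))⁻¹ :=
    fun g k => MulAut.conjNormal_apply _ _
  have hio : ∀ g : SL32, orderOf (incl g : G) = orderOf g := fun g => by
    show orderOf ((e.symm g : L) : G) = _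
    rw [orderOf_coe, MulEquiv.orderOf_eq]
  have hfix : ∀ (g : SL32), Odd (orderOf g) → ∀ (q : H), ∀ hq : π q ∈ K, ρ g ⟨π q, hq⟩ = ⟨π q, hq⟩ →
      (incl g : G) * q = q * incl g := by
    intro g hg q hq hk
    refine fix_mod Z.isZ.1 (by rwa [hio]) ?_
    have := congrArg Subtype.val hk
    rw [hρ] at this
    exact mul_inv_eq_iff_eq_mul.mp this
  obtain ⟨W, hW8, hWinv⟩ := exists_invariant_eight ρ hsq hK64 (fun g hg k hk => by
      obtain ⟨k', q, hq, hqk⟩ := k
      subst hqk
      have hqK : π q ∈ K := mem_map_of_mem π hq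
      have hc := hfix g (by rw [hg]; decide) q hqK hk
      refine Subtype.ext (show π q = 1 from ?_)
      rcases Z.fix_seven D ((hio g).trans hg) (incl g).2 (hmem hqK) hc with h1 | h1
      · rw [show q = 1 from Subtype.ext h1, _root_.map_one]
      · rw [show q = zH z from Subtype.ext h1]
        exact (QuotientGroup.eq_one_iff _).mpr (mem_zpowers (zH z)))
    (fun g hg => by
      set l : G := (incl g : G) with hl
      have hlL : l ∈ L := (e.symm g).2
      have hlo : orderOf l = 3 := (hio g).trans hg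
      set F := K ⊓ cnt1 (π (incl g)) with hF
      have hcF : F.comap π = (Q ⊓ cnt1 l).subgroupOf H := by
        ext x
        simp only [mem_comap, hF, Subgroup.mem_inf, mem_subgroupOf, mem_cnt1]
        constructor
        · rintro ⟨h1, h2⟩
          exact ⟨hmem h1, fix_mod Z.isZ.1 (by rw [hlo]; decide) h2⟩
        · rintro ⟨h1, h2⟩
          refine ⟨mem_map_of_mem π (mem_subgroupOf.mpr h1), ?_⟩
          rw [← _root_.map_mul, ← _root_.map_mul]
          exact congrArg π (Subtype.ext h2)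
      have hF4 := card_comap_mk (zpowers (zH z)) F
      rw [hcF, Nat.card_congr (subgroupOfEquivOfLe (inf_le_left.trans Z.Q_le)).toEquiv,
        Z.card_fix_three D hlL hlo, hzo] at hF4
      refine Eq.trans ?_ (Nat.eq_of_mul_eq_mul_right two_pos (hF4.symm.trans (by norm_num)) : Nat.card F = 4)
      exact Nat.card_congr
        { toFun := fun k => ⟨k.1.1, k.1.2, mem_cnt1.mpr (by
            have := congrArg Subtype.val k.2
            rw [hρ] at this
            exact mul_inv_eq_iff_eq_mul.mp this)⟩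
          invFun := fun k => ⟨⟨k.1, k.2.1⟩, Subtype.ext (by
            rw [hρ]
            exact mul_inv_eq_iff_eq_mul.mpr (mem_cnt1.mp k.2.2))⟩
          left_inv := fun _ => rfl
          right_inv := fun _ => rfl })
  refine lift (W.map K.subtype) ⟨?_⟩ (map_subtype_le _)
    (by rw [← Nat.card_congr (W.equivMapOfInjective _ K.subtype_injective).toEquiv, hW8])
  rintro _ ⟨w, hw, rfl⟩ g
  obtain ⟨h', rfl⟩ := QuotientGroup.mk'_surjective _ g
  obtain ⟨q, hq, l, hl, hql⟩ := Z.decomp h' h'.2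
  have hh' : h' = ⟨q, Z.Q_le hq⟩ * incl (e ⟨l, hl⟩) := Subtype.ext (by
    show (h' : G) = q * ((e.symm (e ⟨l, hl⟩) : L) : G)
    rw [MulEquiv.symm_apply_apply]
    exact hql)
  refine ⟨ρ (e ⟨l, hl⟩) w, hWinv _ _ hw, ?_⟩
  show ((ρ (e ⟨l, hl⟩) w : K) : H ⧸ zpowers (zH z)) = π h' * (w : H ⧸ zpowers (zH z)) * (π h')⁻¹
  have hqK : π ⟨q, Z.Q_le hq⟩ ∈ K := mem_map_of_mem π (mem_subgroupOf.mpr hq)
  rw [hh', _root_.map_mul, show π ⟨q, Z.Q_le hq⟩ * π (incl (e ⟨l, hl⟩)) * (w : H ⧸ zpowers (zH z)) *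
      (π ⟨q, Z.Q_le hq⟩ * π (incl (e ⟨l, hl⟩)))⁻¹ =
    π ⟨q, Z.Q_le hq⟩ * (π (incl (e ⟨l, hl⟩)) * w * (π (incl (e ⟨l, hl⟩)))⁻¹) * (π ⟨q, Z.Q_le hq⟩)⁻¹ by group,
    ← hρ, hab _ hqK _ (ρ (e ⟨l, hl⟩) w).2, mul_inv_cancel_right]

end ZData

end Cfsg.Agent.Order244823040
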