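/-
`Q` is extraspecial.

Main results (namespace `Cfsg.Agent.Order244823040`): `ZData.orbit_cover`, `ZData.elementary`,
`ZData.exists_f`, `ZData.sq_mem`, `ZData.extraspecial`.
-/
import Cfsg.Agent.Lib.Order244823040.Normal
import Cfsg.Agent.Lib.LargeExtraspecial.Central

set_option autoImplicit false
set_option linter.unusedSectionVars false

open Subgroup Cfsg.Agent.SameOrder Cfsg.Agent.SmallOrders Cfsg.Agent.Order10200960
open scoped commutatorElement

namespace Cfsg.Agent.Order244823040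

variable {G : Type*} [Group G] [Finite G]

namespace ZData

variable {z a : G} {Q L : Subgroup G} (Z : ZData z a Q L)
include Z

theorem a_pow_mem (i : ℕ) : a ^ i ∈ cnt1 z := pow_mem (Z.L_le Z.a_mem) i

theorem conj_z {h : G} (hh : h ∈ cnt1 z) : h * z * h⁻¹ = z := mul_inv_eq_iff_eq_mul.mpr (Z.comm_z hh)

theorem zpowers_eq {x : G} (hx : x ∈ zpowers z) : x = 1 ∨ x = z := by
  obtain ⟨k, hk⟩ := mem_zpowers_iff.mp hx
  rw [← hk, ← zpow_mod_orderOf, Z.isZ.1]
  rcases Int.emod_two_eq_zero_or_one k with h | h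
  · exact Or.inl (by simp [h])
  · exact Or.inr (by simp [h])

/-- Powers of `a` move any coset of `T` outside `T` to seven different ones. -/
theorem orbit_inj (D : OrderData G) {T : Subgroup G} (hzT : z ∈ T) (hTQ : T ≤ Q)
    (hT : ∀ h ∈ cnt1 z, ∀ t ∈ T, h * t * h⁻¹ ∈ T) {f : G} (hf : f ∈ Q) (hfT : f ∉ T) {i j : ℕ}
    (hi : i < 7) (hj : j < 7) {t t' : G} (ht : t ∈ T) (ht' : t' ∈ T)
    (h : a ^ i * f * (a ^ i)⁻¹ * t = a ^ j * f * (a ^ j)⁻¹ * t') : i = j ∧ t = t' := by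
  classical
  have : Fact (Nat.Prime 7) := ⟨by norm_num⟩
  suffices hij : i = j by
    refine ⟨hij, ?_⟩
    rw [hij] at h
    exact mul_left_cancel h
  by_contra hne
  wlog hle : i ≤ j generalizing i j t t'
  · exact this hj hi ht' ht h.symm (fun e => hne e.symm) (by omega)
  obtain ⟨k, rfl⟩ := Nat.exists_eq_add_of_le hle
  set c := a ^ k with hc
  have hcH : c ∈ cnt1 z := Z.a_pow_mem k
  have hc7 : orderOf c = 7 := by
    refine orderOf_eq_prime (by rw [hc, ← pow_mul, mul_comm, pow_mul, ← Z.ord_a, pow_orderOf_eq_one, one_pow])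
      fun e => ?_
    have hd := orderOf_dvd_of_pow_eq_one e
    rw [Z.ord_a] at hd
    omega
  have hcf : c * f * c⁻¹ = f * ((a ^ i)⁻¹ * (t * t'⁻¹) * a ^ i) := by
    rw [pow_add, ← hc] at h
    calc c * f * c⁻¹ = (a ^ i)⁻¹ * (a ^ i * c * f * (a ^ i * c)⁻¹ * t') * (t'⁻¹ * a ^ i) := by group
      _ = (a ^ i)⁻¹ * (a ^ i * f * (a ^ i)⁻¹ * t) * (t'⁻¹ * a ^ i) := by rw [h]
      _ = f * ((a ^ i)⁻¹ * (t * t'⁻¹) * a ^ i) := by group
  have hu : (a ^ i)⁻¹ * (t * t'⁻¹) * a ^ i ∈ T := by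
    have := hT _ (inv_mem (Z.a_pow_mem i)) _ (mul_mem ht (inv_mem ht'))
    rwa [inv_inv] at this
  have hmod := Order95040.card_modEq_commute hc7 {x : G | ∃ s ∈ T, x = f * s} (by
    rintro x ⟨s, hs, rfl⟩
    exact ⟨_, mul_mem hu (hT c hcH s hs), by
      rw [← mul_assoc f, ← hcf]
      group⟩)
  have hcard : Nat.card {x : G | ∃ s ∈ T, x = f * s} = Nat.card T :=
    (Nat.card_congr (Equiv.ofBijective (fun s : T => (⟨f * s, s, s.2, rfl⟩ : {x : G | ∃ s ∈ T, x = f * s}))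
      ⟨fun s s' e => Subtype.ext (mul_left_cancel (congrArg Subtype.val e)),
        by rintro ⟨_, s, hs, rfl⟩; exact ⟨⟨s, hs⟩, rfl⟩⟩)).symm
  rw [hcard] at hmod
  have hT0 : Nat.card T % 7 ≠ 0 := by
    intro h7
    have := (Nat.dvd_of_mod_eq_zero h7).trans (card_dvd_of_le hTQ)
    rw [Z.card_Q] at this
    norm_num at this
  obtain ⟨⟨x, ⟨s, hs, rfl⟩, hxc⟩⟩ : Nonempty {g : G // g ∈ {x : G | ∃ s ∈ T, x = f * s} ∧ c * g = g * c} := by
    by_contra hno
    rw [not_nonempty_iff] at hno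
    rw [(Nat.card_eq_zero.mpr (Or.inl hno) :
      Nat.card {g : G // g ∈ {x : G | ∃ s ∈ T, x = f * s} ∧ c * g = g * c} = 0)] at hmod
    exact hT0 (hmod : _ % 7 = 0 % 7)
  have hfs : f * s ∈ T := by
    rcases Z.fix_seven D hc7 hcH (mul_mem hf (hTQ hs)) hxc with e | e
    · rw [e]; exact one_mem _
    · rw [e]; exact hzT
  exact hfT (by simpa using mul_mem hfs (inv_mem hs))

/-- The cosets of `T` in `S` form one orbit besides `T` itself. -/
theorem orbit_cover (D : OrderData G) {S T : Subgroup G} (hzT : z ∈ T) (hTS : T ≤ S) (hSQ : S ≤ Q)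
    (hT : ∀ h ∈ cnt1 z, ∀ t ∈ T, h * t * h⁻¹ ∈ T) (hS : ∀ h ∈ cnt1 z, ∀ s ∈ S, h * s * h⁻¹ ∈ S)
    (hcard : Nat.card S = 8 * Nat.card T) {f : G} (hf : f ∈ S) (hfT : f ∉ T) {x : G} (hx : x ∈ S) (hxT : x ∉ T) :
    ∃ i < 7, ∃ t ∈ T, x = a ^ i * f * (a ^ i)⁻¹ * t := by
  classical
  have hout : ∀ i : ℕ, ∀ t ∈ T, a ^ i * f * (a ^ i)⁻¹ * t ∉ T := fun i t ht hm => hfT (by
    have h1 : a ^ i * f * (a ^ i)⁻¹ ∈ T := by simpa using mul_mem hm (inv_mem ht)
    have h2 := hT _ (inv_mem (Z.a_pow_mem i)) _ h1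
    simpa [mul_assoc] using h2)
  let F : Option (Fin 7) × T → S := fun p => p.1.elim ⟨p.2, hTS p.2.2⟩ fun i =>
    ⟨a ^ i.val * f * (a ^ i.val)⁻¹ * p.2, mul_mem (hS _ (Z.a_pow_mem i.val) f hf) (hTS p.2.2)⟩
  have hF : Function.Injective F := by
    rintro ⟨_ | i, t⟩ ⟨_ | j, t'⟩ e
    · exact Prod.ext rfl (Subtype.ext (congrArg Subtype.val e :))
    · have e' : (t : G) = a ^ j.val * f * (a ^ j.val)⁻¹ * t' := congrArg (fun u : S => (u : G)) e
      exact absurd (e' ▸ t.2) (hout j t' t'.2)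
    · have e' : a ^ i.val * f * (a ^ i.val)⁻¹ * t = (t' : G) := congrArg (fun u : S => (u : G)) e
      exact absurd (e'.symm ▸ t'.2) (hout i t t.2)
    · obtain ⟨e1, e2⟩ := Z.orbit_inj D hzT (hTS.trans hSQ) hT (hSQ hf) hfT i.2 j.2 t.2 t'.2 (congrArg Subtype.val e :)
      exact Prod.ext (congrArg some (Fin.ext e1)) (Subtype.ext e2)
  obtain ⟨⟨o, t⟩, ho⟩ := (hF.bijective_of_nat_card_le (by
    rw [Nat.card_prod, Finite.card_option, Nat.card_fin, hcard])).2 ⟨x, hx⟩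
  have ho' : ((F (o, t) : S) : G) = x := congrArg Subtype.val ho
  cases o with
  | none => exact absurd (ho' ▸ t.2) hxT
  | some i => exact ⟨i, i.2, t, t.2, ho'.symm⟩

variable {E : Subgroup G} (hE : EData z Q E)
include hE

theorem T_le : zpowers z ≤ E := zpowers_le.mpr hE.z_mem

theorem T_norm : ∀ h ∈ cnt1 z, ∀ t ∈ zpowers z, h * t * h⁻¹ ∈ zpowers z := fun h hh t ht => by
  obtain ⟨i, rfl⟩ := mem_zpowers_iff.mp ht
  rw [← conj_zpow, Z.conj_z hh]
  exact zpow_mem (mem_zpowers z) i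

theorem E_cover (D : OrderData G) {f : G} (hf : f ∈ E) (hf1 : f ≠ 1) (hfz : f ≠ z) {x : G} (hx : x ∈ E)
    (hx1 : x ≠ 1) (hxz : x ≠ z) : ∃ i < 7, ∃ t : G, (t = 1 ∨ t = z) ∧ x = a ^ i * f * (a ^ i)⁻¹ * t := by
  obtain ⟨i, hi, t, ht, e⟩ := Z.orbit_cover D (mem_zpowers z) (Z.T_le hE) hE.le (Z.T_norm hE) hE.norm
    (by rw [hE.card, Nat.card_zpowers, Z.isZ.1]) hf (fun h => (Z.zpowers_eq h).elim hf1 hfz) hx
    (fun h => (Z.zpowers_eq h).elim hx1 hxz)
  exact ⟨i, hi, t, Z.zpowers_eq ht, e⟩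

theorem Q_cover (D : OrderData G) {f : G} (hf : f ∈ Q) (hfE : f ∉ E) {x : G} (hx : x ∈ Q) (hxE : x ∉ E) :
    ∃ i < 7, ∃ t ∈ E, x = a ^ i * f * (a ^ i)⁻¹ * t :=
  Z.orbit_cover D hE.z_mem hE.le le_rfl hE.norm Z.normQ (by rw [hE.card, Z.card_Q]) hf hfE hx hxE

theorem z_central {q : G} (hq : q ∈ Q) : q * z = z * q := Z.comm_z (Z.Q_le hq)

theorem elementary (D : OrderData G) : ∀ e ∈ E, e * e = 1 := by
  classical
  obtain ⟨e₁, he₁, h11, h1z, -⟩ := hE.central
  obtain ⟨e₀, he₀, h01, h0z, hsq⟩ : ∃ e₀ ∈ E, e₀ ≠ 1 ∧ e₀ ≠ z ∧ (e₀ * e₀ = 1 ∨ e₀ * e₀ = z) := by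
    by_contra hno
    push Not at hno
    have key : ∀ n : ℕ, e₁ ^ 2 ^ n ≠ 1 ∧ e₁ ^ 2 ^ n ≠ z := by
      intro n
      induction n with
      | zero => simpa using ⟨h11, h1z⟩
      | succ n ih =>
        rw [pow_succ, mul_two, pow_add]
        exact hno _ (pow_mem he₁ _) ih.1 ih.2
    refine (key 4).1 ?_
    have := orderOf_dvd_natCard (⟨e₁, he₁⟩ : E)
    rw [orderOf_mk, hE.card] at this
    exact orderOf_dvd_iff_pow_eq_one.mp this
  have hall : ∀ x ∈ E, x ≠ 1 → x ≠ z → x * x = e₀ * e₀ := by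
    intro x hx hx1 hxz
    obtain ⟨i, -, t, ht, rfl⟩ := Z.E_cover hE D he₀ h01 h0z hx hx1 hxz
    have hs : a ^ i * (e₀ * e₀) * (a ^ i)⁻¹ = e₀ * e₀ := by
      rcases hsq with h | h <;> rw [h]
      · group
      · exact Z.conj_z (Z.a_pow_mem i)
    have htt : t * t = 1 := by
      rcases ht with rfl | rfl
      · exact one_mul 1
      · exact Z.zz
    have htc : Commute t (a ^ i * e₀ * (a ^ i)⁻¹) := by
      rcases ht with rfl | rfl
      · exact Commute.one_left _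
      · exact (Z.comm_z (Z.Q_le (Z.normQ _ (Z.a_pow_mem i) _ (hE.le he₀)))).symm
    calc a ^ i * e₀ * (a ^ i)⁻¹ * t * (a ^ i * e₀ * (a ^ i)⁻¹ * t)
        = a ^ i * e₀ * (a ^ i)⁻¹ * (a ^ i * e₀ * (a ^ i)⁻¹) * (t * t) := by
          rw [mul_assoc (a ^ i * e₀ * (a ^ i)⁻¹) t, ← mul_assoc t, htc.eq]; group
      _ = e₀ * e₀ := by
          rw [htt, mul_one]
          conv_rhs => rw [← hs]
          group
  rcases hsq with hs | hs
  · intro e he
    rcases eq_or_ne e 1 with rfl | h1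
    · exact one_mul 1
    rcases eq_or_ne e z with rfl | h2
    · exact Z.zz
    rw [hall e he h1 h2, hs]
  exfalso
  simp only [hs] at hall
  -- two elements of order four outside `⟨z⟩` with product outside anticommute
  have anti : ∀ x ∈ E, ∀ y ∈ E, x ≠ 1 → x ≠ z → y ≠ 1 → y ≠ z → x * y ≠ 1 → x * y ≠ z →
      y * x = x * y * z := by
    intro x hx y hy hx1 hxz hy1 hyz hxy1 hxyz
    have h := hall _ (mul_mem hx hy) hxy1 hxyz
    have h2 : y * x * y = x := by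
      refine mul_left_cancel (a := x) ?_
      rw [hall x hx hx1 hxz, ← h]
      group
    calc y * x = y * x * (y * y) * z := by
          rw [hall y hy hy1 hyz, mul_assoc (y * x), Z.zz, mul_one]
      _ = x * y * z := by rw [← mul_assoc (y * x), h2]
  -- three independent elements
  have hchoose : ∀ Bs : Finset G, Bs.card ≤ 8 → ∃ w ∈ E, w ∉ Bs := fun Bs hBs => by
    by_contra hno
    push Not at hno
    have := Nat.card_le_card_of_injective (fun w : E => (⟨w.1, hno w w.2⟩ : Bs))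
      fun u v e => Subtype.ext (congrArg Subtype.val e :)
    rw [hE.card, Nat.card_eq_fintype_card, Fintype.card_coe] at this
    omega
  obtain ⟨y, hy, hyB⟩ := hchoose {1, z, e₀, e₀ * z} (le_trans Finset.card_le_four (by norm_num))
  obtain ⟨w, hw, hwB⟩ := hchoose ({1, z, e₀, e₀ * z} ∪ {y, y * z, e₀ * y, e₀ * y * z})
    ((Finset.card_union_le _ _).trans (add_le_add Finset.card_le_four Finset.card_le_four))
  simp only [Finset.mem_union, Finset.mem_insert, Finset.mem_singleton, not_or] at hyB hwB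
  obtain ⟨hy1, hyz, hye, hyez⟩ := hyB
  obtain ⟨⟨hw1, hwz, hwe, hwez⟩, hwy, hwyz, hwey, hweyz⟩ := hwB
  have hzc : ∀ x ∈ E, x * z = z * x := fun x hx => Z.z_central hE (hE.le hx)
  -- `x y ∈ {1, z}` forces `y ∈ {x, x z}`
  have hprod : ∀ x ∈ E, x ≠ 1 → x ≠ z → ∀ y : G, y ≠ x → y ≠ x * z → x * y ≠ 1 ∧ x * y ≠ z := by
    intro x hx h1 h2 y hne hnez
    have hxi : x⁻¹ = x * z := inv_eq_of_mul_eq_one_right (by rw [← mul_assoc, hall x hx h1 h2, Z.zz])
    refine ⟨fun e => hnez ?_, fun e => hne ?_⟩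
    · rw [← hxi]; exact eq_inv_of_mul_eq_one_right e
    · rw [eq_inv_mul_of_mul_eq e, hxi, mul_assoc, Z.zz, mul_one]
  obtain ⟨hey1, heyz⟩ := hprod e₀ he₀ h01 h0z y hye hyez
  obtain ⟨hew1, hewz⟩ := hprod e₀ he₀ h01 h0z w hwe hwez
  obtain ⟨hyw1, hywz⟩ := hprod y hy hy1 hyz w hwy hwyz
  obtain ⟨heyw1, heywz⟩ := hprod (e₀ * y) (mul_mem he₀ hy) hey1 heyz w hwey hweyz
  have A1 := anti e₀ he₀ y hy h01 h0z hy1 hyz hey1 heyz
  have A2 := anti e₀ he₀ w hw h01 h0z hw1 hwz hew1 hewz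
  have A3 := anti e₀ he₀ (y * w) (mul_mem hy hw) h01 h0z hyw1 hywz (by rwa [← mul_assoc]) (by rwa [← mul_assoc])
  refine Z.z_ne ?_
  have : e₀ * (y * w) * z = e₀ * (y * w) := by
    calc e₀ * (y * w) * z = y * w * e₀ := A3.symm
      _ = y * (e₀ * w * z) := by rw [mul_assoc, A2]
      _ = y * e₀ * w * z := by group
      _ = e₀ * y * (z * w) * z := by rw [A1]; group
      _ = e₀ * y * w * (z * z) := by rw [← hzc w hw]; group
      _ = e₀ * (y * w) := by rw [Z.zz, mul_one, mul_assoc]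
  exact mul_eq_left.mp this

theorem E_comm (D : OrderData G) {x y : G} (hx : x ∈ E) (hy : y ∈ E) : x * y = y * x := by
  have hh := Z.elementary hE D
  have h := inv_eq_of_mul_eq_one_right (hh _ (mul_mem hx hy))
  rw [mul_inv_rev, inv_eq_of_mul_eq_one_right (hh x hx), inv_eq_of_mul_eq_one_right (hh y hy)] at h
  exact h.symm

/-- Every element of `E` commutes with some element of order three of `L`. -/
theorem exists_three (D : OrderData G) {e : G} (he : e ∈ E) (he1 : e ≠ 1) (hez : e ≠ z) :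
    ∃ d ∈ L, orderOf d = 3 ∧ d * e = e * d := by
  classical
  have := Z.simple_L
  have : Fact (Nat.Prime 3) := ⟨Nat.prime_three⟩
  have hTn := Z.T_norm hE
  have hzcomm : ∀ (l : L) (t : G), t ∈ zpowers z → (l : G) * t = t * l := fun l t ht => by
    rcases Z.zpowers_eq ht with rfl | rfl
    · simp
    · exact Z.comm_z (Z.L_le l.2)
  let M : Subgroup L :=
    { carrier := {l | (l : G) * e * (l : G)⁻¹ * e⁻¹ ∈ zpowers z}
      one_mem' := by simp
      mul_mem' := fun {l m} (hl : _ ∈ zpowers z) (hm : _ ∈ zpowers z) => by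
        show ((l * m : L) : G) * e * ((l * m : L) : G)⁻¹ * e⁻¹ ∈ zpowers z
        rw [Subgroup.coe_mul, show (l : G) * m * e * ((l : G) * m)⁻¹ * e⁻¹ =
          (l : G) * ((m : G) * e * (m : G)⁻¹ * e⁻¹) * (l : G)⁻¹ * ((l : G) * e * (l : G)⁻¹ * e⁻¹) by group]
        exact mul_mem (hTn _ (Z.L_le l.2) _ hm) hl
      inv_mem' := fun {l} (hl : _ ∈ zpowers z) => by
        show ((l⁻¹ : L) : G) * e * ((l⁻¹ : L) : G)⁻¹ * e⁻¹ ∈ zpowers z
        rw [Subgroup.coe_inv, inv_inv, show (l : G)⁻¹ * e * l * e⁻¹ =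
          (l : G)⁻¹ * ((l : G) * e * (l : G)⁻¹ * e⁻¹)⁻¹ * (l : G) by group]
        have := hTn _ (inv_mem (Z.L_le l.2)) _ (inv_mem hl)
        rwa [inv_inv] at this }
  have hcov : ∀ l : L, ∃ i : Fin 7, (⟨a, Z.a_mem⟩ : L) ^ (-(i.val : ℤ)) * l ∈ M := by
    intro l
    have hle := hE.norm l (Z.L_le l.2) e he
    obtain ⟨i, hi, t, ht, hit⟩ := Z.E_cover hE D he he1 hez hle
      (fun h => he1 (conj_eq_one_iff.mp h))
      (fun h => hez (by
        rw [mul_inv_eq_iff_eq_mul, ← Z.comm_z (Z.L_le l.2)] at h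
        exact mul_left_cancel h))
    have htT : t ∈ zpowers z := by
      rcases ht with rfl | rfl
      · exact one_mem _
      · exact mem_zpowers _
    refine ⟨⟨i, hi⟩, ?_⟩
    show _ ∈ zpowers z
    simp only [zpow_neg, zpow_natCast, Subgroup.coe_mul, Subgroup.coe_inv, SubmonoidClass.coe_pow, mul_inv_rev,
      inv_inv]
    rw [show (a ^ i)⁻¹ * (l : G) * e * ((l : G)⁻¹ * a ^ i) * e⁻¹ =
      (a ^ i)⁻¹ * ((l : G) * e * (l : G)⁻¹) * a ^ i * e⁻¹ by group, hit,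
      show (a ^ i)⁻¹ * (a ^ i * e * (a ^ i)⁻¹ * t) * a ^ i * e⁻¹ = e * ((a ^ i)⁻¹ * t * a ^ i) * e⁻¹ by group]
    have h2 := hTn _ (inv_mem (Z.a_pow_mem i)) t htT
    rw [inv_inv] at h2
    exact hTn e (Z.Q_le (hE.le he)) _ h2
  choose ι hι using hcov
  have h168 : 168 ≤ 7 * Nat.card M := by
    have := Nat.card_le_card_of_injective (fun l : L => (ι l, (⟨_, hι l⟩ : M))) (fun l m h => by
      obtain ⟨h1, h2⟩ := Prod.ext_iff.mp h
      have h2' := congrArg Subtype.val h2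
      simp only at h1 h2'
      rw [h1] at h2'
      exact mul_left_cancel h2')
    rwa [Nat.card_prod, Nat.card_fin, Z.card_L] at this
  have hM : M ≠ ⊤ := fun htop => by
    have ha : (⟨a, Z.a_mem⟩ : L) ∈ M := htop ▸ mem_top _
    have hc : a * e = e * a := by
      refine comm_of_odd (by rw [Z.ord_a]; decide) (Z.comm_z (Z.L_le Z.a_mem)) Z.zz ?_
      rcases Z.zpowers_eq ha with h | h
      · exact Or.inl (mul_inv_eq_one.mp h)
      · exact Or.inr ((mul_inv_eq_iff_eq_mul.mp h).trans (Z.z_central hE (hE.le he)).symm)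
    rcases Z.fix_a e (hE.le he) hc with h | h
    exacts [he1 h, hez h]
  have h24 := S168.card_le Z.card_L hM
  obtain ⟨d, hd⟩ := exists_prime_orderOf_dvd_card' (G := M) 3 (by
    rw [show Nat.card M = 24 by omega]; norm_num)
  refine ⟨((d : L) : G), (d : L).2, by rw [orderOf_coe, orderOf_coe, hd], ?_⟩
  refine comm_of_odd (by rw [orderOf_coe, orderOf_coe, hd]; decide) (Z.comm_z (Z.L_le (d : L).2)) Z.zz ?_
  rcases Z.zpowers_eq (d.2 : _ ∈ zpowers z) with h | h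
  · exact Or.inl (mul_inv_eq_one.mp h)
  · exact Or.inr ((mul_inv_eq_iff_eq_mul.mp h).trans (Z.z_central hE (hE.le he)).symm)

/-- An involution outside `E` centralised by an element of order three and moving a point of `E`. -/
theorem exists_f (D : OrderData G) :
    ∃ f ∈ Q, f ∉ E ∧ f * f = 1 ∧ ∃ d ∈ L, orderOf d = 3 ∧ d * f = f * d ∧
      ∃ e ∈ E, f * e * f⁻¹ = e * z := by
  classical
  obtain ⟨e, he, he1, hez, hcen⟩ := hE.central
  obtain ⟨d, hdL, hd, hde⟩ := Z.exists_three hE D he he1 hez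
  set A := Q ⊓ cnt1 d with hA
  have heA : e ∈ A := ⟨hE.le he, mem_cnt1.mpr hde⟩
  have hzA : z ∈ A := ⟨Z.z_mem, mem_cnt1.mpr (Z.comm_z (Z.L_le hdL))⟩
  obtain ⟨x, hx, hxe⟩ := Z.not_commute_fix_three D hdL hd heA (Z.elementary hE D e he) he1 hez
  have hxE : x ∉ E := fun h => hxe (Z.E_comm hE D h he)
  have hconj : x * e * x⁻¹ = e * z := by
    rcases hcen x hx.1 with h | h
    · exact absurd (mul_inv_eq_iff_eq_mul.mp (mul_inv_eq_one.mp h)) hxe
    · rw [mul_inv_eq_iff_eq_mul.mp h, Z.z_central hE (hE.le he)]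
  -- the square of `x`
  set B : Subgroup A := E.subgroupOf A with hB
  have hB4 : 4 ≤ Nat.card B := by
    have := Nat.card_le_card_of_injective (fun p : Fin 2 × Fin 2 =>
      (⟨(⟨z, hzA⟩ : A) ^ p.1.val * ⟨e, heA⟩ ^ p.2.val, mul_mem
        (pow_mem (mem_subgroupOf.mpr hE.z_mem) _) (pow_mem (mem_subgroupOf.mpr he) _)⟩ : B)) (by
        intro p q h
        exact four_injective Z.zz Z.z_ne he1 hez (congrArg (fun x : B => ((x : A) : G)) h))
    rwa [Nat.card_prod, Nat.card_fin] at this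
  have hA8 := Z.card_fix_three D hdL hd
  have hBd := card_subgroup_dvd_card B
  rw [hA8] at hBd
  have hBne : Nat.card B ≠ 8 := fun h8 => hxE (by
    have htop : B = ⊤ := eq_of_le_of_card_ge le_top (by rw [card_top, hA8, h8])
    exact mem_subgroupOf.mp (htop ▸ mem_top (⟨x, hx⟩ : A) : (⟨x, hx⟩ : A) ∈ B))
  have hB4' : Nat.card B = 4 := by
    have := Nat.le_of_dvd (by norm_num) hBd
    interval_cases Nat.card B
    all_goals first
      | rfl
      | exact absurd rfl hBne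
      | (norm_num at hBd; done)
  have hBidx : B.index = 2 := by
    have := B.card_mul_index
    rw [hA8, hB4'] at this
    omega
  have hxx : x * x ∈ E := mem_subgroupOf.mp (mul_self_mem_of_index_two hBidx (⟨x, hx⟩ : A))
  have hcase : x * x = 1 ∨ x * x = z := by
    have hlist : ∀ b : B, ((b : A) : G) ∈ ({1, z, e, e * z} : Set G) := by
      intro b
      by_contra hb
      simp only [Set.mem_insert_iff, Set.mem_singleton_iff, not_or] at hb
      have := Nat.card_le_card_of_injective (fun o : Option (Fin 2 × Fin 2) => (o.elim b fun p =>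
        ⟨(⟨z, hzA⟩ : A) ^ p.1.val * ⟨e, heA⟩ ^ p.2.val, mul_mem
          (pow_mem (mem_subgroupOf.mpr hE.z_mem) _) (pow_mem (mem_subgroupOf.mpr he) _)⟩ : B)) (by
          have hnot : ∀ p : Fin 2 × Fin 2, z ^ p.1.val * e ^ p.2.val ≠ ((b : A) : G) := by
            rintro ⟨i, j⟩ h
            fin_cases i <;> fin_cases j <;> simp at h
            exacts [hb.1 h.symm, hb.2.2.1 h.symm, hb.2.1 h.symm,
              hb.2.2.2 (by rw [← h]; exact (Z.z_central hE (hE.le he)).symm)]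
          rintro (_ | p) (_ | q) h
          · rfl
          · exact absurd (congrArg (fun x : B => ((x : A) : G)) h).symm (hnot q)
          · exact absurd (congrArg (fun x : B => ((x : A) : G)) h) (hnot p)
          · exact congrArg some (four_injective Z.zz Z.z_ne he1 hez (congrArg (fun x : B => ((x : A) : G)) h)))
      rw [Finite.card_option, Nat.card_prod, Nat.card_fin, hB4'] at this
      omega
    have hm := hlist ⟨⟨x, hx⟩ * ⟨x, hx⟩, mem_subgroupOf.mpr hxx⟩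
    simp only [Set.mem_insert_iff, Set.mem_singleton_iff, Subgroup.coe_mul] at hm
    rcases hm with h | h | h | h
    · exact Or.inl h
    · exact Or.inr h
    · exact absurd (h ▸ (show x * (x * x) = x * x * x by group) : x * e = e * x) hxe
    · exfalso
      have h2 : x * (e * z) = e * z * x := h ▸ (show x * (x * x) = x * x * x by group)
      refine hxe ?_
      rw [← mul_assoc, mul_assoc e z x, ← Z.z_central hE hx.1, ← mul_assoc] at h2
      exact mul_right_cancel h2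
  rcases hcase with h | h
  · exact ⟨x, hx.1, hxE, h, d, hdL, hd, mem_cnt1.mp hx.2, e, he, hconj⟩
  · refine ⟨x * e, mul_mem hx.1 (hE.le he), fun hm => hxE (by simpa using mul_mem hm (inv_mem he)), ?_,
      d, hdL, hd, ((show Commute d x from mem_cnt1.mp hx.2).mul_right hde).eq, e, he, ?_⟩
    · calc x * e * (x * e) = x * e * x⁻¹ * (x * x) * e := by group
        _ = e * z * z * e := by rw [hconj, h]
        _ = 1 := by rw [mul_assoc e z z, Z.zz, mul_one, Z.elementary hE D e he]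
    · rw [show x * e * e * (x * e)⁻¹ = x * e * x⁻¹ by group, hconj]

/-- Conjugation by `Q` moves elements of `E` by powers of `z`. -/
theorem comm_E (D : OrderData G) {q x : G} (hq : q ∈ Q) (hx : x ∈ E) : q * x * q⁻¹ * x⁻¹ ∈ zpowers z := by
  obtain ⟨e, he, he1, hez, hcen⟩ := hE.central
  rcases eq_or_ne x 1 with rfl | hx1
  · simp
  rcases eq_or_ne x z with rfl | hxz
  · rw [Z.conj_z (Z.Q_le hq), mul_inv_cancel]; exact one_mem _
  obtain ⟨i, -, t, ht, rfl⟩ := Z.E_cover hE D he he1 hez hx hx1 hxz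
  have hq' : (a ^ i)⁻¹ * q * a ^ i ∈ Q := by
    have := Z.normQ _ (inv_mem (Z.a_pow_mem i)) q hq
    rwa [inv_inv] at this
  have htc : ∀ g ∈ cnt1 z, g * t * g⁻¹ = t := fun g hg => by
    rcases ht with rfl | rfl
    · group
    · exact Z.conj_z hg
  have e1 : q * (a ^ i * e * (a ^ i)⁻¹ * t) * q⁻¹ * (a ^ i * e * (a ^ i)⁻¹ * t)⁻¹ =
      a ^ i * ((a ^ i)⁻¹ * q * a ^ i * e * ((a ^ i)⁻¹ * q * a ^ i)⁻¹ * e⁻¹) * (a ^ i)⁻¹ := by
    rw [show q * (a ^ i * e * (a ^ i)⁻¹ * t) * q⁻¹ = q * (a ^ i * e * (a ^ i)⁻¹) * q⁻¹ * (q * t * q⁻¹) by group,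
      htc q (Z.Q_le hq)]
    group
  rw [e1]
  refine Z.T_norm hE _ (Z.a_pow_mem i) _ ?_
  rcases hcen _ hq' with h | h <;> rw [h]
  exacts [one_mem _, mem_zpowers z]

/-- Squares lie in `⟨z⟩`. -/
theorem sq_mem (D : OrderData G) {q : G} (hq : q ∈ Q) : q * q ∈ zpowers z := by
  obtain ⟨f, hf, hfE, hff, -⟩ := Z.exists_f hE D
  by_cases hqE : q ∈ E
  · rw [Z.elementary hE D q hqE]; exact one_mem _
  obtain ⟨i, -, t, ht, rfl⟩ := Z.Q_cover hE D hf hfE hq hqE
  set t' := (a ^ i)⁻¹ * t * a ^ i with ht'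
  have ht'E : t' ∈ E := by
    have := hE.norm _ (inv_mem (Z.a_pow_mem i)) t ht
    rwa [inv_inv] at this
  have e : a ^ i * f * (a ^ i)⁻¹ * t * (a ^ i * f * (a ^ i)⁻¹ * t) =
      a ^ i * (f * t' * f⁻¹ * t'⁻¹ * (t' * t')) * (a ^ i)⁻¹ := by
    rw [inv_eq_of_mul_eq_one_right hff, ht']
    group
  rw [e, Z.elementary hE D t' ht'E, mul_one]
  exact Z.T_norm hE _ (Z.a_pow_mem i) _ (Z.comm_E hE D hf ht'E)

theorem comm_mem (D : OrderData G) {x y : G} (hx : x ∈ Q) (hy : y ∈ Q) : x * y * x⁻¹ * y⁻¹ ∈ zpowers z := by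
  have h1 := Z.sq_mem hE D (mul_mem hx hy)
  have h2 := inv_mem (Z.sq_mem hE D hx)
  have h3 := inv_mem (Z.sq_mem hE D hy)
  have hc : Commute y (x * x)⁻¹ := by
    rcases Z.zpowers_eq h2 with h | h <;> rw [h]
    · exact Commute.one_right _
    · exact Z.z_central hE hy
  have e : x * y * x⁻¹ * y⁻¹ = (x * y * (x * y)) * ((x * x)⁻¹ * (y * y)⁻¹) := by
    calc x * y * x⁻¹ * y⁻¹ = x * y * x * ((x * x)⁻¹ * y) * ((y * y)⁻¹) := by group
      _ = x * y * x * (y * (x * x)⁻¹) * ((y * y)⁻¹) := by rw [hc.eq]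
      _ = _ := by group
  rw [e]
  exact mul_mem h1 (mul_mem h2 h3)

theorem cent_E (D : OrderData G) {x : G} (hx : x ∈ Q) (hc : ∀ e ∈ E, x * e = e * x) : x ∈ E := by
  by_contra hxE
  obtain ⟨f, hf, hfE, -, d, hdL, hd, hdf, e, he, hfe⟩ := Z.exists_f hE D
  obtain ⟨i, -, t, ht, rfl⟩ := Z.Q_cover hE D hx hxE hf hfE
  have hcomm : a ^ i * x * (a ^ i)⁻¹ * t * e = e * (a ^ i * x * (a ^ i)⁻¹ * t) := by
    have he' := hE.norm _ (inv_mem (Z.a_pow_mem i)) e he
    rw [inv_inv] at he'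
    have h := conj_comm (u := a ^ i) (hc _ he')
    rw [show a ^ i * ((a ^ i)⁻¹ * e * a ^ i) * (a ^ i)⁻¹ = e by group] at h
    exact ((show Commute _ _ from h).mul_left (Z.E_comm hE D ht he)).eq
  rw [mul_inv_eq_iff_eq_mul, hcomm] at hfe
  refine Z.z_ne (mul_eq_left (a := e).mp (mul_right_cancel hfe).symm)

theorem center_Q (D : OrderData G) {x : G} (hx : x ∈ Q) (hc : ∀ q ∈ Q, q * x = x * q) : x = 1 ∨ x = z := by
  by_contra hne
  push Not at hne
  have hxE := Z.cent_E hE D hx fun e he => (hc e (hE.le he)).symm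
  obtain ⟨d, hdL, hd, hdx⟩ := Z.exists_three hE D hxE hne.1 hne.2
  obtain ⟨y, hy, hyx⟩ := Z.not_commute_fix_three D hdL hd ⟨hx, mem_cnt1.mpr hdx⟩
    (Z.elementary hE D x hxE) hne.1 hne.2
  exact hyx (hc y hy.1)

theorem extraspecial (D : OrderData G) : Cfsg.IsExtraspecial 2 Q := by
  refine (LargeExtraspecial.isExtraspecial_of_gen (IsPGroup.of_card (n := 7) (Z.card_Q.trans (by norm_num)))
    Z.z_mem Z.z_ne (fun q hq => Z.z_central hE hq) (fun x hx h => Z.center_Q hE D hx h)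
    (fun x hx y hy => ?_) (fun x hx => Z.zpowers_eq (Z.sq_mem hE D hx)) ?_).1
  · rw [commutatorElement_def]
    exact Z.zpowers_eq (Z.comm_mem hE D hx hy)
  · obtain ⟨f, hf, -, -, -, -, -, -, e, he, hfe⟩ := Z.exists_f hE D
    refine ⟨f, hf, e, hE.le he, fun h => Z.z_ne ?_⟩
    rw [commutatorElement_def, hfe, mul_inv_eq_one, mul_eq_left] at h
    exact h

end ZData

end Cfsg.Agent.Order244823040
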