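/-
The conjugates of `z` in `Q`, and the setting of the recognition theorem.

Main result (namespace `Cfsg.Agent.Order244823040`): `exists_setting`.
-/
import Cfsg.Agent.Lib.Order244823040.Elem
import Cfsg.Agent.Lib.LargeExtraspecial.Simple

set_option autoImplicit false
set_option linter.unusedSectionVars false

open Subgroup Cfsg.Agent.SameOrder Cfsg.Agent.SmallOrders Cfsg.Agent.Order10200960

namespace Cfsg.Agent.Order244823040

variable {G : Type*} [Group G] [Finite G]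

/-- An involution of class `U` in `C(z)` centralised by a subgroup of order 512 of `C(z)`. -/
theorem exists_u_pair (D : OrderData G) {z : G} (hz : IsZ z) :
    ∃ u : G, IsU u ∧ z * u = u * z ∧ 512 ∣ Nat.card ↥(cnt1 z ⊓ cnt1 u) := by
  classical
  have : Fact (Nat.Prime 2) := ⟨Nat.prime_two⟩
  obtain ⟨u, hu⟩ := exists_u D
  obtain ⟨S0, hS0⟩ := Sylow.exists_subgroup_card_pow_prime (G := ↥(cnt1 u)) 2 (n := 9)
    (by rw [card_cent_u D hu]; norm_num)
  set S : Subgroup G := S0.map (cnt1 u).subtype with hS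
  have hS512 : Nat.card S = 2 ^ 9 := by
    rw [hS, ← Nat.card_congr (S0.equivMapOfInjective _ (cnt1 u).subtype_injective).toEquiv, hS0]
  have hSu : S ≤ cnt1 u := map_subtype_le _
  have hSp : IsPGroup 2 S := IsPGroup.of_card hS512
  have huS : u ∈ S := by
    have hnorm : S ≤ normalizer ((zpowers u : Subgroup G) : Set G) := fun s hs =>
      centralizer_le_normalizer _ (by rw [centralizer_zpowers]; exact hSu hs)
    have hsup : IsPGroup 2 (S ⊔ zpowers u : Subgroup G) :=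
      hSp.to_sup_of_normal_right' (IsPGroup.of_card (n := 1) (by rw [Nat.card_zpowers, hu.1, pow_one])) hnorm
    obtain ⟨k, hk⟩ := hsup.exists_card_eq
    have hd := card_dvd_of_le (sup_le hSu (zpowers_le.mpr (mem_cnt1.mpr rfl)) : S ⊔ zpowers u ≤ cnt1 u)
    rw [hk, card_cent_u D hu] at hd
    have hk9 : k ≤ 9 := by
      by_contra hlt
      exact absurd ((pow_dvd_pow 2 (show 10 ≤ k by omega)).trans hd) (by norm_num)
    have heq := eq_of_le_of_card_ge (le_sup_left : S ≤ S ⊔ zpowers u)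
      (by rw [hk, hS512]; exact Nat.pow_le_pow_right two_pos hk9)
    exact heq ▸ mem_sup_right (mem_zpowers u)
  obtain ⟨T, hT⟩ := hSp.exists_le_sylow
  have hT1024 : Nat.card (T : Subgroup G) = 2 ^ 10 :=
    card_sylow_subgroup (m := 239085) (by rw [D.card]; norm_num) (by norm_num) T
  have : Nontrivial (T : Subgroup G) := Finite.one_lt_card_iff_nontrivial.mp (by rw [hT1024]; norm_num)
  have := T.isPGroup'.center_nontrivial
  obtain ⟨w, hw⟩ := exists_prime_orderOf_dvd_card' (G := center (T : Subgroup G)) 2 (by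
    obtain ⟨k, hk0, hk⟩ := (T.isPGroup'.to_subgroup (center (T : Subgroup G))).nontrivial_iff_card.mp this
    rw [hk]; exact dvd_pow_self 2 hk0.ne')
  set t : G := ((w : (T : Subgroup G)) : G) with htdef
  have ht : orderOf t = 2 := by rw [htdef, orderOf_coe, orderOf_coe, hw]
  have hTt : (T : Subgroup G) ≤ cnt1 t := fun x hx => mem_centralizer_singleton_iff.mpr
    (congrArg Subtype.val (mem_center_iff.mp w.2 ⟨x, hx⟩))
  have htZ : IsZ t := (invol_cases D ht).resolve_right fun hU => by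
    have h := card_dvd_of_le hTt
    rw [hT1024, card_cent_u D hU] at h
    norm_num at h
  obtain ⟨g, hg⟩ := isConj_iff.mp (isConj_z D htZ hz)
  refine ⟨g * u * g⁻¹, hu.conj g, ?_, ?_⟩
  · have h := conj_comm (u := g) (mem_cnt1.mp (hTt (hT huS)))
    rwa [hg] at h
  · have hle : S.map (MulAut.conj g).toMonoidHom ≤ cnt1 z ⊓ cnt1 (g * u * g⁻¹) := by
      rintro _ ⟨s, hs, rfl⟩
      refine Subgroup.mem_inf.mpr ⟨mem_cnt1.mpr ?_, mem_cnt1.mpr (conj_comm (mem_cnt1.mp (hSu hs)))⟩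
      have h := conj_comm (u := g) (mem_cnt1.mp (hTt (hT hs)))
      rwa [hg] at h
    refine (dvd_of_eq ?_).trans (card_dvd_of_le hle)
    rw [← Nat.card_congr (S.equivMapOfInjective _ (MulAut.conj g).injective).toEquiv, hS512]
    norm_num

namespace ZData

variable {z a : G} {Q L : Subgroup G} (Z : ZData z a Q L) {E : Subgroup G} (hE : EData z Q E)
include Z hE

theorem card_cent_invol {l : G} (hl : l ∈ L) (hl2 : orderOf l = 2) : Nat.card ↥(L ⊓ cnt1 l) = 8 := by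
  have : Fact (Nat.Prime 7) := ⟨by norm_num⟩
  have : Fact (Nat.Prime 3) := ⟨Nat.prime_three⟩
  have : Fact (Nat.Prime 2) := ⟨Nat.prime_two⟩
  have := Z.simple_L
  obtain ⟨-, -, -, hT⟩ := S168.counting Z.card_L
  have hl2' : orderOf (⟨l, hl⟩ : L) = 2 := (orderOf_mk _ _).trans hl2
  obtain ⟨T, hlT, hlc⟩ := hT _ hl2'
  have h := S168.centralizer_center_two Z.card_L T hlT (fun e => by rw [e, orderOf_one] at hl2'; omega) hlc
  refine Eq.trans ?_ (S168.card_T Z.card_L T)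
  rw [← h]
  exact Nat.card_congr
    { toFun := fun g => ⟨⟨g.1, g.2.1⟩, mem_centralizer_singleton_iff.mpr
        (Subtype.ext (mem_centralizer_singleton_iff.mp g.2.2))⟩
      invFun := fun g => ⟨g.1.1, g.1.2,
        mem_centralizer_singleton_iff.mpr (congrArg Subtype.val (mem_centralizer_singleton_iff.mp g.2))⟩
      left_inv := fun _ => rfl
      right_inv := fun _ => rfl }

/-- An involution of class `U` with centraliser of order divisible by 512 in `C(z)` lies in `Q`. -/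
theorem mem_of_u (D : OrderData G) {u : G} (hu : orderOf u = 2) (hzu : z * u = u * z)
    (h512 : 512 ∣ Nat.card ↥(cnt1 z ⊓ cnt1 u)) : u ∈ Q := by
  classical
  have := Z.simple_L
  have := Z.normal_subgroupOf
  by_contra hno
  obtain ⟨q, hq, l, hl, rfl⟩ := Z.decomp u (mem_cnt1.mpr hzu)
  have hl1 : l ≠ 1 := fun e => hno (by rw [e, mul_one]; exact hq)
  have hll : l * l = 1 := by
    refine Z.disj _ ?_ (mul_mem hl hl)
    have e : l * l = (q * (l * q * l⁻¹))⁻¹ := by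
      refine eq_inv_of_mul_eq_one_right ?_
      rw [show q * (l * q * l⁻¹) * (l * l) = q * l * (q * l) by group, mul_self_of_two hu]
    rw [e]
    exact inv_mem (mul_mem hq (Z.normQ l (Z.L_le hl) q hq))
  have hl2 : orderOf l = 2 := orderOf_eq_prime (by rw [pow_two, hll]) hl1
  set M := cnt1 z ⊓ cnt1 (q * l) with hM
  -- the image of `M` in `L`
  have hproj : ∀ m ∈ M, ∃ q' ∈ Q, ∃ l' ∈ L ⊓ cnt1 l, m = q' * l' := by
    intro m hm
    obtain ⟨q', hq', l', hl', rfl⟩ := Z.decomp m (Subgroup.mem_inf.mp hm).1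
    refine ⟨q', hq', l', ⟨hl', mem_cnt1.mpr ?_⟩, rfl⟩
    have hc : q * l * (q' * l') = q' * l' * (q * l) := mem_cnt1.mp (Subgroup.mem_inf.mp hm).2
    have hmem : l * l' * (l' * l)⁻¹ ∈ Q := by
      have e : l * l' * (l' * l)⁻¹ = (q * (l * q' * l⁻¹))⁻¹ * (q' * (l' * q * l'⁻¹)) := by
        have h2 : q * (l * q' * l⁻¹) * (l * l') = q' * (l' * q * l'⁻¹) * (l' * l) := by
          calc q * (l * q' * l⁻¹) * (l * l') = q * l * (q' * l') := by group
            _ = q' * l' * (q * l) := hc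
            _ = _ := by group
        rw [← mul_inv_eq_iff_eq_mul.mpr h2]
        group
      rw [e]
      exact mul_mem (inv_mem (mul_mem hq (Z.normQ l (Z.L_le hl) q' hq')))
        (mul_mem hq' (Z.normQ l' (Z.L_le hl') q hq))
    exact mul_inv_eq_one.mp (Z.disj _ hmem (mul_mem (mul_mem hl hl') (inv_mem (mul_mem hl' hl))))
  set Qs : Subgroup (cnt1 z) := Q.subgroupOf (cnt1 z) with hQs
  let ψ : M →* cnt1 z ⧸ Qs := (QuotientGroup.mk' Qs).comp (Subgroup.inclusion inf_le_left)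
  have hrange : Nat.card ψ.range ≤ 8 := by
    rw [← Z.card_cent_invol hE hl hl2]
    refine Nat.card_le_card_of_surjective (fun k : {k : ↥(L ⊓ cnt1 l) //
        QuotientGroup.mk' Qs ⟨k.1, Z.L_le k.2.1⟩ ∈ ψ.range} => (⟨_, k.2⟩ : ψ.range)) ?_ |>.trans
      (Nat.card_le_card_of_injective Subtype.val Subtype.val_injective)
    rintro ⟨_, m, rfl⟩
    obtain ⟨q', hq', l', hl', e⟩ := hproj m m.2
    have e' : QuotientGroup.mk' Qs ⟨l', Z.L_le hl'.1⟩ = ψ m := by
      refine QuotientGroup.eq.mpr (mem_subgroupOf.mpr ?_)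
      show l'⁻¹ * (m : G) ∈ Q
      rw [e]
      have := Z.normQ _ (inv_mem (Z.L_le hl'.1)) q' hq'
      rwa [inv_inv, mul_assoc] at this
    exact ⟨⟨⟨l', hl'⟩, e' ▸ ⟨m, rfl⟩⟩, Subtype.ext e'⟩
  have hker : 64 ≤ Nat.card ψ.ker := by
    have h := ψ.ker.card_mul_index
    rw [index_ker] at h
    have h5 := Nat.le_of_dvd Nat.card_pos h512
    by_contra hlt
    have := Nat.mul_le_mul (show Nat.card ψ.ker ≤ 63 by omega) hrange
    omega
  -- the points fixed modulo `z`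
  let Fix : (k : G) → k ∈ cnt1 z → Subgroup Q := fun k hk =>
    { carrier := {x | k * x * k⁻¹ * (x : G)⁻¹ ∈ zpowers z}
      one_mem' := by simp
      mul_mem' := fun {x y} (hx : _ ∈ zpowers z) (hy : _ ∈ zpowers z) => by
        show k * ((x * y : Q) : G) * k⁻¹ * ((x * y : Q) : G)⁻¹ ∈ zpowers z
        rw [Subgroup.coe_mul, show k * ((x : G) * y) * k⁻¹ * ((x : G) * y)⁻¹ =
          (k * x * k⁻¹ * (x : G)⁻¹) * ((x : G) * (k * y * k⁻¹ * (y : G)⁻¹) * (x : G)⁻¹) by group]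
        exact mul_mem hx (Z.T_norm hE _ (Z.Q_le x.2) _ hy)
      inv_mem' := fun {x} (hx : _ ∈ zpowers z) => by
        show k * ((x⁻¹ : Q) : G) * k⁻¹ * ((x⁻¹ : Q) : G)⁻¹ ∈ zpowers z
        rw [Subgroup.coe_inv, inv_inv, show k * (x : G)⁻¹ * k⁻¹ * x =
          (x : G)⁻¹ * (k * x * k⁻¹ * (x : G)⁻¹)⁻¹ * x by group]
        have := Z.T_norm hE _ (inv_mem (Z.Q_le x.2)) _ (inv_mem hx)
        rwa [inv_inv] at this }
  have hmk : ∀ m : ψ.ker, ((m : M) : G) ∈ Q := fun m =>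
    mem_subgroupOf.mp (show (Subgroup.inclusion (inf_le_left : M ≤ cnt1 z) (m : M)) ∈ Qs from
      (QuotientGroup.eq_one_iff _).mp (MonoidHom.mem_ker.mp m.2))
  have hF : 64 ≤ Nat.card (Fix l (Z.L_le hl)) := by
    refine hker.trans (Nat.card_le_card_of_injective (fun m => (⟨⟨((m : M) : G), ?_⟩, ?_⟩ : Fix l (Z.L_le hl))) ?_)
    · exact hmk m
    · show l * ((m : M) : G) * l⁻¹ * ((m : M) : G)⁻¹ ∈ zpowers z
      have hmQ : ((m : M) : G) ∈ Q := hmk m
      have hc := mem_cnt1.mp (Subgroup.mem_inf.mp (m : M).2).2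
      rw [show l * ((m : M) : G) * l⁻¹ * ((m : M) : G)⁻¹ =
        q⁻¹ * (q * l * (m : M)) * l⁻¹ * ((m : M) : G)⁻¹ by group, hc]
      have h := Z.comm_mem hE D (inv_mem hq) hmQ
      simpa [mul_assoc] using h
    · intro m m' h
      exact Subtype.ext (Subtype.ext (congrArg (fun x : Fix l (Z.L_le hl) => ((x : Q) : G)) h))
  -- every involution of `L` behaves in the same way
  have hconj : ∀ t : G, (ht : t ∈ L) → orderOf t = 2 → 64 ≤ Nat.card (Fix t (Z.L_le ht)) := by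
    intro t ht ht2
    obtain ⟨s, hs⟩ := isConj_iff.mp (isConj_invol_168 Z.card_L (g := ⟨l, hl⟩) (k := ⟨t, ht⟩)
      ((orderOf_mk _ _).trans hl2) ((orderOf_mk _ _).trans ht2))
    have hs' : (s : G) * l * (s : G)⁻¹ = t := congrArg Subtype.val hs
    refine hF.trans (Nat.card_le_card_of_injective (fun x => (⟨⟨(s : G) * (x : Q) * (s : G)⁻¹,
      Z.normQ _ (Z.L_le s.2) _ (x : Q).2⟩, ?_⟩ : Fix t (Z.L_le ht))) ?_)
    · show t * ((s : G) * (x : Q) * (s : G)⁻¹) * t⁻¹ * ((s : G) * (x : Q) * (s : G)⁻¹)⁻¹ ∈ zpowers z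
      rw [← hs', show (s : G) * l * (s : G)⁻¹ * ((s : G) * (x : Q) * (s : G)⁻¹) * ((s : G) * l * (s : G)⁻¹)⁻¹ *
        ((s : G) * (x : Q) * (s : G)⁻¹)⁻¹ = (s : G) * (l * (x : Q) * l⁻¹ * ((x : Q) : G)⁻¹) * (s : G)⁻¹ by group]
      exact Z.T_norm hE _ (Z.L_le s.2) _ x.2
    · intro x x' h
      exact Subtype.ext (Subtype.ext (mul_left_cancel (mul_right_cancel
        (congrArg (fun y : Fix t (Z.L_le ht) => ((y : Q) : G)) h))))
  obtain ⟨d, hd⟩ : ∃ d : L, orderOf d = 3 := by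
    have : Fact (Nat.Prime 3) := ⟨Nat.prime_three⟩
    exact exists_prime_orderOf_dvd_card' 3 (by rw [Z.card_L]; norm_num)
  have hd' : orderOf (d : G) = 3 := (orderOf_coe d).trans hd
  obtain ⟨t, htL, ht2, htd⟩ := Z.exists_inverter d.2 hd'
  set t' := t * (d : G) with ht'
  have htt := mul_self_of_two ht2
  have ht'L : t' ∈ L := mul_mem htL d.2
  have ht'2 : orderOf t' = 2 := by
    refine orderOf_eq_prime ?_ fun e => ?_
    · rw [pow_two, show t' * t' = t * d * t⁻¹ * (t * t) * d by rw [ht']; group, htd, htt, mul_one, inv_mul_cancel]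
    · have : (d : G) = t := by rw [eq_inv_of_mul_eq_one_right e, inv_of_two ht2]
      rw [this, ht2] at hd'
      omega
  have hdt : (d : G) = t * t' := by rw [ht', ← mul_assoc, htt, one_mul]
  set F1 := Fix t (Z.L_le htL) with hF1
  set F2 := Fix t' (Z.L_le ht'L) with hF2
  have hidx : ∀ F : Subgroup Q, 64 ≤ Nat.card F → F.index ≤ 2 := fun F hF => by
    have h := F.card_mul_index
    rw [Z.card_Q] at h
    by_contra hlt
    have := Nat.mul_le_mul hF (show 3 ≤ F.index by omega)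
    omega
  have h32 : 32 ≤ Nat.card ↥(F1 ⊓ F2) := by
    have hi : (F1 ⊓ F2).index ≤ 4 := index_inf_le.trans
      (Nat.mul_le_mul (hidx _ (hconj t htL ht2)) (hidx _ (hconj t' ht'L ht'2)))
    have h := (F1 ⊓ F2).card_mul_index
    rw [Z.card_Q] at h
    by_contra hlt
    have := Nat.mul_le_mul (show Nat.card ↥(F1 ⊓ F2) ≤ 31 by omega) hi
    omega
  have h8 : Nat.card ↥(F1 ⊓ F2) ≤ 8 := by
    rw [← Z.card_fix_three D d.2 hd']
    refine Nat.card_le_card_of_injective (fun x => ⟨((x : Q) : G), (x : Q).2, mem_cnt1.mpr ?_⟩) ?_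
    · refine comm_of_odd (by rw [hd']; decide) (Z.comm_z (Z.L_le d.2)) Z.zz ?_
      have h1 : t * ((x : Q) : G) * t⁻¹ * ((x : Q) : G)⁻¹ ∈ zpowers z := (Subgroup.mem_inf.mp x.2).1
      have h2 : t' * ((x : Q) : G) * t'⁻¹ * ((x : Q) : G)⁻¹ ∈ zpowers z := (Subgroup.mem_inf.mp x.2).2
      have h3 : (d : G) * ((x : Q) : G) * (d : G)⁻¹ * ((x : Q) : G)⁻¹ ∈ zpowers z := by
        rw [hdt, show t * t' * ((x : Q) : G) * (t * t')⁻¹ * ((x : Q) : G)⁻¹ =
          t * (t' * ((x : Q) : G) * t'⁻¹ * ((x : Q) : G)⁻¹) * t⁻¹ * (t * ((x : Q) : G) * t⁻¹ * ((x : Q) : G)⁻¹)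
          by group]
        exact mul_mem (Z.T_norm hE _ (Z.L_le htL) _ h2) h1
      rcases Z.zpowers_eq h3 with h | h
      · exact Or.inl (mul_inv_eq_one.mp h)
      · exact Or.inr ((mul_inv_eq_iff_eq_mul.mp h).trans (Z.z_central hE (x : Q).2).symm)
    · intro x x' h
      have h' : ((x : Q) : G) = ((x' : Q) : G) := congrArg (fun y : ↥(Q ⊓ cnt1 (d : G)) => (y : G)) h
      exact Subtype.ext (Subtype.ext h')
  omega

theorem card_E_ne_one : Nat.card {e : G // e ∈ E ∧ e ≠ 1} = 15 := by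
  have e : Option {e : G // e ∈ E ∧ e ≠ 1} ≃ E :=
    Equiv.ofBijective (fun o => o.elim 1 fun e => ⟨e.1, e.2.1⟩) ⟨by
      rintro (_ | x) (_ | y) h
      · rfl
      · exact absurd (congrArg (fun w : E => (w : G)) h).symm y.2.2
      · exact absurd (congrArg (fun w : E => (w : G)) h) x.2.2
      · have h' : x.1 = y.1 := congrArg (fun w : E => (w : G)) h
        exact congrArg some (Subtype.ext h'), fun w => by
      by_cases h : (w : G) = 1
      · exact ⟨none, Subtype.ext h.symm⟩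
      · exact ⟨some ⟨w, w.2, h⟩, rfl⟩⟩
  have h := Nat.card_congr e
  rw [Finite.card_option, hE.card] at h
  omega

theorem card_invol_le (D : OrderData G) : Nat.card {x : G // x ∈ Q ∧ orderOf x = 2} ≤ 71 := by
  classical
  obtain ⟨f, hf, hfE, hff, -, -, -, -, e, he, hfe⟩ := Z.exists_f hE D
  set C := E ⊓ cnt1 f with hC
  have hC8 : Nat.card C ≤ 8 := by
    have hd : Nat.card C ∣ 2 ^ 4 := (card_dvd_of_le (inf_le_left : C ≤ E)).trans (dvd_of_eq hE.card)
    obtain ⟨i, hi, hci⟩ := (Nat.dvd_prime_pow Nat.prime_two).mp hd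
    have hne : i ≠ 4 := fun h4 => by
      have heq := eq_of_le_of_card_ge (inf_le_left : C ≤ E) (by rw [hE.card, hci, h4]; norm_num)
      have heC : e ∈ C := by rw [hC, heq]; exact he
      have hc : f * e = e * f := mem_cnt1.mp (Subgroup.mem_inf.mp heC).2
      rw [mul_inv_eq_iff_eq_mul.mpr hc] at hfe
      exact Z.z_ne (mul_eq_left.mp hfe.symm)
    rw [hci]
    exact Nat.pow_le_pow_right two_pos (show i ≤ 3 by omega)
  have hsrc : Nat.card ({e : G // e ∈ E ∧ e ≠ 1} ⊕ Fin 7 × C) ≤ 71 := by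
    rw [Nat.card_sum, Nat.card_prod, Nat.card_fin, Z.card_E_ne_one hE]
    omega
  refine le_trans ?_ hsrc
  refine Nat.card_le_card_of_surjective (Sum.elim
    (fun x => ⟨x.1, hE.le x.2.1, orderOf_eq_prime (by rw [pow_two, Z.elementary hE D x.1 x.2.1]) x.2.2⟩)
    (fun p => ⟨a ^ p.1.val * (f * p.2) * (a ^ p.1.val)⁻¹,
      Z.normQ _ (Z.a_pow_mem p.1.val) _ (mul_mem hf (hE.le p.2.2.1)), by
        rw [orderOf_conj]
        refine orderOf_eq_prime ?_ fun h => hfE ?_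
        · rw [(show Commute f (p.2 : G) from mem_cnt1.mp p.2.2.2).mul_pow, pow_two, pow_two, hff,
            Z.elementary hE D _ p.2.2.1, one_mul]
        · rw [eq_inv_of_mul_eq_one_left h]
          exact inv_mem p.2.2.1⟩)) ?_
  rintro ⟨x, hxQ, hx2⟩
  by_cases hxE : x ∈ E
  · exact ⟨Sum.inl ⟨x, hxE, ne_one_of_two hx2⟩, rfl⟩
  obtain ⟨i, hi, t, ht, rfl⟩ := Z.Q_cover hE D hf hfE hxQ hxE
  set t' := (a ^ i)⁻¹ * t * a ^ i with ht'
  have ht'E : t' ∈ E := by
    have := hE.norm _ (inv_mem (Z.a_pow_mem i)) t ht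
    rwa [inv_inv] at this
  have hxe : a ^ i * (f * t') * (a ^ i)⁻¹ = a ^ i * f * (a ^ i)⁻¹ * t := by rw [ht']; group
  have ht'C : t' ∈ C := by
    refine ⟨ht'E, mem_cnt1.mpr ?_⟩
    rw [← hxe, orderOf_conj] at hx2
    have h := inv_of_two hx2
    rw [mul_inv_rev, inv_eq_of_mul_eq_one_right hff, inv_eq_of_mul_eq_one_right (Z.elementary hE D t' ht'E)] at h
    exact h.symm
  exact ⟨Sum.inr (⟨i, hi⟩, ⟨t', ht'C⟩), Subtype.ext hxe⟩

theorem le_card_zset (D : OrderData G) : 29 ≤ Nat.card {x : G // x ∈ Q ∧ IsZ x} := by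
  classical
  obtain ⟨f, hf, hfE, hff, d, hdL, hd, hdf, e, he, hfe⟩ := Z.exists_f hE D
  have hZd : ∀ {d' x : G}, d' ∈ L → orderOf d' = 3 → orderOf x = 2 → d' * x = x * d' → IsZ x :=
    fun {d' x} hL' h3 h2 hc => (invol_cases D h2).resolve_right fun hU =>
      separated D h3 Z.isZ hU (Z.comm_z (Z.L_le hL')) hc
  have hEZ : ∀ x : G, x ∈ E → x ≠ 1 → IsZ x := fun x hx hx1 => by
    rcases eq_or_ne x z with rfl | hxz
    · exact Z.isZ
    obtain ⟨d', hd'L, hd', hc⟩ := Z.exists_three hE D hx hx1 hxz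
    exact hZd hd'L hd' (orderOf_eq_prime (by rw [pow_two, Z.elementary hE D x hx]) hx1) hc
  have hf2 : orderOf f = 2 :=
    orderOf_eq_prime (by rw [pow_two, hff]) fun h => hfE (h ▸ one_mem E)
  have hfZ : IsZ f := hZd hdL hd hf2 hdf
  have hfz : ∀ j : Fin 2, IsZ (f * z ^ j.val) := by
    intro j
    fin_cases j
    · simpa using hfZ
    · have h1 : e * f * e⁻¹ = f * z := by
        rw [mul_inv_eq_iff_eq_mul] at hfe ⊢
        rw [mul_assoc f z e, ← Z.z_central hE (hE.le he), ← mul_assoc f e z, hfe, mul_assoc (e * z) f z,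
          Z.z_central hE hf, ← mul_assoc (e * z) z f, mul_assoc e z z, Z.zz, mul_one]
      simpa [h1] using hfZ.conj e
  have hzmem : ∀ j : Fin 2, z ^ j.val ∈ E := fun j => pow_mem hE.z_mem _
  have hsrc : Nat.card ({e : G // e ∈ E ∧ e ≠ 1} ⊕ Fin 7 × Fin 2) = 29 := by
    rw [Nat.card_sum, Nat.card_prod, Nat.card_fin, Nat.card_fin, Z.card_E_ne_one hE]
  rw [← hsrc]
  refine Nat.card_le_card_of_injective (Sum.elim
    (fun x => ⟨x.1, hE.le x.2.1, hEZ x.1 x.2.1 x.2.2⟩)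
    (fun p => ⟨a ^ p.1.val * (f * z ^ p.2.val) * (a ^ p.1.val)⁻¹,
      Z.normQ _ (Z.a_pow_mem p.1.val) _ (mul_mem hf (hE.le (hzmem p.2))), (hfz p.2).conj _⟩)) ?_
  have hout : ∀ p : Fin 7 × Fin 2, a ^ p.1.val * (f * z ^ p.2.val) * (a ^ p.1.val)⁻¹ ∉ E := fun p hm => hfE (by
    have h := hE.norm _ (inv_mem (Z.a_pow_mem p.1.val)) _ hm
    rw [show (a ^ p.1.val)⁻¹ * (a ^ p.1.val * (f * z ^ p.2.val) * (a ^ p.1.val)⁻¹) * ((a ^ p.1.val)⁻¹)⁻¹ =
      f * z ^ p.2.val by group] at h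
    simpa using mul_mem h (inv_mem (hzmem p.2)))
  refine Function.Injective.sumElim (fun x y h => Subtype.ext (congrArg Subtype.val h :)) ?_ ?_
  · rintro ⟨i, j⟩ ⟨i', j'⟩ h
    have h' : a ^ i.val * (f * z ^ j.val) * (a ^ i.val)⁻¹ = a ^ i'.val * (f * z ^ j'.val) * (a ^ i'.val)⁻¹ :=
      congrArg Subtype.val h
    have hzc : ∀ (n m : ℕ), a ^ n * (f * z ^ m) * (a ^ n)⁻¹ = a ^ n * f * (a ^ n)⁻¹ * z ^ m := fun n m => by
      have hc : Commute ((a ^ n)⁻¹) (z ^ m) :=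
        ((show Commute (a ^ n) z from Z.comm_z (Z.a_pow_mem n)).pow_right m).inv_left
      calc a ^ n * (f * z ^ m) * (a ^ n)⁻¹ = a ^ n * f * (z ^ m * (a ^ n)⁻¹) := by group
        _ = a ^ n * f * ((a ^ n)⁻¹ * z ^ m) := by rw [hc.eq]
        _ = _ := by group
    rw [hzc, hzc] at h'
    obtain ⟨e1, e2⟩ := Z.orbit_inj D hE.z_mem hE.le hE.norm hf hfE i.2 i'.2 (hzmem j) (hzmem j') h'
    refine Prod.ext (Fin.ext e1) (Fin.ext ?_)
    have h3 := pow_inj_mod.mp e2
    rw [Z.isZ.1, Nat.mod_eq_of_lt j.2, Nat.mod_eq_of_lt j'.2] at h3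
    exact h3
  · intro x p h
    have h' : x.1 = a ^ p.1.val * (f * z ^ p.2.val) * (a ^ p.1.val)⁻¹ := congrArg Subtype.val h
    exact hout p (h' ▸ x.2.1)

theorem le_card_uset (D : OrderData G) : 42 ≤ Nat.card {x : G // x ∈ Q ∧ IsU x} := by
  classical
  obtain ⟨u, hu, hzu, h512⟩ := exists_u_pair D Z.isZ
  have huQ := Z.mem_of_u hE D hu.1 hzu h512
  have hcl := class_in_subgroup (cnt1 z) (mem_cnt1.mpr hzu)
  rw [card_cent_z D Z.isZ] at hcl
  have h1536 : Nat.card ↥(cnt1 z ⊓ cnt1 u) ∣ 1536 := by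
    have h := Nat.dvd_gcd ((card_dvd_of_le (inf_le_left : cnt1 z ⊓ cnt1 u ≤ _)).trans (dvd_of_eq (card_cent_z D Z.isZ)))
      ((card_dvd_of_le (inf_le_right : cnt1 z ⊓ cnt1 u ≤ _)).trans (dvd_of_eq (card_cent_u D hu)))
    exact h.trans (dvd_of_eq (by norm_num))
  have h3 : ¬ 3 ∣ Nat.card ↥(cnt1 z ⊓ cnt1 u) := fun h => by
    have : Fact (Nat.Prime 3) := ⟨Nat.prime_three⟩
    obtain ⟨v, hv⟩ := exists_prime_orderOf_dvd_card' (G := ↥(cnt1 z ⊓ cnt1 u)) 3 h
    exact separated D ((orderOf_coe v).trans hv) Z.isZ hu (mem_cnt1.mp (Subgroup.mem_inf.mp v.2).1).symm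
      (mem_cnt1.mp (Subgroup.mem_inf.mp v.2).2).symm
  have h512' : Nat.card ↥(cnt1 z ⊓ cnt1 u) ∣ 512 :=
    ((Nat.Prime.coprime_iff_not_dvd Nat.prime_three).mpr h3).symm.dvd_of_dvd_mul_right
      (h1536.trans (dvd_of_eq (by norm_num : (1536 : ℕ) = 512 * 3)))
  have hle := Nat.le_of_dvd (by norm_num) h512'
  have h42 : 42 ≤ Nat.card {g : G // ∃ n ∈ cnt1 z, n * u * n⁻¹ = g} := by
    by_contra hlt
    have := Nat.mul_le_mul (show Nat.card {g : G // ∃ n ∈ cnt1 z, n * u * n⁻¹ = g} ≤ 41 by omega) hle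
    omega
  refine h42.trans (Nat.card_le_card_of_injective (fun g => ⟨g.1, ?_⟩) fun x y h => Subtype.ext (congrArg Subtype.val h :))
  obtain ⟨n, hn, e⟩ := g.2
  rw [← e]
  exact ⟨Z.normQ n hn u huQ, hu.conj n⟩

/-- Exactly 29 conjugates of `z` lie in `Q`. -/
theorem card_zset_Q (D : OrderData G) : Nat.card {x : G // x ∈ Q ∧ IsZ x} = 29 := by
  classical
  have h1 := Z.le_card_zset hE D
  have h2 := Z.le_card_uset hE D
  have h3 : Nat.card ({x : G // x ∈ Q ∧ IsZ x} ⊕ {x : G // x ∈ Q ∧ IsU x}) ≤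
      Nat.card {x : G // x ∈ Q ∧ orderOf x = 2} := by
    refine Nat.card_le_card_of_injective (Sum.elim (fun x => ⟨x.1, x.2.1, x.2.2.1⟩)
      (fun x => ⟨x.1, x.2.1, x.2.2.1⟩)) ?_
    refine Function.Injective.sumElim (fun x y h => Subtype.ext (congrArg Subtype.val h :))
      (fun x y h => Subtype.ext (congrArg Subtype.val h :)) fun x y h => ?_
    have h' : x.1 = y.1 := congrArg Subtype.val h
    exact not_z_of_u D y.2.2 (h' ▸ x.2.2)
  rw [Nat.card_sum] at h3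
  have := Z.card_invol_le hE D
  omega

end ZData

/-- The setting in which the centraliser of an involution of `M24` is recognised. -/
theorem exists_setting (D : OrderData G) :
    ∃ (z : G) (Q : Subgroup (Subgroup.centralizer ({z} : Set G))) (_ : Q.Normal),
      IsZ z ∧ Cfsg.IsExtraspecial 2 Q ∧ Nat.card Q = 2 ^ 7 ∧
      Subgroup.centralizer (Q : Set (Subgroup.centralizer ({z} : Set G))) ≤ Q ∧
      Nonempty ((Subgroup.centralizer ({z} : Set G)) ⧸ Q ≃* Matrix.SpecialLinearGroup (Fin 3) (ZMod 2)) ∧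
      {x | x ∈ Q ∧ IsConj z (x : G)}.ncard = 29 := by
  classical
  obtain ⟨z, a, Q, L, Z⟩ := exists_zdata D
  obtain ⟨E, hE⟩ := Z.exists_EData D
  have := Z.simple_L
  have hn := Z.normal_subgroupOf
  refine ⟨z, Q.subgroupOf (cnt1 z), hn, Z.isZ, ?_, ?_, ?_, ?_, ?_⟩
  · exact LargeExtraspecial.isExtraspecial_congr (subgroupOfEquivOfLe Z.Q_le).symm (Z.extraspecial hE D)
  · rw [Nat.card_congr (subgroupOfEquivOfLe Z.Q_le).toEquiv, Z.card_Q]; norm_num
  · intro g hg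
    refine mem_subgroupOf.mpr (Z.self_cent fun q hq => ?_)
    exact congrArg Subtype.val (mem_centralizer_iff.mp hg ⟨q, Z.Q_le hq⟩ (mem_subgroupOf.mpr hq)).symm
  · obtain ⟨e⟩ := sl_iso Z.card_L
    let f : L →* cnt1 z ⧸ Q.subgroupOf (cnt1 z) :=
      (QuotientGroup.mk' _).comp (Subgroup.inclusion Z.L_le)
    have hf : Function.Bijective f := by
      refine ⟨(injective_iff_map_eq_one f).mpr fun l hl => Subtype.ext ?_, fun x => ?_⟩
      · exact Z.disj l (mem_subgroupOf.mp (show Subgroup.inclusion Z.L_le l ∈ Q.subgroupOf (cnt1 z) from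
          (QuotientGroup.eq_one_iff _).mp hl)) l.2
      · obtain ⟨h, rfl⟩ := QuotientGroup.mk'_surjective _ x
        obtain ⟨q, hq, l, hl, hql⟩ := Z.decomp h h.2
        refine ⟨⟨l, hl⟩, QuotientGroup.eq.mpr (mem_subgroupOf.mpr ?_)⟩
        show l⁻¹ * (h : G) ∈ Q
        rw [hql]
        have := Z.normQ _ (inv_mem (Z.L_le hl)) q hq
        rwa [inv_inv, mul_assoc] at this
    exact ⟨(MulEquiv.ofBijective f hf).symm.trans e⟩
  · rw [← Nat.card_coe_set_eq, ← Z.card_zset_Q hE D]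
    refine Nat.card_congr
      { toFun := fun x => ⟨x.1.1, mem_subgroupOf.mp x.2.1, ?_⟩
        invFun := fun x => ⟨⟨x.1, Z.Q_le x.2.1⟩, mem_subgroupOf.mpr x.2.1, isConj_z D Z.isZ x.2.2⟩
        left_inv := fun _ => rfl
        right_inv := fun _ => rfl }
    obtain ⟨w, hw⟩ := isConj_iff.mp x.2.2
    exact hw ▸ Z.isZ.conj w

end Cfsg.Agent.Order244823040
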