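/-
From the coded involution centraliser with 29 conjugates to `M₂₄`, by the order.

Main results (namespace `Cfsg.Agent.Order244823040`): `iso_of_four_card`, `iso_of_count`,
`iso_of_orderData`.
-/
import Cfsg.Agent.Lib.TransvCent.Recog
import Cfsg.Agent.Lib.Order244823040.Extra
import Cfsg.Agent.Lib.TransvCent.Assembly
import Cfsg.Agent.Lib.TransvCent.Targets

set_option autoImplicit false

open Cfsg

universe u

namespace Cfsg.Agent.Order244823040

local notation "SL5" => Matrix.SpecialLinearGroup (Fin 5) (ZMod 2)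

variable {G : Type u} [Group G] [Finite G]

omit [Finite G] in
/-- Of the four groups only `M₂₄` has order 244823040. -/
theorem iso_of_four_card (hn : Nat.card G = 244823040)
    (h : (∃ v : Fin 5 → ZMod 2, v ≠ 0 ∧ Nonempty (G ≃* MulAction.stabilizer SL5 v)) ∨
      Nonempty (G ≃* SL5) ∨ Nonempty (G ≃* Cfsg.M24) ∨ Cfsg.Spor.IsoHe G) : Nonempty (G ≃* Cfsg.M24) := by
  rcases h with ⟨v, -, ⟨e⟩⟩ | ⟨⟨e⟩⟩ | h | ⟨⟨e⟩⟩
  · have hd := Subgroup.card_subgroup_dvd_card (MulAction.stabilizer SL5 v)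
    rw [← Nat.card_congr e.toEquiv, hn, J4Type.TwoTen.natCard_SL5] at hd
    norm_num at hd
  · have hc := Nat.card_congr e.toEquiv
    rw [hn, J4Type.TwoTen.natCard_SL5] at hc
    norm_num at hc
  · exact h
  · have hc := Nat.card_congr e.toEquiv
    have hHe : Nat.card Cfsg.Spor.He = 4030387200 := S1695.result.2
    rw [hn, hHe] at hc
    norm_num at hc

/-- An involution with centraliser `2^(1+6).SL(3,2)` and 29 conjugates in the radical gives `M₂₄`, given the
three completions and the witness of the transvection cluster. -/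
theorem iso_of_count {tL : Fin 4 → SL5} {tM : Fin 4 → ↥Cfsg.M24} {tH : Fin 4 → Cfsg.Spor.He}
    (h1 : TransvCent.Completes.{u} SL5 tL TransvCent.relsL5)
    (h2 : TransvCent.Completes.{u} (↥Cfsg.M24) tM TransvCent.relsM24)
    (h3 : TransvCent.Completes.{u} Cfsg.Spor.He tH TransvCent.relsHe)
    (hwit : TransvCent.Coding.HeWitness (TransvCent.evW tH TransvCent.Amalgam.zWord))
    (hn : Nat.card G = 244823040) {z : G} (hz : orderOf z = 2)
    (Q : Subgroup ↥(Subgroup.centralizer ({z} : Set G))) [Q.Normal] (hQ : Cfsg.IsExtraspecial 2 Q)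
    (hcard : Nat.card Q = 2 ^ 7)
    (hself : Subgroup.centralizer (Q : Set ↥(Subgroup.centralizer ({z} : Set G))) ≤ Q)
    (e : ↥(Subgroup.centralizer ({z} : Set G)) ⧸ Q ≃* Matrix.SpecialLinearGroup (Fin 3) (ZMod 2))
    (h29 : {x : ↥(Subgroup.centralizer ({z} : Set G)) | x ∈ Q ∧ IsConj z (x : G)}.ncard = 29) :
    Nonempty (G ≃* Cfsg.M24) := by
  classical
  obtain ⟨c⟩ := TransvCent.coding_of_count hz Q hQ hcard hself e h29
  obtain ⟨x, hx, hne⟩ := Set.exists_ne_of_one_lt_ncard
    (show 1 < {x : ↥(Subgroup.centralizer ({z} : Set G)) | x ∈ Q ∧ IsConj z (x : G)}.ncard by rw [h29]; norm_num)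
    ⟨z, Subgroup.mem_centralizer_singleton_iff.2 rfl⟩
  exact iso_of_four_card hn (TransvCent.four_of_completes h1 h2 h3 hwit c
    (Subgroup.mem_centralizer_singleton_iff.1 x.2) (fun h => hne (Subtype.ext h)) hx.2)

/-- A group with the orders of elements of `M₂₄` is `M₂₄`, given the three completions and the witness. -/
theorem iso_of_orderData {tL : Fin 4 → SL5} {tM : Fin 4 → ↥Cfsg.M24} {tH : Fin 4 → Cfsg.Spor.He}
    (h1 : TransvCent.Completes.{u} SL5 tL TransvCent.relsL5)
    (h2 : TransvCent.Completes.{u} (↥Cfsg.M24) tM TransvCent.relsM24)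
    (h3 : TransvCent.Completes.{u} Cfsg.Spor.He tH TransvCent.relsHe)
    (hwit : TransvCent.Coding.HeWitness (TransvCent.evW tH TransvCent.Amalgam.zWord))
    (D : OrderData G) : Nonempty (G ≃* Cfsg.M24) := by
  obtain ⟨z, Q, _, hz, hQ, hcard, hself, ⟨e⟩, h29⟩ := exists_setting D
  exact iso_of_count h1 h2 h3 hwit D.card hz.1 Q hQ hcard hself e h29

end Cfsg.Agent.Order244823040
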