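/-
A cheap bound for the centraliser of a coded element of `Cfsg.M24`, along the stabiliser chain.

Main results (namespace `Cfsg.Agent.Order244823040`): `ex`, `cbound`, `card_centralizer_le_cbound`,
`ex_of_conj`.
-/
import Cfsg.Agent.Lib.Order10200960.Search

set_option autoImplicit false

open Cfsg Cfsg.Agent.Golay Cfsg.Agent.GolayClasses Cfsg.Agent.Order10200960

namespace Cfsg.Agent.Order244823040

/-- Whether some product with the given beginning may conjugate `r` to `r'`. -/
def ex (r r' : ℕ) : ℕ → List ℕ → Bool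
  | 0, ds => fullOK r r' ds
  | j + 1, ds => (transTable.getD (6 - j) []).any fun d =>
      stepOK r r' (6 - j) (ds ++ [d]) && ex r r' j (ds ++ [d])

/-- A bound for the centraliser of `r` in the stabiliser of the first `7 - j` base points. -/
def cbound (r : ℕ) : ℕ → ℕ
  | 0 => 1
  | j + 1 => ((transTable.getD (6 - j) []).filter fun d => stepOK r r (6 - j) [d] && ex r r j [d]).length *
      cbound r j

variable {r r' : ℕ}

theorem ex_of_cnt_pos : ∀ j ds, 0 < cnt r r' j ds → ex r r' j ds = true
  | 0, ds, h => by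
    rw [cnt] at h
    cases hf : fullOK r r' ds with
    | true => rw [ex, hf]
    | false => simp [hf] at h
  | j + 1, ds, h => by
    rw [cnt] at h
    obtain ⟨x, hx, hpos⟩ : ∃ x ∈ ((transTable.getD (6 - j) []).map fun d =>
        bif stepOK r r' (6 - j) (ds ++ [d]) then cnt r r' j (ds ++ [d]) else 0), 0 < x := by
      by_contra hno
      push Not at hno
      rw [List.sum_eq_zero fun x hx => Nat.le_zero.mp (hno x hx)] at h
      exact absurd h (lt_irrefl 0)
    obtain ⟨d, hd, rfl⟩ := List.mem_map.mp hx
    rw [ex, List.any_eq_true]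
    refine ⟨d, hd, ?_⟩
    cases hs : stepOK r r' (6 - j) (ds ++ [d]) with
    | true =>
      rw [hs, cond_true] at hpos
      rw [Bool.true_and]
      exact ex_of_cnt_pos j _ hpos
    | false => simp [hs] at hpos

theorem ex_of_conj (hr : validPerm r = true) (hr' : validPerm r' = true) {j : ℕ} (hj : j ≤ 7) {ds : List ℕ}
    (hds : ∀ d ∈ ds, isAut d = true) {h : Equiv.Perm GolayPt} (hh : h ∈ chain (7 - j))
    (hc : prodPerm ds * h * toPerm r = toPerm r' * (prodPerm ds * h)) : ex r r' j ds = true :=
  ex_of_cnt_pos j ds (lt_of_lt_of_le (Nat.card_pos_iff.mpr ⟨⟨⟨h, hh, hc⟩⟩, inferInstance⟩)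
    (card_le_cnt hr hr' j hj ds hds))

theorem card_centralizer_le_cbound (hr : validPerm r = true) :
    ∀ j, j ≤ 7 → Nat.card {g : Equiv.Perm GolayPt // g ∈ chain (7 - j) ∧ g * toPerm r = toPerm r * g} ≤ cbound r j
  | 0, _ => by
    refine Finite.card_le_one_iff_subsingleton.mpr ⟨fun a b => Subtype.ext ?_⟩
    have ha : a.1 = 1 := Subgroup.mem_bot.mp (chain_seven ▸ a.2.1)
    have hb : b.1 = 1 := Subgroup.mem_bot.mp (chain_seven ▸ b.2.1)
    rw [ha, hb]
  | j + 1, hj => by
    classical
    set k := 6 - j with hk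
    have hk7 : k < 7 := by omega
    have e1 : 7 - (j + 1) = k := by omega
    have e2 : 7 - j = k + 1 := by omega
    set T := transTable.getD k [] with hT
    have hTaut : ∀ d ∈ T, isAut d = true := fun d hd => by
      have h := levelCheck_all k hk7
      simp only [levelCheck, Bool.and_eq_true, List.all_eq_true] at h
      exact (h.1 d hd).1
    set F := T.filter fun d => stepOK r r k [d] && ex r r j [d] with hF
    set S := {g : Equiv.Perm GolayPt // g ∈ chain k ∧ g * toPerm r = toPerm r * g} with hS
    have hδ : ∀ s : S, ∃ d : {d : ℕ // d ∈ F.toFinset}, (toPerm d.1)⁻¹ * s.1 ∈ chain (k + 1) := by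
      intro s
      obtain ⟨d, hd, -, hrest⟩ := exists_transversal_mem hk7 s.2.1
      have hds : ∀ x ∈ [d], isAut x = true := by simpa using hTaut d hd
      have hc : prodPerm [d] * ((toPerm d)⁻¹ * s.1) * toPerm r =
          toPerm r * (prodPerm [d] * ((toPerm d)⁻¹ * s.1)) := by
        simp [prodPerm, s.2.2]
      refine ⟨⟨d, ?_⟩, hrest⟩
      rw [List.mem_toFinset, hF, List.mem_filter, Bool.and_eq_true]
      exact ⟨hd, stepOK_of_conj hr hr hk7 hds hrest hc,
        ex_of_conj hr hr (by omega) hds (e2.symm ▸ hrest) hc⟩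
    choose δ hδ' using hδ
    have : Nonempty S := ⟨⟨1, one_mem _, by rw [one_mul, mul_one]⟩⟩
    let f : S → {d : ℕ // d ∈ F.toFinset} ×
        {g : Equiv.Perm GolayPt // g ∈ chain (7 - j) ∧ g * toPerm r = toPerm r * g} := fun s =>
      (δ s, ⟨(Function.invFun δ (δ s)).1⁻¹ * s.1, by
        have h1 := hδ' (Function.invFun δ (δ s))
        rw [Function.invFun_eq (f := δ) (b := δ s) ⟨s, rfl⟩] at h1
        have h2 := mul_mem (inv_mem h1) (hδ' s)
        rw [e2]
        simpa [mul_assoc] using h2, by
        have hc := (Function.invFun δ (δ s)).2.2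
        exact ((show Commute _ _ from hc).inv_left.mul_left (show Commute _ _ from s.2.2)).eq⟩)
    have hf : Function.Injective f := fun s t e => by
      obtain ⟨h1, h2⟩ := Prod.ext_iff.mp e
      have h2' := congrArg Subtype.val h2
      simp only [f] at h1 h2'
      rw [h1] at h2'
      exact Subtype.ext (mul_left_cancel h2')
    rw [e1]
    refine (Nat.card_le_card_of_injective f hf).trans ?_
    rw [Nat.card_prod, cbound, ← hk, ← hT, ← hF]
    refine Nat.mul_le_mul ?_ (card_centralizer_le_cbound hr j (by omega))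
    rw [Nat.card_eq_fintype_card, Fintype.card_coe]
    exact F.toFinset_card_le

end Cfsg.Agent.Order244823040
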