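/-
Representatives of the classes of `Cfsg.M24`, coded by five bits for each point; produced by a
search program and checked by the kernel where used.
-/
import Cfsg.Agent.EqLemmas

set_option autoImplicit false

namespace Cfsg.Agent.Order244823040

/-- Representatives: order, order of centraliser, numbers of fixed points of the element and its square
packed by five bits, code, code of inverse, number of classes. -/
def reps : List (ℕ × ℕ × ℕ × ℕ × ℕ × ℕ) :=
  [
   (2, 21504, 280, 0x58ea349d04c5ac5d1e8acc6428457, 0x58ea349d04c5ac5d1e8acc6428457, 1),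
   (2, 7680, 24, 0x2d474b5c834644b5670a3c6c28457, 0x2d474b5c834644b5670a3c6c28457, 1),
   (3, 1080, 198, 0x2a1493e289b9acb2c953a44628ee1, 0xad147ce35939ac558d03906911417, 1),
   (3, 504, 0, 0x95f0b296e3d2286a646ab26220c17, 0x4cee2a5b4ac1668c94c7a2c3112e1, 1),
   (4, 384, 8, 0x41464b0a43c6c89566b7d06d706e2, 0xb5464add638c924566c7d23028057, 1),
   (4, 128, 136, 0x59554ae2d99612418ec7d1c4186e2, 0xda867b22d396089566b4a9c418057, 1),
   (4, 96, 0, 0xd20869ca994553ab1662586f70057, 0x197663dd520e6a4b61492227286e2, 1),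
   (5, 60, 132, 0xaaa47a62d5b91095267658a610077, 0x1aaa4ae2c9ba077da4d410b408ee2, 1),
   (6, 24, 70, 0x112e2be4daaa088d1663b2611dae2, 0x89ea2c56d952064baac3a27618097, 1),
   (6, 24, 0, 0x44f06cd0ea54b2b198a7ad2120ee2, 0xadcf932d43c269320b1aa9a310097, 1),
   (7, 42, 99, 0x557379a29b151462a5069c2470ee2, 0xbecca262898cebaaa0d349c4100b7, 2),
   (8, 16, 68, 0x4994556d3440ab7b8d138da9b9041, 0x1c6548590e5a8b564c8f3a5a230417, 1),
   (10, 20, 4, 0x312f439543ca058b561a9266b0ee2, 0x8cf02b96da49564c6b37918610117, 1),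
   (11, 11, 66, 0x3a4483d119a84caae963a5a535c61, 0x121697d613958ac538d138c940b417, 1),
   (12, 12, 2, 0x2a0e3b26d8d10fb08b592566206e3, 0xad0e89df5652122d8cd9912302857, 1),
   (12, 12, 0, 0x135ca0b10791166a4ed02c6af48c17, 0x24ab53cc8256d26d071830ee15e61, 1),
   (14, 14, 35, 0xbd5ab441d6215874d2723284f88061, 0xbc2ca4a072246ada197361dcf09402, 2),
   (15, 15, 33, 0xa16e8d52792acc2c264335e305057, 0x36424be6a2d0ccaba3681d68206e3, 2),
   (21, 21, 0, 0x1967a3a0c2b52a921f598ed1106e4, 0x95133ac914c9d0ab1aaa59e030c57, 2),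
   (23, 23, 33, 0xb9d0124d8b751eab16324d4cd80c02, 0xbacce921236bc91830f5b155310281, 2)]

end Cfsg.Agent.Order244823040
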