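/-
The kernel check of the class representatives of `Cfsg.M24`.

Main results (namespace `Cfsg.Agent.Order244823040`): `repOK`, `reps_check`.
-/
import Cfsg.Agent.Lib.Order244823040.CountsData
import Cfsg.Agent.Lib.Order244823040.CountsBound

set_option autoImplicit false
set_option maxRecDepth 100000

open Cfsg Cfsg.Agent.Golay Cfsg.Agent.Order10200960

namespace Cfsg.Agent.Order244823040

/-- The number of points fixed by a power of a coded permutation. -/
def fixCode (r k : ℕ) : ℕ := ((List.range 24).filter fun i => iterCode r k i == i).length

/-- One class entry: codes valid, of the stated order and key, with the centraliser bound, and not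
conjugate to the inverse when two classes are claimed. -/
def repOK : ℕ × ℕ × ℕ × ℕ × ℕ × ℕ → Bool
  | (m, c, key, r, r', n) =>
    isAut r && validPerm r' && ((List.range 24).all fun i => fn r' (fn r i) == i) &&
      ((List.range 24).all fun i => iterCode r m i == i) &&
      ((List.range m).all fun k => k == 0 || (List.range 24).any fun i => iterCode r k i != i) &&
      (32 * fixCode r 1 + fixCode r 2 == key) &&
      decide (cbound r 7 = c) && decide (0 < c) && decide (0 < m) &&
      (n == 1 || (n == 2 && !ex r r' 7 []))

theorem reps_check0 : ((reps.drop 0).take 5).all repOK = true := by decide +kernel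

theorem reps_check1 : ((reps.drop 5).take 5).all repOK = true := by decide +kernel

theorem reps_check2 : ((reps.drop 10).take 5).all repOK = true := by decide +kernel

theorem reps_check3 : ((reps.drop 15).take 5).all repOK = true := by decide +kernel

theorem reps_eq : reps = (reps.drop 0).take 5 ++ (reps.drop 5).take 5 ++ (reps.drop 10).take 5 ++ (reps.drop 15).take 5 := by
  decide +kernel

theorem reps_check : reps.all repOK = true := by
  rw [reps_eq, List.all_append, List.all_append, List.all_append, reps_check0, reps_check1, reps_check2, reps_check3]
  rfl

end Cfsg.Agent.Order244823040
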