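/-
The numbers of elements of each order of `Cfsg.M24`.

Main results (namespace `Cfsg.Agent.Order244823040`): `numOrder_m24`, `values_m24`, `nseHyp_of_values`.
-/
import Cfsg.Agent.Lib.Order244823040.CountsCheck
import Cfsg.Agent.Lib.Order244823040.Orders
import Cfsg.Agent.Lib.Order10200960.Counts

set_option autoImplicit false
set_option maxRecDepth 100000

open Cfsg Cfsg.Agent.Golay Cfsg.Agent.SameOrder Cfsg.Agent.Order10200960

namespace Cfsg.Agent.Order244823040

/-- The lower bound given by one entry. -/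
def repVal (t : ℕ × ℕ × ℕ × ℕ × ℕ × ℕ) : ℕ := t.2.2.2.2.2 * (244823040 / t.2.1)

/-- The numbers of elements of each order. -/
def countTable : List (ℕ × ℕ) :=
  [(1, 1), (2, 43263), (3, 712448), (4, 5100480), (5, 4080384), (6, 20401920), (7, 11658240), (8, 15301440),
    (10, 12241152), (11, 22256640), (12, 40803840), (14, 34974720), (15, 32643072), (21, 23316480),
    (23, 21288960)]

theorem countTable_eq : ∀ e ∈ countTable, e.1 = 1 ∧ e.2 = 1 ∨
    e.2 = ((reps.filter fun t => t.1 == e.1).map repVal).sum := by decide +kernel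

theorem keys_nodup : ∀ e ∈ countTable, ((reps.filter fun t => t.1 == e.1).map fun t => t.2.2.1).Nodup := by
  decide +kernel

theorem card_centralizer_le {r : ℕ} (hr : validPerm r = true) :
    Nat.card {g : Equiv.Perm GolayPt // g ∈ Cfsg.M24 ∧ g * toPerm r = toPerm r * g} ≤ cbound r 7 :=
  card_centralizer_le_cbound hr 7 le_rfl

/-- The numbers of fixed points of an element and of its square, packed. -/
noncomputable def fixKey (x : ↥Cfsg.M24) : ℕ :=
  32 * Nat.card {p : GolayPt // ((x ^ 1 : ↥Cfsg.M24) : Equiv.Perm GolayPt) p = p} +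
    Nat.card {p : GolayPt // ((x ^ 2 : ↥Cfsg.M24) : Equiv.Perm GolayPt) p = p}

theorem fixKey_conj (u x : ↥Cfsg.M24) : fixKey (u * x * u⁻¹) = fixKey x := by
  have key : ∀ k : ℕ, Nat.card {p : GolayPt // (((u * x * u⁻¹) ^ k : ↥Cfsg.M24) : Equiv.Perm GolayPt) p = p} =
      Nat.card {p : GolayPt // ((x ^ k : ↥Cfsg.M24) : Equiv.Perm GolayPt) p = p} := fun k => by
    refine Nat.card_congr (Equiv.subtypeEquiv (u : Equiv.Perm GolayPt).symm fun p => ?_)
    rw [conj_pow, Subgroup.coe_mul, Subgroup.coe_mul, Subgroup.coe_inv, Equiv.Perm.mul_apply, Equiv.Perm.mul_apply,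
      Equiv.Perm.inv_def, ← Equiv.eq_symm_apply]
  simp only [fixKey, key]

theorem card_fixed_eq {r : ℕ} (hv : validPerm r = true) (hm : toPerm r ∈ Cfsg.M24) (k : ℕ) :
    Nat.card {p : GolayPt // (((⟨toPerm r, hm⟩ : ↥Cfsg.M24) ^ k : ↥Cfsg.M24) : Equiv.Perm GolayPt) p = p} =
      fixCode r k := by
  classical
  rw [Nat.card_eq_fintype_card, Fintype.card_subtype, fixCode,
    ← List.toFinset_card_of_nodup (List.Nodup.filter _ List.nodup_range)]
  refine Finset.card_bij' (fun p _ => idx p) (fun i _ => pt i) ?_ ?_ ?_ ?_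
  · intro p hp
    rw [Finset.mem_filter, SubgroupClass.coe_pow] at hp
    rw [List.mem_toFinset, List.mem_filter, List.mem_range, beq_iff_eq, ← idx_pow hv]
    exact ⟨idx_lt p, congrArg idx hp.2⟩
  · intro i hi
    rw [List.mem_toFinset, List.mem_filter, List.mem_range, beq_iff_eq] at hi
    rw [Finset.mem_filter, SubgroupClass.coe_pow]
    refine ⟨Finset.mem_univ _, idx_injective ?_⟩
    rw [idx_pow hv, idx_pt hi.1]
    exact hi.2
  · intro p _; exact pt_idx p
  · intro i hi
    rw [List.mem_toFinset, List.mem_filter, List.mem_range] at hi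
    exact idx_pt hi.1

/-- The count of one table entry is a lower bound for the elements with its order and key. -/
theorem count_lb {m c key r r' n : ℕ} (h : repOK (m, c, key, r, r', n) = true) :
    n * (244823040 / c) ≤ Nat.card {x : ↥Cfsg.M24 // orderOf x = m ∧ fixKey x = key} := by
  classical
  simp only [repOK, Bool.and_eq_true, Bool.or_eq_true, List.all_eq_true, List.any_eq_true, List.mem_range,
    beq_iff_eq, bne_iff_ne, decide_eq_true_eq, Bool.not_eq_true'] at h
  obtain ⟨⟨⟨⟨⟨⟨⟨⟨⟨hr, hr'⟩, hinv⟩, hpow⟩, hmin⟩, hkey⟩, hc⟩, hpos⟩, hm0⟩, hn⟩ := h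
  have hv := validPerm_of_isAut hr
  have hmem : toPerm r ∈ Cfsg.M24 := toPerm_mem_M24 hr
  set g : ↥Cfsg.M24 := ⟨toPerm r, hmem⟩ with hg
  have hord : orderOf g = m := by
    refine (orderOf_eq_iff hm0).mpr ⟨Subtype.ext (Equiv.ext fun p => idx_injective ?_), fun k hk hk0 e => ?_⟩
    · rw [SubgroupClass.coe_pow, idx_pow hv]
      exact hpow _ (idx_lt p)
    · rcases hmin k hk with h0 | ⟨i, hi, hne⟩
      · omega
      · have e' := congrArg (fun x : ↥Cfsg.M24 => idx ((x : Equiv.Perm GolayPt) (pt i))) e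
        simp only [SubgroupClass.coe_pow, OneMemClass.coe_one, Equiv.Perm.one_apply, hg] at e'
        rw [idx_pow hv, idx_pt hi] at e'
        exact hne e'
  have hgkey : fixKey g = key := by
    rw [fixKey, hg, card_fixed_eq hv hmem, card_fixed_eq hv hmem, hkey]
  have hcent : Nat.card {x : ↥Cfsg.M24 // x * g = g * x} ≤ c := by
    rw [← hc]
    exact le_trans (Nat.card_le_card_of_injective
      (fun x => (⟨x.1.1, x.1.2, congrArg Subtype.val x.2⟩ :
        {y : Equiv.Perm GolayPt // y ∈ Cfsg.M24 ∧ y * toPerm r = toPerm r * y}))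
      fun a b e => Subtype.ext (Subtype.ext (congrArg (fun y : {y : Equiv.Perm GolayPt //
          y ∈ Cfsg.M24 ∧ y * toPerm r = toPerm r * y} => (y : Equiv.Perm GolayPt)) e))) (card_centralizer_le hv)
  have hlb : ∀ x : ↥Cfsg.M24, IsConj g x → orderOf x = m ∧ fixKey x = key := fun x hx => by
    obtain ⟨u, rfl⟩ := isConj_iff.mp hx
    exact ⟨(orderOf_injective (MulAut.conj u).toMonoidHom (MulEquiv.injective _) g).trans hord,
      (fixKey_conj u g).trans hgkey⟩
  have h1 := Order10200960.class_card_lb g hcent hpos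
  rw [natCard_M24] at h1
  have hsub : Nat.card {x : ↥Cfsg.M24 // IsConj g x} ≤
      Nat.card {x : ↥Cfsg.M24 // orderOf x = m ∧ fixKey x = key} :=
    Nat.card_le_card_of_injective (fun x => ⟨x.1, hlb x.1 x.2⟩)
      fun a b e => Subtype.ext (congrArg Subtype.val e :)
  rcases hn with rfl | ⟨rfl, hzero⟩
  · rw [one_mul]; exact h1.trans hsub
  · have hgi : toPerm r' = (toPerm r)⁻¹ := by
      refine eq_inv_of_mul_eq_one_left (Equiv.ext fun p => idx_injective ?_)
      rw [Equiv.Perm.mul_apply, idx_toPerm hr', idx_toPerm hv, hinv _ (idx_lt p)]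
      rfl
    have hnot : ¬ IsConj g g⁻¹ := fun hcj => by
      obtain ⟨u, hu⟩ := isConj_iff.mp hcj
      have e : u.1 * toPerm r * u.1⁻¹ = (toPerm r)⁻¹ := congrArg Subtype.val hu
      have h' := ex_of_conj hv hr' (j := 7) le_rfl (ds := []) (by simp) (h := u.1) (by simpa [chain] using u.2)
        (by simp only [prodPerm, List.map_nil, List.prod_nil, one_mul]; rw [hgi, ← e, inv_mul_cancel_right])
      rw [hzero] at h'
      exact Bool.noConfusion h'
    have hci : Nat.card {x : ↥Cfsg.M24 // x * g⁻¹ = g⁻¹ * x} ≤ c :=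
      le_trans (le_of_eq (Nat.card_congr (Equiv.subtypeEquivRight fun x => by
        constructor <;> intro h
        · have := congrArg (fun y => g * y * g) h; simpa [mul_assoc] using this.symm
        · have := congrArg (fun y => g⁻¹ * y * g⁻¹) h; simpa [mul_assoc] using this.symm))) hcent
    have h2 := Order10200960.class_card_lb g⁻¹ hci hpos
    rw [natCard_M24] at h2
    have hkinv : fixKey g⁻¹ = key := by
      rw [← hgkey]
      have key' : ∀ k : ℕ, Nat.card {p : GolayPt // (((g⁻¹) ^ k : ↥Cfsg.M24) : Equiv.Perm GolayPt) p = p} =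
          Nat.card {p : GolayPt // ((g ^ k : ↥Cfsg.M24) : Equiv.Perm GolayPt) p = p} := fun k =>
        Nat.card_congr (Equiv.subtypeEquivRight fun p => by
          rw [inv_pow, Subgroup.coe_inv, Equiv.Perm.inv_eq_iff_eq, eq_comm])
      simp only [fixKey, key']
    have hlb' : ∀ x : ↥Cfsg.M24, IsConj g⁻¹ x → orderOf x = m ∧ fixKey x = key := fun x hx => by
      obtain ⟨u, rfl⟩ := isConj_iff.mp hx
      exact ⟨(orderOf_injective (MulAut.conj u).toMonoidHom (MulEquiv.injective _) g⁻¹).trans
        ((orderOf_inv g).trans hord), (fixKey_conj u g⁻¹).trans hkinv⟩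
    have hinj : Function.Injective (Sum.elim
        (fun x : {x : ↥Cfsg.M24 // IsConj g x} => (⟨x.1, hlb x.1 x.2⟩ :
          {y : ↥Cfsg.M24 // orderOf y = m ∧ fixKey y = key}))
        (fun x : {x : ↥Cfsg.M24 // IsConj g⁻¹ x} => ⟨x.1, hlb' x.1 x.2⟩)) := by
      refine Function.Injective.sumElim (fun a b e => Subtype.ext (congrArg Subtype.val e :))
        (fun a b e => Subtype.ext (congrArg Subtype.val e :)) fun a b e => ?_
      have e' : a.1 = b.1 := congrArg Subtype.val e
      exact hnot (a.2.trans (e' ▸ b.2.symm))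
    have h3 := Nat.card_le_card_of_injective _ hinj
    rw [Nat.card_sum] at h3
    calc 2 * (244823040 / c) ≤
          Nat.card {x : ↥Cfsg.M24 // IsConj g x} + Nat.card {x : ↥Cfsg.M24 // IsConj g⁻¹ x} := by omega
      _ ≤ _ := h3

theorem list_sum_key {α β : Type*} [DecidableEq α] [DecidableEq β] (S : Finset α) (f : α → β) :
    ∀ l : List β, l.Nodup → (l.map fun b => (S.filter fun a => f a = b).card).sum ≤ S.card := by
  intro l hl
  rw [← List.sum_toFinset _ hl, ← Finset.card_biUnion fun a _ b _ hab => Finset.disjoint_filter.mpr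
    fun x _ h1 h2 => hab (h1.symm.trans h2)]
  exact Finset.card_le_card fun x hx => by
    obtain ⟨b, -, hb⟩ := Finset.mem_biUnion.mp hx
    exact (Finset.mem_filter.mp hb).1

theorem count_table_lb : ∀ e ∈ countTable, e.2 ≤ numOrder ↥Cfsg.M24 e.1 := by
  classical
  intro e he
  rcases countTable_eq e he with ⟨h1, h2⟩ | h
  · rw [h1, h2]; exact (numOrder_one (G := ↥Cfsg.M24)).ge
  have := Fintype.ofFinite ↥Cfsg.M24
  set rs := reps.filter fun t => t.1 == e.1 with hrs
  rw [h]
  refine le_trans ?_ ((list_sum_key (Finset.univ.filter fun x : ↥Cfsg.M24 => orderOf x = e.1) fixKey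
    (rs.map fun t => t.2.2.1) (keys_nodup e he)).trans (le_of_eq ?_))
  · rw [List.map_map]
    refine List.sum_le_sum fun t ht => ?_
    rw [hrs, List.mem_filter, beq_iff_eq] at ht
    obtain ⟨m, c, key, r, r', n⟩ := t
    refine le_trans (count_lb (List.all_eq_true.mp reps_check _ ht.1)) (le_of_eq ?_)
    rw [Function.comp_apply, Nat.card_eq_fintype_card, Fintype.card_subtype, Finset.filter_filter]
    simp only at ht
    rw [ht.2]
  · rw [numOrder, Nat.card_eq_fintype_card, Fintype.card_subtype]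

/-- The numbers of elements of each order of `M24`. -/
theorem numOrder_m24 (m : ℕ) : numOrder ↥Cfsg.M24 m = (countTable.lookup m).getD 0 := by
  classical
  have := Fintype.ofFinite ↥Cfsg.M24
  set f := fun m => numOrder ↥Cfsg.M24 m with hf
  set b := fun m => (countTable.lookup m).getD 0 with hb
  have hle : ∀ k, b k ≤ f k := fun k => by
    simp only [hb]
    cases h : countTable.lookup k with
    | none => exact Nat.zero_le _
    | some v =>
      obtain ⟨e, he, hk, hv⟩ : ∃ e ∈ countTable, e.1 = k ∧ e.2 = v := by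
        obtain ⟨_, _, heq, -⟩ := List.lookup_eq_some_iff.mp h
        exact ⟨(k, v), by rw [heq]; simp, rfl, rfl⟩
      subst hk hv
      exact count_table_lb e he
  by_contra hne
  have hlt : b m < f m := lt_of_le_of_ne (hle m) (Ne.symm hne)
  set K : Finset ℕ := insert m (countTable.map Prod.fst).toFinset with hK
  have hsum : ∑ k ∈ K, f k ≤ 244823040 := natCard_M24 ▸ Order10200960.sum_numOrder_le ↥Cfsg.M24 K
  have hb' : ∑ k ∈ K, b k = 244823040 := by
    rw [← Finset.sum_subset (Finset.subset_insert m _) (fun k _ hk => ?_)]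
    · simp only [hb, countTable]
      decide +kernel
    · simp only [hb]
      cases h : countTable.lookup k with
      | none => rfl
      | some v =>
        obtain ⟨_, _, heq, -⟩ := List.lookup_eq_some_iff.mp h
        exact absurd (List.mem_toFinset.mpr (by rw [heq]; simp)) hk
  have := Finset.sum_lt_sum (s := K) (fun k _ => hle k) ⟨m, hK ▸ Finset.mem_insert_self m _, hlt⟩
  change ∑ k ∈ K, b k < ∑ k ∈ K, f k at this
  omega

theorem table_values : (∀ e ∈ countTable, e.2 ∈ valueList) ∧ (∀ v ∈ valueList, ∃ e ∈ countTable, e.2 = v) ∧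
    (∀ e ∈ countTable, (countTable.lookup e.1).getD 0 = e.2) ∧ ∀ v ∈ valueList, 0 < v := by decide +kernel

theorem values_m24 :
    {c : ℕ | 0 < c ∧ ∃ n : ℕ, c = Nat.card {g : ↥Cfsg.M24 // orderOf g = n}} = {c | c ∈ valueList} := by
  ext c
  constructor
  · rintro ⟨hc, n, rfl⟩
    have h := numOrder_m24 n
    rw [numOrder] at h
    rw [Set.mem_ofPred_eq, h]
    cases hl : countTable.lookup n with
    | none => rw [hl] at h; rw [h] at hc; simp at hc
    | some v =>
      obtain ⟨_, _, heq, -⟩ := List.lookup_eq_some_iff.mp hl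
      exact table_values.1 (n, v) (by rw [heq]; simp)
  · intro hc
    obtain ⟨e, he, rfl⟩ := table_values.2.1 c hc
    exact ⟨table_values.2.2.2 _ hc, e.1, ((numOrder_m24 e.1).trans (table_values.2.2.1 e he)).symm⟩

/-- The hypothesis on the values, from equality of the value sets. -/
theorem nseHyp_of_values {G : Type*} [Group G] [Finite G]
    (hnse : {c : ℕ | 0 < c ∧ ∃ n : ℕ, c = Nat.card {g : G // orderOf g = n}} =
      {c : ℕ | 0 < c ∧ ∃ n : ℕ, c = Nat.card {g : ↥Cfsg.M24 // orderOf g = n}}) : NseHyp G := by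
  rw [values_m24] at hnse
  refine ⟨fun m => ?_, fun v hv => ?_⟩
  · rcases Nat.eq_zero_or_pos (numOrder G m) with h | h
    · exact Or.inl h
    · exact Or.inr ((Set.ext_iff.mp hnse _).mp ⟨h, m, rfl⟩)
  · obtain ⟨-, m, hm⟩ := (Set.ext_iff.mp hnse v).mpr hv
    exact ⟨m, hm.symm⟩

end Cfsg.Agent.Order244823040
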