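/-
The four remaining orders of elements, by the theorem of Frobenius.

Main results (namespace `Cfsg.Agent.Order244823040`): `orderData_of_nse`.
-/
import Cfsg.Agent.Lib.Order244823040.Orders

set_option autoImplicit false

open Subgroup Cfsg.Agent.SameOrder Cfsg.Agent.SmallOrders Cfsg.Agent.Order10200960

namespace Cfsg.Agent.Order244823040

/-- The orders with forced counts. -/
def fixedTable : List (ℕ × ℕ) :=
  [(1, 1), (2, 43263), (3, 712448), (5, 4080384), (7, 11658240), (10, 12241152), (11, 22256640),
    (14, 34974720), (15, 32643072), (21, 23316480), (23, 21288960)]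

/-- The four other values. -/
def restValues : List ℕ := [5100480, 15301440, 20401920, 40803840]

/-- The divisors of `2 ^ 10 * 3 ^ 3`. -/
def smoothDivs : List ℕ := ((List.range 11).flatMap fun i => (List.range 4).map fun j => 2 ^ i * 3 ^ j)

/-- The orders with at most four divisors above three. -/
def cand : List ℕ := [4, 6, 8, 9, 12, 16, 18, 27, 32]

theorem cand_check : smoothDivs.all (fun m =>
    m < 4 || cand.contains m || 4 < (smoothDivs.filter fun d => 4 ≤ d && m % d == 0).length) = true := by
  decide +kernel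

theorem smoothDivs_nodup : smoothDivs.Nodup := by decide +kernel

/-- The congruences of Frobenius and closure under divisors, for four candidate orders. -/
def frobOK (a b c d : ℕ) : Bool :=
  ([1024, 54, 384, 108].all fun M =>
    (((fixedTable.filter fun e => M % e.1 == 0).map Prod.snd).sum + (if M % a == 0 then 5100480 else 0) +
      (if M % b == 0 then 15301440 else 0) + (if M % c == 0 then 20401920 else 0) +
      (if M % d == 0 then 40803840 else 0)) % M == 0) &&
  (cand.all fun e => !([a, b, c, d].any fun w => w % e == 0) || [a, b, c, d].contains e)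

theorem frob_check : cand.all (fun a => cand.all fun b => cand.all fun c => cand.all fun d =>
    !(frobOK a b c d && [a, b, c, d].Nodup) || c == 6) = true := by decide +kernel

theorem fixed_filter : ∀ M ∈ [1024, 54, 384, 108],
    ((fixedTable.filter fun e => M % e.1 == 0).map Prod.snd).sum =
      (fixedTable.map fun e => if M % e.1 = 0 then e.2 else 0).sum := by
  decide +kernel

variable {G : Type*} [Group G] [Finite G] (hn : Nat.card G = 244823040) (H : NseHyp G)
include hn H

theorem fixed_values {e : ℕ × ℕ} (he : e ∈ fixedTable) : numOrder G e.1 = e.2 := by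
  have : Fact (Nat.Prime 5) := ⟨by norm_num⟩
  have : Fact (Nat.Prime 7) := ⟨by norm_num⟩
  have h5 : (5, 4080384) ∈ forced := by decide
  have h7 : (7, 11658240) ∈ forced := by decide
  obtain ⟨a, ha⟩ := exists_prime_orderOf_dvd_card' (G := G) 5 (by rw [hn]; norm_num)
  obtain ⟨b, hb⟩ := exists_prime_orderOf_dvd_card' (G := G) 7 (by rw [hn]; norm_num)
  obtain ⟨k2, k3, -⟩ := counts_five hn H ha
  obtain ⟨-, l2, l3⟩ := cent_seven hn H hb
  simp only [fixedTable, List.mem_cons, List.not_mem_nil, or_false] at he
  rcases he with rfl | rfl | rfl | rfl | rfl | rfl | rfl | rfl | rfl | rfl | rfl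
  · exact numOrder_one
  all_goals first
    | exact numOrder_forced hn H (by norm_num) (by decide)
    | (show numOrder G (5 * 2) = _
       rw [pair_count hn H h5 (m := 48964608) (by norm_num) (by norm_num) (by norm_num) (by norm_num) ha, k2])
    | (show numOrder G (5 * 3) = _
       rw [pair_count hn H h5 (m := 48964608) (by norm_num) (by norm_num) (by norm_num) (by norm_num) ha, k3])
    | (show numOrder G (7 * 2) = _
       rw [pair_count hn H h7 (m := 34974720) (by norm_num) (by norm_num) (by norm_num) (by norm_num) hb, l2])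
    | (show numOrder G (7 * 3) = _
       rw [pair_count hn H h7 (m := 34974720) (by norm_num) (by norm_num) (by norm_num) (by norm_num) hb, l3])

/-- The orders: the fixed ones and exactly four more. -/
theorem exists_rest : ∃ a b c d : ℕ, [a, b, c, d].Nodup ∧ (∀ w ∈ [a, b, c, d], w ∉ fixedTable.map Prod.fst) ∧
    numOrder G a = 5100480 ∧ numOrder G b = 15301440 ∧ numOrder G c = 20401920 ∧ numOrder G d = 40803840 ∧
    ∀ m, numOrder G m ≠ 0 → m ∈ fixedTable.map Prod.fst ∨ m ∈ [a, b, c, d] := by
  classical
  obtain ⟨a, ha⟩ := H.2 5100480 (by decide)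
  obtain ⟨b, hb⟩ := H.2 15301440 (by decide)
  obtain ⟨c, hc⟩ := H.2 20401920 (by decide)
  obtain ⟨d, hd⟩ := H.2 40803840 (by decide)
  have hout : ∀ w v, numOrder G w = v → v ∈ restValues → w ∉ fixedTable.map Prod.fst := fun w v hw hv hmem => by
    obtain ⟨e, he, rfl⟩ := List.mem_map.mp hmem
    rw [fixed_values hn H he] at hw
    exact absurd hw ((by decide +kernel : ∀ e ∈ fixedTable, ∀ v ∈ restValues, e.2 ≠ v) e he v hv)
  have hW : ∀ w ∈ [a, b, c, d], w ∉ fixedTable.map Prod.fst := by
    intro w hw
    simp only [List.mem_cons, List.not_mem_nil, or_false] at hw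
    rcases hw with rfl | rfl | rfl | rfl
    exacts [hout _ _ ha (by decide), hout _ _ hb (by decide), hout _ _ hc (by decide), hout _ _ hd (by decide)]
  have hnd : [a, b, c, d].Nodup := by
    simp only [List.nodup_cons, List.mem_cons, List.not_mem_nil, not_or, List.nodup_nil, and_true, or_false,
      not_false_eq_true]
    refine ⟨⟨?_, ?_, ?_⟩, ⟨?_, ?_⟩, ?_⟩ <;> rintro rfl <;> omega
  refine ⟨a, b, c, d, hnd, hW, ha, hb, hc, hd, fun m hm => ?_⟩
  by_contra hno
  rw [not_or] at hno
  have hL : (fixedTable.map Prod.fst ++ [a, b, c, d] ++ [m]).Nodup := by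
    refine List.Nodup.append (List.Nodup.append (by decide +kernel) hnd fun x hx hx' => hW x hx' hx)
      (List.nodup_singleton m) fun x hx hx' => ?_
    rw [List.mem_singleton] at hx'
    subst hx'
    rcases List.mem_append.mp hx with h | h
    exacts [hno.1 h, hno.2 h]
  have hsum := sum_numOrder_le G (fixedTable.map Prod.fst ++ [a, b, c, d] ++ [m]).toFinset
  rw [List.sum_toFinset _ hL, List.map_append, List.sum_append, List.map_append, List.sum_append,
    List.map_map, List.map_congr_left (f := (fun k => numOrder G k) ∘ Prod.fst) (g := Prod.snd)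
      fun e he => fixed_values hn H he, hn] at hsum
  simp only [fixedTable, List.map_cons, List.map_nil, List.sum_cons, List.sum_nil] at hsum
  omega

omit hn H in
theorem order_of_prime_part {p : ℕ} [Fact p.Prime] {g : G} (h : p ∣ orderOf g) :
    ∃ a : G, orderOf a = p ∧ a * g = g * a :=
  ⟨g ^ (orderOf g / p), orderOf_pow_orderOf_div (orderOf_pos g).ne' h, Commute.pow_self g _⟩

theorem cent_five {g : G} (hg : orderOf g = 5) :
    Nat.card (cnt1 g) = 5 * 12 ∧ commCount g 2 = 3 ∧ commCount g 3 = 8 := by
  classical
  have : Fact (Nat.Prime 5) := ⟨by norm_num⟩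
  have hsq : ¬ 5 ^ 2 ∣ Nat.card G := by rw [hn]; norm_num
  obtain ⟨k2, k3, c, hc, hc48, hc12⟩ := counts_five hn H hg
  refine ⟨?_, k2, k3⟩
  obtain ⟨a, b, w, d, -, hW, ha, hb, hw, hd, hall⟩ := exists_rest hn H
  have key : ∀ q, commCount g q ≠ 0 → ¬ 5 ∣ q → q ∈ [1, 2, 3] ∨ (5 * q = d ∧ commCount g q = 10) := by
    intro q hq h5
    by_cases hq3 : q ∈ [1, 2, 3]
    · exact Or.inl hq3
    refine Or.inr ?_
    simp only [List.mem_cons, List.not_mem_nil, or_false, not_or] at hq3
    have hq0 : q ≠ 0 := fun e => by
      rw [e] at h5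
      exact h5 (dvd_zero 5)
    have hcount := pair_count hn H (p := 5) (v := 4080384) (q := q) (m := 48964608) (by decide) (by norm_num)
      (by norm_num) ((Nat.Prime.coprime_iff_not_dvd (by norm_num)).mpr h5) hq0 hg
    have hev : 2 ∣ commCount g q := by
      rw [← commCount_eq_numOrder]
      exact (even_iff_two_dvd.mp (Nat.totient_even (by omega))).trans (totient_dvd q)
    have hne : numOrder G (5 * q) ≠ 0 := by rw [hcount]; omega
    rcases hall _ hne with h | h
    · exfalso
      simp only [fixedTable, List.map_cons, List.map_nil, List.mem_cons, List.not_mem_nil, or_false] at h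
      omega
    · simp only [List.mem_cons, List.not_mem_nil, or_false] at h
      rcases h with h | h | h | h
      · rw [h, ha] at hcount; omega
      · rw [h, hb] at hcount; omega
      · rw [h, hw] at hcount; omega
      · rw [h, hd] at hcount; omega
  have := Fintype.ofFinite G
  let T : ℕ → Finset G := fun q => Finset.univ.filter fun y => orderOf y = q ∧ g * y = y * g
  have hT : ∀ q, (T q).card = commCount g q := fun q => by
    rw [commCount, Nat.card_eq_fintype_card, Fintype.card_subtype]
  let T' : Finset G := (T (d / 5)).filter fun y => ¬ 5 ∣ orderOf y ∧ orderOf y ∉ [1, 2, 3]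
  have hT' : T'.card ≤ 10 := by
    rcases T'.eq_empty_or_nonempty with h | ⟨y, hy⟩
    · rw [h]; simp
    · simp only [T', T, Finset.mem_filter, Finset.mem_univ, true_and] at hy
      refine (Finset.card_filter_le _ _).trans ?_
      rw [hT, ← hy.1.1]
      have hne : commCount g (orderOf y) ≠ 0 := Nat.card_ne_zero.mpr ⟨⟨⟨y, rfl, hy.1.2⟩⟩, inferInstance⟩
      exact (((key _ hne hy.2.1).resolve_left hy.2.2).2).le
  have hsub : (Finset.univ.filter fun y => y ^ c = 1 ∧ g * y = y * g) ⊆
      insert (1 : G) (T 2 ∪ T 3 ∪ T') := by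
    intro y hy
    simp only [Finset.mem_filter, Finset.mem_univ, true_and] at hy
    simp only [Finset.mem_insert, Finset.mem_union, T', T, Finset.mem_filter, Finset.mem_univ, true_and]
    have hne : commCount g (orderOf y) ≠ 0 := Nat.card_ne_zero.mpr ⟨⟨⟨y, rfl, hy.2⟩⟩, inferInstance⟩
    have h5 : ¬ 5 ∣ orderOf y := fun h =>
      not_dvd_cofactor' hsq hc (h.trans (orderOf_dvd_of_pow_eq_one hy.1))
    by_cases h123 : orderOf y ∈ [1, 2, 3]
    · simp only [List.mem_cons, List.not_mem_nil, or_false] at h123
      rcases h123 with h | h | h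
      · exact Or.inl (orderOf_eq_one_iff.mp h)
      · exact Or.inr (Or.inl (Or.inl ⟨h, hy.2⟩))
      · exact Or.inr (Or.inl (Or.inr ⟨h, hy.2⟩))
    · obtain ⟨h, -⟩ := (key _ hne h5).resolve_left h123
      exact Or.inr (Or.inr ⟨⟨by omega, hy.2⟩, h5, h123⟩)
  have hle := Finset.card_le_card hsub
  have hS := card_cent_eq hsq hg hc
  rw [Nat.card_eq_fintype_card, Fintype.card_subtype] at hS
  have h22 : c ≤ 22 := by
    have h1 := Finset.card_insert_le (1 : G) (T 2 ∪ T 3 ∪ T')
    have h2 := Finset.card_union_le (T 2 ∪ T 3) T'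
    have h3 := Finset.card_union_le (T 2) (T 3)
    rw [hT, hT] at h3
    omega
  rw [hc]
  have := Nat.le_of_dvd (by norm_num) hc48
  interval_cases c <;> omega

theorem orderOf_mem {g : G} (hm : orderOf g ∉ fixedTable.map Prod.fst) :
    orderOf g ∈ smoothDivs := by
  have hno : ∀ p : ℕ, [5, 7, 11, 23].contains p → ¬ p ∣ orderOf g := by
    intro p hp hdvd
    apply hm
    simp only [List.contains_iff_mem, List.mem_cons, List.not_mem_nil, or_false] at hp
    rcases hp with rfl | rfl | rfl | rfl
    · have : Fact (Nat.Prime 5) := ⟨by norm_num⟩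
      obtain ⟨a, ha, hag⟩ := order_of_prime_part hdvd
      obtain ⟨hC, k2, k3⟩ := cent_five hn H ha
      have := orderOf_cases (by rw [hn]; norm_num) ha hC (by omega) (by norm_num) hag
      simp only [fixedTable, List.map_cons, List.map_nil, List.mem_cons, List.not_mem_nil, or_false] at this ⊢
      omega
    · have : Fact (Nat.Prime 7) := ⟨by norm_num⟩
      obtain ⟨a, ha, hag⟩ := order_of_prime_part hdvd
      obtain ⟨hC, k2, k3⟩ := cent_seven hn H ha
      have := orderOf_cases (by rw [hn]; norm_num) ha hC (by omega) (by norm_num) hag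
      simp only [fixedTable, List.map_cons, List.map_nil, List.mem_cons, List.not_mem_nil, or_false] at this ⊢
      omega
    · have : Fact (Nat.Prime 11) := ⟨by norm_num⟩
      obtain ⟨a, ha, hag⟩ := order_of_prime_part hdvd
      have h := orderOf_dvd_natCard (⟨g, mem_cnt1.mpr hag⟩ : cnt1 a)
      rw [orderOf_mk, cent_eleven hn H ha] at h
      rw [Nat.dvd_antisymm h hdvd]
      decide
    · have : Fact (Nat.Prime 23) := ⟨by norm_num⟩
      obtain ⟨a, ha, hag⟩ := order_of_prime_part hdvd
      have h := orderOf_dvd_natCard (⟨g, mem_cnt1.mpr hag⟩ : cnt1 a)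
      rw [orderOf_mk, cent_twentythree hn H ha] at h
      rw [Nat.dvd_antisymm h hdvd]
      decide
  have hco : (orderOf g).Coprime (5 * 7 * 11 * 23) :=
    Nat.Coprime.mul_right (Nat.Coprime.mul_right (Nat.Coprime.mul_right
      ((Nat.Prime.coprime_iff_not_dvd (by norm_num)).mpr (hno 5 rfl)).symm
      ((Nat.Prime.coprime_iff_not_dvd (by norm_num)).mpr (hno 7 rfl)).symm)
      ((Nat.Prime.coprime_iff_not_dvd (by norm_num)).mpr (hno 11 rfl)).symm)
      ((Nat.Prime.coprime_iff_not_dvd (by norm_num)).mpr (hno 23 rfl)).symm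
  have hdvd : orderOf g ∣ 2 ^ 10 * 3 ^ 3 := by
    refine hco.dvd_of_dvd_mul_right (n := 5 * 7 * 11 * 23) ?_
    rw [show (2 ^ 10 * 3 ^ 3 * (5 * 7 * 11 * 23) : ℕ) = Nat.card G by rw [hn]; norm_num]
    exact orderOf_dvd_natCard g
  obtain ⟨u, v, hu, hv, huv⟩ := Nat.dvd_mul.mp hdvd
  obtain ⟨i, hi, rfl⟩ := (Nat.dvd_prime_pow Nat.prime_two).mp hu
  obtain ⟨j, hj, rfl⟩ := (Nat.dvd_prime_pow Nat.prime_three).mp hv
  exact List.mem_flatMap.mpr
    ⟨i, List.mem_range.mpr (by omega), List.mem_map.mpr ⟨j, List.mem_range.mpr (by omega), huv⟩⟩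

theorem numOrder_six : numOrder G 6 = 20401920 := by
  classical
  obtain ⟨a, b, c, d, hnd, hW, ha, hb, hc, hd, hall⟩ := exists_rest hn H
  have hne : ∀ w ∈ [a, b, c, d], ∃ g : G, orderOf g = w := fun w hw => by
    refine numOrder_ne_zero_iff.mp ?_
    simp only [List.mem_cons, List.not_mem_nil, or_false] at hw
    rcases hw with rfl | rfl | rfl | rfl <;> omega
  have hclosed : ∀ w ∈ [a, b, c, d], ∀ e, 4 ≤ e → w % e = 0 → e ∈ smoothDivs → e ∈ [a, b, c, d] := by
    intro w hw e he hwe hes
    obtain ⟨g, hg⟩ := hne w hw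
    have hdvd : e ∣ orderOf g := hg ▸ Nat.dvd_of_mod_eq_zero hwe
    have hord := orderOf_pow_orderOf_div (orderOf_pos g).ne' hdvd
    refine (hall e (numOrder_ne_zero_iff.mpr ⟨_, hord⟩)).resolve_left fun h => ?_
    exact (by decide +kernel : ∀ e ∈ smoothDivs, 4 ≤ e → e ∉ fixedTable.map Prod.fst) e hes he h
  have hmem : ∀ w ∈ [a, b, c, d], w ∈ cand := by
    intro w hw
    obtain ⟨g, hg⟩ := hne w hw
    have hwS : w ∈ smoothDivs := hg ▸ orderOf_mem hn H (hg ▸ hW w hw)
    have h := List.all_eq_true.mp cand_check w hwS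
    simp only [Bool.or_eq_true, decide_eq_true_eq, List.contains_iff_mem] at h
    rcases h with (h | h) | h
    · exfalso
      have := hW w hw
      simp only [fixedTable, List.map_cons, List.map_nil, List.mem_cons, List.not_mem_nil, or_false] at this
      have h0 : w ≠ 0 := hg ▸ (orderOf_pos g).ne'
      omega
    · exact h
    · exfalso
      have hsub : (smoothDivs.filter fun e => 4 ≤ e && w % e == 0) ⊆ [a, b, c, d] := fun e he => by
        simp only [List.mem_filter, Bool.and_eq_true, decide_eq_true_eq, beq_iff_eq] at he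
        exact hclosed w hw e he.2.1 he.2.2 he.1
      have := ((smoothDivs_nodup.filter _).subperm hsub).length_le
      simp only [List.length_cons, List.length_nil] at this
      omega
  have h := List.all_eq_true.mp (List.all_eq_true.mp (List.all_eq_true.mp (List.all_eq_true.mp frob_check a
    (hmem a (by simp))) b (hmem b (by simp))) c (hmem c (by simp))) d (hmem d (by simp))
  have hok : frobOK a b c d = true := by
    rw [frobOK, Bool.and_eq_true, List.all_eq_true, List.all_eq_true]
    constructor
    · intro M hM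
      rw [beq_iff_eq]
      have hdiv : M ∣ Nat.card G := by
        rw [hn]
        exact Nat.dvd_of_mod_eq_zero
          ((by decide +kernel : ∀ M ∈ [1024, 54, 384, 108], 244823040 % M = 0) M hM)
      have hf := dvd_sum_numOrder (G := G) hdiv
      have hM0 : M ≠ 0 := (by decide : ∀ M ∈ [1024, 54, 384, 108], M ≠ 0) M hM
      set L := fixedTable.map Prod.fst ++ [a, b, c, d] with hL
      have hLnd : L.Nodup := List.Nodup.append (by decide +kernel) hnd fun x hx hx' => hW x hx' hx
      have e1 : ∑ e ∈ M.divisors, numOrder G e = ∑ e ∈ L.toFinset, if M % e = 0 then numOrder G e else 0 := by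
        rw [← Finset.sum_filter]
        refine (Finset.sum_subset (fun e he => ?_) fun e he he' => ?_).symm
        · rw [Finset.mem_filter] at he
          exact Nat.mem_divisors.mpr ⟨Nat.dvd_of_mod_eq_zero he.2, hM0⟩
        · by_contra hne
          refine he' (Finset.mem_filter.mpr ⟨List.mem_toFinset.mpr ?_, Nat.mod_eq_zero_of_dvd
            (Nat.dvd_of_mem_divisors he)⟩)
          exact List.mem_append.mpr (hall e hne)
      rw [e1, List.sum_toFinset _ hLnd, hL, List.map_append, List.sum_append, List.map_map,
        List.map_congr_left (g := fun e : ℕ × ℕ => if M % e.1 = 0 then e.2 else 0)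
          fun e he => by simp [fixed_values hn H he]] at hf
      simp only [List.map_cons, List.map_nil, List.sum_cons, List.sum_nil, ha, hb, hc, hd] at hf
      rw [Nat.dvd_iff_mod_eq_zero] at hf
      refine Eq.trans ?_ hf
      congr 1
      simp only [fixed_filter M hM, beq_iff_eq]
      ring
    · intro e he
      rw [Bool.or_eq_true, Bool.not_eq_true', List.contains_iff_mem]
      by_cases hany : [a, b, c, d].any (fun w => w % e == 0) = true
      · obtain ⟨w, hw, hwe⟩ := List.any_eq_true.mp hany
        exact Or.inr (hclosed w hw e ((by decide : ∀ e ∈ cand, 4 ≤ e) e he) (beq_iff_eq.mp hwe)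
          ((by decide +kernel : ∀ e ∈ cand, e ∈ smoothDivs) e he))
      · exact Or.inl (Bool.eq_false_of_not_eq_true hany)
  rw [hok] at h
  simp only [Bool.true_and, Bool.or_eq_true, Bool.not_eq_true', decide_eq_false_iff_not, beq_iff_eq] at h
  rw [← h.resolve_left (not_not.mpr hnd), hc]

theorem orderData_of_nse : OrderData G where
  card := hn
  num_two := numOrder_two hn H
  num_three := numOrder_forced hn H (by norm_num) (by decide)
  num_six := numOrder_six hn H
  num_eleven := numOrder_forced hn H (by norm_num) (by decide)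
  cent_twentythree := fun _ h => cent_twentythree hn H h
  cent_eleven := fun _ h => cent_eleven hn H h
  norm_eleven := fun _ h => norm_eleven hn H h
  cent_seven := fun _ h => cent_seven hn H h
  norm_seven := fun _ h => norm_seven hn H h
  cent_five := fun _ h => cent_five hn H h
  norm_five := fun _ h => norm_five hn H h

end Cfsg.Agent.Order244823040
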